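/-
Systems of symplectic type inside a unitary similitude group over the field with p^2 elements.
Main results: `USetup`, `Cn` (transvection centres), `Cn.apply`, `Cn.step`, `exists_partner_iso`,
`exists_isotropic`, `trans_anisotropic` (transvection steps are transitive on vectors of one nonzero norm).
-/
import Cfsg.Agent.Lib.C6Two.Final
import Cfsg.Agent.Lib.Unitary.Form

set_option autoImplicit false
set_option linter.unusedSectionVars false

namespace Cfsg.Agent.C6U

open Cfsg.Agent Cfsg.Agent.C6Two Cfsg.Agent.Unitary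

variable {F : Type*} [Field F] [Fintype F] {p : ℕ} {V : Type*} [AddCommGroup V] [Module F V]

/-- A system inside a group of unitary similitudes. -/
structure USetup (p : ℕ) (h : V → V → F) (R S : Set (Module.End F V)) (i : F) : Prop where
  base : Setup R S i
  card : Fintype.card F = p ^ 2
  prime : p.Prime
  conj_i : i ^ p = -i
  herm : IsHerm p h
  nd : Nondeg h
  sa : ∀ a ∈ R, a * a = 1 → ∀ x y, h (a x) y = h x (a y)
  sim : ∀ g ∈ S, ∃ μ : F, μ ≠ 0 ∧ ∀ x y, h (g x) (g y) = μ * h x y

/-- A centre: all its unitary transvections lie in the set. -/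
def Cn (p : ℕ) (h : V → V → F) (S : Set (Module.End F V)) (v : V) : Prop :=
  h v v = 0 ∧ ∀ c : F, c + c ^ p = 0 → ∃ T ∈ S, ∀ x, T x = x + (c * h x v) • v

/-- Every isotropic vector is a centre. -/
def AllC (p : ℕ) (h : V → V → F) (S : Set (Module.End F V)) : Prop :=
  ∀ v, h v v = 0 → Cn p h S v

variable {h : V → V → F} {R S : Set (Module.End F V)} {i : F}

section herm

variable (hF : Fintype.card F = p ^ 2) (H : IsHerm p h)

include hF H in
theorem expand (x y : V) (s t : F) :
    h (s • x + t • y) (s • x + t • y) =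
      s * s ^ p * h x x + s * t ^ p * h x y + t * s ^ p * h x y ^ p + t * t ^ p * h y y := by
  simp only [H.add_left, H.add_right hF, H.smul_left, H.smul_right, ← H.conj_symm x y]
  ring

include hF H in
theorem expand_one (x y : V) (t : F) :
    h (x + t • y) (x + t • y) = h x x + t ^ p * h x y + t * h x y ^ p + t * t ^ p * h y y := by
  have := expand hF H x y 1 t
  simpa only [one_smul, one_pow, mul_one, one_mul] using this

include hF H in
/-- A nonzero isotropic vector has an isotropic partner inside any space containing it. -/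
theorem exists_partner_iso (hnd : Nondeg h) {u : V} (hu : h u u = 0) (hu0 : u ≠ 0) :
    ∃ w, h w w = 0 ∧ h u w = 1 := by
  obtain ⟨v, hv⟩ : ∃ v, h u v ≠ 0 := by
    by_contra hc
    push Not at hc
    exact hu0 (hnd u hc)
  obtain ⟨t, ht⟩ := exists_trace_eq hF (c := -h ((h u v)⁻¹ ^ p • v) ((h u v)⁻¹ ^ p • v)) (by
    rw [neg_pow_q hF, H.self_fixed])
  refine ⟨(h u v)⁻¹ ^ p • v + t • u, ?_, ?_⟩
  · have e : h ((h u v)⁻¹ ^ p • v) u = 1 := by
      rw [H.smul_left, H.conj_symm u v, ← mul_pow, inv_mul_cancel₀ hv, one_pow]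
    rw [expand_one hF H, e, hu]
    linear_combination ht
  · rw [H.add_right hF, H.smul_right, H.smul_right, hu, mul_zero, add_zero, pow_q_pow_q hF,
      inv_mul_cancel₀ hv]

include hF H in
/-- An isotropic vector exists in dimension at least two. -/
theorem exists_isotropic [FiniteDimensional F V] (hnd : Nondeg h) (hd : 2 ≤ Module.finrank F V) :
    ∃ u, h u u = 0 ∧ u ≠ 0 := by
  obtain ⟨c, hc, -⟩ := exists_orthonormal_extend hF H hnd (k := 0) (b := Fin.elim0)
    ⟨fun j => j.elim0, fun j => j.elim0⟩ (Nat.zero_le 2) hd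
  obtain ⟨e, he⟩ := exists_norm_eq hF (c := (-1 : F)) (by rw [neg_pow_q hF, one_pow])
  refine ⟨c 0 + e • c 1, ?_, fun h0 => ?_⟩
  · rw [expand_one hF H, hc.1, hc.2 (by decide : (0 : Fin 2) ≠ 1), hc.1, zero_pow_q hF]
    rw [← pow_succ', he]; ring
  · have e1 := H.add_left (c 0) (e • c 1) (c 0)
    rw [h0, H.zero_left, hc.1, H.smul_left, hc.2 (by decide : (1 : Fin 2) ≠ 0)] at e1
    simp at e1

end herm

section trans

variable (hp : p % 4 = 3) (hF : Fintype.card F = p ^ 2) (h2 : (2 : F) ≠ 0) (H : IsHerm p h)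
variable (hi : i * i = -1) (hip : i ^ p = -i)
variable {Φ : V → Prop} (hΦ : ∀ w c x, h w w = 0 → c + c ^ p = 0 → Φ x → Φ (x + (c * h x w) • w))

include hF H h2 hi hip hΦ in
theorem trans_plane {u w : V} (hu : h u u = 0) (hw : h w w = 0) (huw : h u w = 1) {α β α' β' c : F}
    (hc : c ≠ 0) (h1 : α * β ^ p + β * α ^ p = c) (h3 : α' * β' ^ p + β' * α' ^ p = c)
    (hx : Φ (α • u + β • w)) : Φ (α' • u + β' • w) := by
  have hwu : h w u = 1 := by rw [H.conj_symm u w, huw, one_pow]
  have sw : ∀ a b l : F, l + l ^ p = 0 → Φ (a • u + b • w) → Φ (a • u + (b + l * a) • w) := by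
    intro a b l hl hab
    have := hΦ w l _ hw hl hab
    rwa [H.add_left, H.smul_left, H.smul_left, huw, hw, mul_zero, add_zero, mul_one, add_assoc,
      ← add_smul] at this
  have su : ∀ a b l : F, l + l ^ p = 0 → Φ (a • u + b • w) → Φ ((a + l * b) • u + b • w) := by
    intro a b l hl hab
    have := hΦ u l _ hu hl hab
    rwa [H.add_left, H.smul_left, H.smul_left, hwu, hu, mul_zero, zero_add, mul_one,
      add_right_comm, ← add_smul] at this
  have ne : ∀ a b : F, a * b ^ p + b * a ^ p = c → a ≠ 0 := by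
    intro a b e h0
    rw [h0, zero_pow_q hF] at e
    exact hc (by linear_combination -e)
  have same : ∀ a b b' : F, a * b ^ p + b * a ^ p = c → a * b' ^ p + b' * a ^ p = c →
      Φ (a • u + b • w) → Φ (a • u + b' • w) := by
    intro a b b' e e' hab
    have ha := ne a b e
    have hl : (b' - b) / a + ((b' - b) / a) ^ p = 0 := by
      have hap : a ^ p ≠ 0 := pow_ne_zero _ ha
      rw [div_pow, sub_pow_q hF]
      field_simp
      linear_combination e' - e
    have := sw a b _ hl hab
    rwa [div_mul_cancel₀ _ ha, add_sub_cancel] at this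
  -- ratios that are not fixed
  have step : ∀ a b a' : F, a * b ^ p + b * a ^ p = c → a' * a ^ p - a * a' ^ p ≠ 0 → Φ (a • u + b • w) →
      ∃ b', a' * b' ^ p + b' * a' ^ p = c ∧ Φ (a' • u + b' • w) := by
    intro a b a' e hr hab
    set d := a' - a with hd
    have hdd : a * d ^ p - a ^ p * d ≠ 0 := by
      rw [hd, sub_pow_q hF]; intro e0; exact hr (by linear_combination -e0)
    have hd0 : d ≠ 0 := fun e0 => hdd (by rw [e0, zero_pow_q hF]; ring)
    have hi0 : i ≠ 0 := fun e0 => by simp [e0] at hi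
    clear_value d
    set t := -(b * d ^ p + b ^ p * d) / (i * (a * d ^ p - a ^ p * d)) with ht
    have htp : t ^ p = t := by
      have hD : (a * d ^ p - a ^ p * d) ^ p = -(a * d ^ p - a ^ p * d) := by
        rw [sub_pow_q hF, mul_pow, mul_pow, pow_q_pow_q hF, pow_q_pow_q hF]; ring
      rw [ht, div_pow, neg_pow_q hF, add_pow_q hF, mul_pow i, hip, hD, mul_pow, mul_pow, pow_q_pow_q hF,
        pow_q_pow_q hF, neg_mul_neg]
      congr 1; ring
    have hl : i * t + (i * t) ^ p = 0 := by rw [mul_pow, hip, htp]; ring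
    clear_value t
    have key : t * (i * (a * d ^ p - a ^ p * d)) = -(b * d ^ p + b ^ p * d) :=
      by rw [ht, div_mul_cancel₀ _ (mul_ne_zero hi0 hdd)]
    have h4 := sw a b _ hl hab
    set b1 := b + i * t * a with hb1
    have e1 : a * b1 ^ p + b1 * a ^ p = c := by
      rw [hb1, add_pow_q hF, mul_pow, mul_pow, hip, htp]
      linear_combination e
    have e2 : b1 * d ^ p + b1 ^ p * d = 0 := by
      rw [hb1, add_pow_q hF, mul_pow, mul_pow, hip, htp]
      linear_combination key
    clear_value b1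
    have hb0 : b1 ≠ 0 := fun e0 => hc (by rw [← e1, e0, zero_pow_q hF]; ring)
    have hm : d / b1 + (d / b1) ^ p = 0 := by
      have hbp : b1 ^ p ≠ 0 := pow_ne_zero _ hb0
      rw [div_pow]; field_simp; linear_combination e2
    have h5 := su a b1 _ hm h4
    rw [div_mul_cancel₀ _ hb0, hd, add_sub_cancel] at h5
    refine ⟨b1, ?_, h5⟩
    have e3 : a' = a + d := by rw [hd]; ring
    rw [e3, add_pow_q hF]
    linear_combination e1 + e2
  have ha := ne α β h1
  have ha' := ne α' β' h3
  by_cases hr : α' * α ^ p - α * α' ^ p = 0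
  · have hi1 : (1 + i : F) ≠ 0 := fun e0 => h2 (by linear_combination hi + (1 - i) * e0)
    have hi0 : i ≠ 0 := fun e0 => by simp [e0] at hi
    have hap : α ^ p ≠ 0 := pow_ne_zero _ ha
    have hap' : α' ^ p ≠ 0 := pow_ne_zero _ ha'
    obtain ⟨b₂, e₂, hb₂⟩ := step α β (α * (1 + i)) h1 (by
      rw [mul_pow, add_pow_q hF, one_pow, hip]
      intro e0
      exact mul_ne_zero (mul_ne_zero h2 hi0) (mul_ne_zero ha hap) (by linear_combination e0)) hx
    obtain ⟨b₃, e₃, hb₃⟩ := step _ b₂ α' e₂ (by
      rw [mul_pow, add_pow_q hF, one_pow, hip]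
      intro e0
      exact mul_ne_zero (mul_ne_zero h2 hi0) (mul_ne_zero ha hap') (by linear_combination (1 - i) * hr - e0)) hb₂
    exact same α' b₃ β' e₃ h3 hb₃
  · obtain ⟨b₃, e₃, hb₃⟩ := step α β α' h1 hr hx
    exact same α' b₃ β' e₃ h3 hb₃

include hF H h2 hi hip hΦ in
theorem trans_ortho {x d : V} {c : F} (hc : c ≠ 0) (hx : h x x = c) (hd : h d d ≠ 0) (hxd : h x d = 0)
    {γ δ : F} (hy : h (γ • x + δ • d) (γ • x + δ • d) = c) (hΦx : Φ x) : Φ (γ • x + δ • d) := by
  obtain ⟨e, he⟩ := exists_norm_eq hF (c := -c / h d d) (by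
    rw [div_pow, neg_pow_q hF, H.self_fixed, ← hx, H.self_fixed])
  have he' : e * e ^ p * h d d = -c := by
    rw [← pow_succ', he, div_mul_cancel₀ _ hd]
  have he0 : e ≠ 0 := fun e0 => hc (by rw [e0] at he'; linear_combination he')
  set u := x + e • d with hu
  set w := (2 * c)⁻¹ • (x + (-e) • d) with hw
  have huu : h u u = 0 := by
    rw [hu, expand_one hF H, hx, hxd, zero_pow_q hF]; linear_combination he'
  have hc2 : (2 * c : F) ≠ 0 := mul_ne_zero h2 hc
  have hww : h w w = 0 := by
    rw [hw, H.smul_left, H.smul_right, expand_one hF H, hx, hxd, zero_pow_q hF, neg_pow_q hF]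
    linear_combination (2 * c)⁻¹ * (2 * c)⁻¹ ^ p * he'
  have hcp : (2 * c : F) ^ p = 2 * c := by
    rw [two_mul, add_pow_q hF, ← hx, H.self_fixed]
  have huw : h u w = 1 := by
    rw [hu, hw, H.smul_right, inv_pow, hcp]
    simp only [H.add_left, H.add_right hF, H.smul_left, H.smul_right, hx, hxd,
      show h d x = 0 from (H.eq_zero_symm hF).1 hxd, neg_pow_q hF]
    field_simp
    linear_combination -he'
  have hxe : x = (2 : F)⁻¹ • u + c • w := by
    rw [hu, hw, smul_smul]
    match_scalars <;> field_simp <;> ring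
  have hye : γ • x + δ • d = ((γ + δ / e) / 2) • u + (c * (γ - δ / e)) • w := by
    rw [hu, hw, smul_smul]
    match_scalars <;> field_simp <;> ring
  have key : ∀ a b : F, h (a • u + b • w) (a • u + b • w) = a * b ^ p + b * a ^ p := fun a b => by
    rw [expand hF H, huu, hww, huw, one_pow]; ring
  rw [hxe] at hΦx hx
  rw [hye] at hy ⊢
  rw [key] at hx hy
  exact trans_plane hF h2 H hi hip hΦ huu hww huw hc hx hy hΦx

include hF H h2 hi hip hΦ in
/-- Transvection steps are transitive on the vectors of a nonzero norm. -/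
theorem trans_anisotropic (hnd : Nondeg h) (hiso : ∃ u, h u u = 0 ∧ u ≠ 0) {x y : V} {c : F} (hc : c ≠ 0)
    (hx : h x x = c) (hy : h y y = c) (hΦx : Φ x) : Φ y := by
  have base : ∀ {x y : V}, h x x = c → h y y = c →
      h (y - (h y x / c) • x) (y - (h y x / c) • x) ≠ 0 → Φ x → Φ y := by
    intro x y hx hy hd hΦx
    set γ := h y x / c with hγ
    have hxd : h x (y - γ • x) = 0 := by
      rw [(H.eq_zero_symm hF), H.sub_left, H.smul_left, hx, hγ, div_mul_cancel₀ _ hc, sub_self]
    have := trans_ortho hF h2 H hi hip hΦ hc hx hd hxd (γ := γ) (δ := 1)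
      (by rw [one_smul, add_sub_cancel, hy]) hΦx
    rwa [one_smul, add_sub_cancel] at this
  set γ := h y x / c with hγ
  set d := y - γ • x with hd
  have hdx : h d x = 0 := by rw [hd, H.sub_left, H.smul_left, hx, hγ, div_mul_cancel₀ _ hc, sub_self]
  have hye : y = γ • x + d := by rw [hd, add_sub_cancel]
  by_cases hdd : h d d = 0
  swap
  · exact base hx hy hdd hΦx
  have hxd : h x d = 0 := (H.eq_zero_symm hF).1 hdx
  clear_value d
  by_cases hd0 : d = 0
  · -- a vector orthogonal to x of nonzero norm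
    obtain ⟨u, huu, hu0⟩ := hiso
    obtain ⟨w, hww, huw⟩ := exists_partner_iso hF H hnd huu hu0
    obtain ⟨e, hed, hee⟩ : ∃ e, h x e = 0 ∧ h e e ≠ 0 := by
      by_contra hcon
      push Not at hcon
      have hproj : ∀ v, h x (v - (h v x / c) • x) = 0 := fun v => by
        rw [(H.eq_zero_symm hF), H.sub_left, H.smul_left, hx, div_mul_cancel₀ _ hc, sub_self]
      have h1 := hcon _ (hproj u)
      have hcp : c ^ p = c := by rw [← hx, H.self_fixed]
      simp only [H.sub_left, H.sub_right hF, H.smul_left, H.smul_right, hx, huu, div_pow, hcp,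
        ← H.conj_symm u x] at h1
      field_simp at h1
      have hux : h u x = 0 := by
        have h1' : h u x * h x u = 0 := by linear_combination -h1
        rcases mul_eq_zero.1 h1' with e0 | e0
        · exact e0
        · exact (H.eq_zero_symm hF).1 e0
      have h3 := hcon _ (hproj w)
      simp only [H.sub_left, H.sub_right hF, H.smul_left, H.smul_right, hx, hww, div_pow, hcp,
        ← H.conj_symm w x] at h3
      field_simp at h3
      have hwx : h w x = 0 := by
        have h3' : h w x * h x w = 0 := by linear_combination -h3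
        rcases mul_eq_zero.1 h3' with e0 | e0
        · exact e0
        · exact (H.eq_zero_symm hF).1 e0
      have h4 := hcon (u + w) ((H.eq_zero_symm hF).1 (by rw [H.add_left, hux, hwx, add_zero]))
      rw [H.add_left, H.add_right hF, H.add_right hF, huu, hww, huw, H.conj_symm u w, huw, one_pow] at h4
      exact h2 (by linear_combination h4)
    rw [hye, hd0, ← zero_smul F e] at hy ⊢
    exact trans_ortho hF h2 H hi hip hΦ hc hx hee hed hy hΦx
  -- an intermediate vector
  obtain ⟨v, hv⟩ : ∃ v, h d v ≠ 0 := by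
    by_contra hcon
    push Not at hcon
    exact hd0 (hnd d hcon)
  obtain ⟨w, hww, hdw, hwx⟩ : ∃ w, h w w = 0 ∧ h d w = 1 ∧ h w x = 0 := by
    set v' := (h d v)⁻¹ ^ p • (v - (h v x / c) • x) with hv'
    have e1 : h d v' = 1 := by
      rw [hv', H.smul_right, H.sub_right hF, H.smul_right, hdx, mul_zero, sub_zero, pow_q_pow_q hF,
        inv_mul_cancel₀ hv]
    have e2 : h v' x = 0 := by
      rw [hv', H.smul_left, H.sub_left, H.smul_left, hx, div_mul_cancel₀ _ hc, sub_self, mul_zero]
    clear_value v'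
    obtain ⟨t, ht⟩ := exists_trace_eq hF (c := -h v' v') (by rw [neg_pow_q hF, H.self_fixed])
    refine ⟨v' + t • d, ?_, ?_, ?_⟩
    · rw [expand_one hF H, H.conj_symm d v', e1, hdd]
      simp only [one_pow, mul_zero, add_zero, mul_one]
      linear_combination ht
    · rw [H.add_right hF, H.smul_right, hdd, mul_zero, add_zero, e1]
    · rw [H.add_left, H.smul_left, hdx, e2, mul_zero, add_zero]
  have hcp : c ^ p = c := by rw [← hx, H.self_fixed]
  obtain ⟨n, hn0, hn⟩ : ∃ n : F, n ≠ 0 ∧ n * n ^ p ≠ c * c := by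
    by_cases h1 : (1 : F) = c * c
    · refine ⟨1 + i, fun e0 => h2 (by linear_combination hi + (1 - i) * e0), ?_⟩
      rw [add_pow_q hF, one_pow, hip, ← h1]
      intro e0
      exact one_ne_zero (α := F) (by linear_combination e0 + hi)
    · exact ⟨1, one_ne_zero, by rwa [one_pow, mul_one]⟩
  set z := (c / (2 * n ^ p)) • d + n • w with hz
  have hnp : n ^ p ≠ 0 := pow_ne_zero _ hn0
  have h2p : (2 : F) ^ p = 2 := by
    rw [show (2 : F) = 1 + 1 by norm_num, add_pow_q hF, one_pow]
  have hzz : h z z = c := by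
    rw [hz, expand hF H, hdd, hww, hdw, one_pow, div_pow, mul_pow, hcp, h2p, pow_q_pow_q hF]
    field_simp
    ring
  have hzx : h z x = 0 := by rw [hz, H.add_left, H.smul_left, H.smul_left, hdx, hwx]; ring
  have hΦz : Φ z := base hx hzz (by rw [hzx]; simpa [hzz] using hc) hΦx
  refine base hzz hy ?_ hΦz
  have hyz : h y z = n ^ p := by
    rw [hye, H.add_left, H.smul_left, (H.eq_zero_symm hF).1 hzx, hz, H.add_right hF, H.smul_right,
      H.smul_right, hdd, hdw]
    ring
  rw [hyz]
  simp only [H.sub_left, H.sub_right hF, H.smul_left, H.smul_right, hzz, hy, hyz, div_pow, hcp,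
    pow_q_pow_q hF, show h z y = n by rw [H.conj_symm y z, hyz, pow_q_pow_q hF]]
  intro e0
  apply hn
  field_simp at e0
  linear_combination -e0

end trans

namespace Cn

variable (hS : USetup p h R S i)

include hS

theorem zero : Cn p h S 0 :=
  ⟨hS.herm.zero_left _, fun _ _ => ⟨1, hS.base.one_mem, fun x => by simp⟩⟩

theorem smul {v : V} (hv : Cn p h S v) (t : F) : Cn p h S (t • v) := by
  refine ⟨by rw [hS.herm.smul_left, hS.herm.smul_right, hv.1, mul_zero, mul_zero], fun c hc => ?_⟩
  obtain ⟨T, hT, hTx⟩ := hv.2 (c * (t * t ^ p)) (by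
    rw [mul_pow, mul_pow, pow_q_pow_q hS.card]
    linear_combination (t * t ^ p) * hc)
  refine ⟨T, hT, fun x => ?_⟩
  rw [hTx, hS.herm.smul_right, smul_smul]
  congr 2; ring

theorem apply {v : V} (hv : Cn p h S v) {g : Module.End F V} (hg : g ∈ S) : Cn p h S (g v) := by
  obtain ⟨μ, hμ, hsim⟩ := hS.sim g hg
  obtain ⟨g', hg', hgg, -⟩ := hS.base.inv g hg
  refine ⟨by rw [hsim, hv.1, mul_zero], fun c hc => ?_⟩
  by_cases hv0 : v = 0
  · exact ⟨1, hS.base.one_mem, fun x => by simp [hv0]⟩
  have hμp : μ ^ p = μ := by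
    obtain ⟨w, hw⟩ : ∃ w, h w w ≠ 0 := by
      by_contra hcon
      push Not at hcon
      exact hv0 (hS.nd v fun y => hS.herm.eq_zero_of_isotropic hS.card hcon v y)
    have := hS.herm.self_fixed (g w)
    rw [hsim, mul_pow, hS.herm.self_fixed] at this
    exact mul_right_cancel₀ hw this
  obtain ⟨T, hT, hTx⟩ := hv.2 (c * μ) (by rw [mul_pow, hμp]; linear_combination μ * hc)
  refine ⟨g * T * g', hS.base.mul _ (hS.base.mul _ hg _ hT) _ hg', fun x => ?_⟩
  have e : g (g' x) = x := LinearMap.congr_fun hgg x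
  have e2 : h x (g v) = μ * h (g' x) v := by conv_lhs => rw [← e, hsim]
  rw [Module.End.mul_apply, Module.End.mul_apply, hTx, map_add, map_smul, e, e2, mul_assoc]

theorem step {v w : V} (hv : Cn p h S v) (hw : Cn p h S w) {c : F} (hc : c + c ^ p = 0) :
    Cn p h S (v + (c * h v w) • w) := by
  obtain ⟨T, hT, hTx⟩ := hw.2 c hc
  rw [← hTx]
  exact hv.apply hS hT

/-- A step can be undone. -/
theorem unstep {v w : V} (hw : Cn p h S w) {c : F} (hc : c + c ^ p = 0)
    (hv : Cn p h S (v + (c * h v w) • w)) : Cn p h S v := by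
  have h1 := hv.step hS hw (c := -c) (by rw [neg_pow_q hS.card]; linear_combination -hc)
  rw [hS.herm.add_left, hS.herm.smul_left, hw.1, mul_zero, add_zero, neg_mul, neg_smul,
    add_neg_cancel_right] at h1
  exact h1

end Cn

end Cfsg.Agent.C6U
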