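/-
All transvection centres in one eigenspace give all transvection centres.
Main results: `fxd_nd`, `USetup.restrict`, `two_le_of_ns`, `USetup.caseA`, `plane_cn`.
-/
import Cfsg.Agent.Lib.C6U.Basic

set_option autoImplicit false
set_option linter.unusedSectionVars false

namespace Cfsg.Agent.C6U

open Module
open Cfsg.Agent Cfsg.Agent.C6Two Cfsg.Agent.Unitary

variable {F : Type*} [Field F] [Fintype F] {p : ℕ} {V : Type*} [AddCommGroup V] [Module F V]
variable {h : V → V → F} {R S : Set (Module.End F V)} {i : F}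

/-- The form on a subspace. -/
def hres (h : V → V → F) (W : Submodule F V) : W → W → F := fun x y => h x y

variable (hS : USetup p h R S i) {a : Module.End F V}

include hS

theorem USetup.ortho (haR : a ∈ R) (ha : a * a = 1) {x y : V} (hx : a x = x) (hy : a y = -y) : h x y = 0 := by
  have e := hS.sa a haR ha x y
  rw [hx, hy, hS.herm.neg_right hS.card] at e
  have e2 : (2 : F) * h x y = 0 := by linear_combination e
  exact (mul_eq_zero.1 e2).resolve_left hS.base.two

theorem fxd_nd (haR : a ∈ R) (ha : a * a = 1) : Nondeg (hres h (fxd a)) := by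
  intro x hx
  refine Subtype.ext (hS.nd x fun y => ?_)
  have e := hx ⟨prj a y, prj_mem ha y⟩
  have ex : a (x : V) = x := mem_fxd.1 x.2
  have e2 : h x (a y) = h x y := by rw [← hS.sa a haR ha, ex]
  simp only [hres, prj, LinearMap.smul_apply, LinearMap.add_apply, Module.End.one_apply,
    hS.herm.smul_right, hS.herm.add_right hS.card, e2] at e
  rw [← two_mul, ← mul_assoc] at e
  exact (mul_eq_zero.1 e).resolve_left (mul_ne_zero (pow_ne_zero _ (inv_ne_zero hS.base.two)) hS.base.two)

theorem USetup.restrict (haR : a ∈ R) (ha : a * a = 1) (hna : NS a) (hne : ∃ v : fxd a, v ≠ 0) :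
    USetup p (hres h (fxd a)) (resSet ha R) (resSet ha S) i where
  base := hS.base.restrict haR ha hna hne
  card := hS.card
  prime := hS.prime
  conj_i := hS.conj_i
  herm := hS.herm.comap (fxd a).subtype
  nd := fxd_nd hS haR ha
  sa := by
    rintro _ ⟨f, ⟨hf, haf⟩, rfl⟩ hff x y
    have hf1 : f * f = 1 := by
      obtain ⟨c, -, hcc⟩ := hS.base.pauli.sq f hf
      obtain ⟨v, hv⟩ := hne
      rw [← res_mul hS.base.two ha haf, hcc, map_smul, res_one hS.base.two ha] at hff
      have e := LinearMap.congr_fun hff v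
      simp only [LinearMap.smul_apply, Module.End.one_apply] at e
      rw [hcc, show c * c = 1 from smul_left_injective F hv (by simpa using e), one_smul]
    simp only [hres, res_apply_comm hS.base.two ha haf]
    exact hS.sa f hf hf1 x y
  sim := by
    rintro _ ⟨g, ⟨hg, hag⟩, rfl⟩
    obtain ⟨μ, hμ, hs⟩ := hS.sim g hg
    exact ⟨μ, hμ, fun x y => by simp only [hres, res_apply_comm hS.base.two ha hag]; exact hs x y⟩

omit hS in
theorem two_le_of_ns [FiniteDimensional F V] {X : Module.End F V} (hX : NS X) : 2 ≤ Module.finrank F V := by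
  by_contra hc
  obtain ⟨v, hv⟩ := finrank_le_one_iff.1 (show Module.finrank F V ≤ 1 by omega)
  obtain ⟨c, hc'⟩ := hv (X v)
  refine hX c (LinearMap.ext fun w => ?_)
  obtain ⟨d, rfl⟩ := hv w
  rw [map_smul, ← hc']
  simp [smul_smul, mul_comm]

/-- Two centres that are not orthogonal give every centre of their plane. -/
theorem plane_cn {v w : V} (hv : Cn p h S v) (hw : Cn p h S w) (hvw : h v w ≠ 0) {α β : F}
    (hz : h (α • v + β • w) (α • v + β • w) = 0) : Cn p h S (α • v + β • w) := by
  by_cases hα : α = 0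
  · rw [hα, zero_smul, zero_add]; exact hw.smul hS β
  set γ := h v w with hγ
  rw [expand hS.card hS.herm, hv.1, hw.1, ← hγ] at hz
  have hαp : α ^ p ≠ 0 := pow_ne_zero _ hα
  have hγp : γ ^ p ≠ 0 := pow_ne_zero _ hvw
  have hc : β / (α * γ) + (β / (α * γ)) ^ p = 0 := by
    rw [div_pow, mul_pow]
    field_simp
    linear_combination hz
  have := (hv.step hS hw hc).smul hS α
  rwa [← hγ, smul_add, smul_smul, show α * (β / (α * γ) * γ) = β by field_simp] at this

variable [FiniteDimensional F V] [Nontrivial V]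

set_option maxHeartbeats 1600000 in
/-- Centres in one eigenspace give all centres. -/
theorem USetup.caseA (hp : p % 4 = 3) (haR : a ∈ R) (ha : a * a = 1) (hns : NS a)
    (hP : ∀ v, a v = v → h v v = 0 → Cn p h S v)
    {f : Module.End F V} (hf : f ∈ R) (haf : a * f = f * a) (hnsf : NS (res ha f)) : AllC p h S := by
  have h2 := hS.base.two
  have hF := hS.card
  have H := hS.herm
  have hi := hS.base.sqrt
  have hip := hS.conj_i
  obtain ⟨d, hd, hfR, hff⟩ := hS.base.pauli.exists_invol hf
  have hafd : a * (d • f) = d • f * a := by rw [mul_smul_comm, haf, smul_mul_assoc]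
  have hnsd : NS (res ha (d • f)) := by rw [map_smul]; exact hnsf.smul hd
  generalize hfd : d • f = f' at hfR hff hafd hnsd
  clear hfd hnsf haf hf
  clear f
  rename' f' => f, hafd => haf, hfR => hf, hnsd => hnsf
  have hnf : NS f := fun c hc => hnsf c (by rw [hc, map_smul, res_one h2 ha])
  have hnaf : NS (a * f) := fun c hc => hnsf c (by
    rw [← one_mul (res ha f), ← res_self h2 ha, ← res_mul h2 ha haf, hc, map_smul, res_one h2 ha, res_self h2 ha])
  obtain ⟨b, hbR, hbb, hab, hfb⟩ := hS.base.pauli.exists_partner_two h2 haR hf haf hns hnaf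
  have hbS := hS.base.le hbR
  have bb : ∀ x : V, b (b x) = x := fun x => LinearMap.congr_fun hbb x
  have aa : ∀ x : V, a (a x) = x := fun x => LinearMap.congr_fun ha x
  have ab : ∀ x : V, a (b x) = -b (a x) := fun x => LinearMap.congr_fun hab x
  have hbsim : ∀ x y, h (b x) (b y) = h x y := fun x y => by rw [hS.sa b hbR hbb, bb]
  have hQ : ∀ v, a v = -v → h v v = 0 → Cn p h S v := fun v hv h0 => by
    have := (hP (b v) (by rw [ab, hv, map_neg, neg_neg]) (by rw [hbsim, h0])).apply hS hbS
    rwa [bb] at this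
  have hna := hS.base.neg_invol ha
  obtain ⟨v₀, hv₀⟩ : ∃ v : fxd a, v ≠ 0 := exists_fxd_ne ha hns
  obtain ⟨v₁, hv₁⟩ : ∃ v : fxd (-a), v ≠ 0 := exists_fxd_ne hna hns.neg
  have : Nontrivial (fxd a) := ⟨⟨v₀, 0, hv₀⟩⟩
  have ndP := fxd_nd hS haR ha
  have ndQ := fxd_nd hS (hS.base.pauli.neg_mem haR) hna
  have HP : IsHerm p (hres h (fxd a)) := H.comap (fxd a).subtype
  have HQ : IsHerm p (hres h (fxd (-a))) := H.comap (fxd (-a)).subtype
  obtain ⟨u, huu, hu0⟩ := exists_isotropic hF HP ndP (two_le_of_ns hnsf)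
  obtain ⟨w, hww, huw⟩ := exists_partner_iso hF HP ndP huu hu0
  have hau : a (u : V) = u := mem_fxd.1 u.2
  have haw : a (w : V) = w := mem_fxd.1 w.2
  simp only [hres] at huu hww huw
  have hQiso : ∃ x : fxd (-a), hres h (fxd (-a)) x x = 0 ∧ x ≠ 0 := by
    refine ⟨⟨b u, mem_fxd.2 (by rw [LinearMap.neg_apply, ab, hau, neg_neg])⟩, by simp [hres, hbsim, huu], fun e => ?_⟩
    exact hu0 (Subtype.ext (by
      have e' : b (u : V) = 0 := congrArg Subtype.val e
      rw [← bb (u : V), e', map_zero]; rfl))
  -- centres fixed by the partner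
  set y := i • (a * b) with hy
  have hyR : y ∈ R := hS.base.pauli.smul_mem (fun e => by simp [e] at hi) (hS.base.pauli.mul a haR b hbR)
  have hba : b * a = -(a * b) := anti_symm hab
  have hyy : y * y = 1 := by
    rw [hy, smul_mul_assoc, mul_smul_comm, smul_smul, hi, mul_assoc, ← mul_assoc b a b, hba,
      _root_.neg_mul, mul_assoc, hbb, mul_one, _root_.mul_neg, ha, smul_neg, neg_smul, one_smul, neg_neg]
  have hconj : tEl i y * a = b * tEl i y := by
    have e_aba : a * (b * a) = -b := by rw [hba, _root_.mul_neg, ← mul_assoc, ha, one_mul]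
    have hya : y * a = -(a * y) := by
      rw [hy, smul_mul_assoc, mul_smul_comm, mul_assoc, e_aba, ← mul_assoc, ha, one_mul, smul_neg]
    rw [tEl_conj hi hyy hya]
    congr 1
    rw [hy, smul_mul_assoc, smul_smul, hi, mul_assoc, e_aba, smul_neg, neg_smul, one_smul, neg_neg]
  have hyf : y * f = f * y := by rw [hy, smul_mul_assoc, mul_smul_comm, comm_mul haf.symm hfb]
  have hny : NS y := hS.base.pauli.ns_of_anti h2 hyR haR (by
    rw [hy, smul_mul_assoc, mul_smul_comm, mul_assoc, hba, _root_.mul_neg, smul_neg])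
  set t := tEl i y * tEl i f with ht0
  have ht : t ∈ S := hS.base.tel2 y hyR hyy hny f hf hff hnf
  have hconj : t * a = b * t := by
    rw [ht0, mul_assoc, tEl_commute haf.symm, ← mul_assoc, hconj, mul_assoc]
  have hB : ∀ z, b z = z → h z z = 0 → Cn p h S z := by
    intro z hz h0
    obtain ⟨t', ht', htt, htt'⟩ := hS.base.inv _ ht
    have e1 : t (t' z) = z := LinearMap.congr_fun htt z
    have e2 : t (a (t' z)) = t (t' z) := by
      have := LinearMap.congr_fun hconj (t' z)
      simp only [Module.End.mul_apply] at this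
      rw [this, e1, hz]
    have e3 : a (t' z) = t' z := by
      have := congrArg t' e2
      have inv : ∀ x, t' (t x) = x := fun x => LinearMap.congr_fun htt' x
      rwa [inv, inv] at this
    obtain ⟨μ, -, hμ⟩ := hS.sim t' ht'
    have := (hP (t' z) e3 (by rw [hμ, h0, mul_zero])).apply hS ht
    rwa [e1] at this
  have hPQ : ∀ {x y : V}, a x = x → a y = -y → h x y = 0 := fun hx hy => hS.ortho haR ha hx hy
  -- one centre with a nonzero component norm
  have hbu : a (b (u : V)) = -b u := by rw [ab, hau]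
  have hbw : a (b (w : V)) = -b w := by rw [ab, haw]
  have hz0 : Cn p h S ((u : V) + b u) := hB _ (by rw [map_add, bb, add_comm]) (by
    rw [H.add_left, H.add_right hF, H.add_right hF, hbsim, huu, hPQ hau hbu,
      (H.eq_zero_symm hF).1 (hPQ hau hbu)]
    ring)
  have hi1 : (1 + i : F) ≠ 0 := fun e0 => h2 (by linear_combination hi + (1 - i) * e0)
  have hz' : Cn p h S ((w : V) + (-i) • b w) := by
    have hfa : ∀ x : V, a (f x) = f (a x) := fun x => LinearMap.congr_fun haf x
    have hfb' : ∀ x : V, f (b x) = b (f x) := fun x => LinearMap.congr_fun hfb x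
    have hfiso : ∀ x z : V, h (f x) (f z) = h x z := fun x z => by
      rw [hS.sa f hf hff, show f (f z) = z from LinearMap.congr_fun hff z]
    set w' := (2 : F)⁻¹ • tEl (-i) f (w : V) with hw'
    have haw' : a w' = w' := by
      simp only [hw', tEl, LinearMap.add_apply, Module.End.one_apply, LinearMap.smul_apply, map_smul, map_add, hfa, haw]
    have hbw' : a (b w') = -b w' := by rw [ab, haw']
    have hw'w' : h w' w' = 0 := by
      simp only [hw', tEl, LinearMap.add_apply, Module.End.one_apply, LinearMap.smul_apply, H.smul_left, H.smul_right,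
        H.add_left, H.add_right hF, hfiso, hS.sa f hf hff (w : V), hww, neg_pow_q hF, hip]
      ring
    have hTf : tEl i f w' = w := by
      have e := LinearMap.congr_fun (tEl_mul_neg hi hff) (w : V)
      rw [hw', map_smul, ← Module.End.mul_apply, e, LinearMap.smul_apply, Module.End.one_apply,
        inv_smul_smul₀ h2]
    have h5 := ((hB (w' + b w') (by rw [map_add, bb, add_comm]) (by
      rw [H.add_left, H.add_right hF, H.add_right hF, hbsim, hw'w', hPQ haw' hbw',
        (H.eq_zero_symm hF).1 (hPQ haw' hbw')]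
      ring)).apply hS (hS.base.tel2 a haR ha hns f hf hff hnf)).smul hS (1 + i)⁻¹
    have hTb : tEl i f (b w') = b (tEl i f w') := by
      simp only [tEl, LinearMap.add_apply, Module.End.one_apply, LinearMap.smul_apply, map_add, map_smul, hfb']
    have e : (1 + i)⁻¹ • (tEl i a * tEl i f) (w' + b w') = (w : V) + (-i) • b w := by
      rw [Module.End.mul_apply, map_add (tEl i f), hTb, hTf]
      simp only [tEl, LinearMap.add_apply, Module.End.one_apply, LinearMap.smul_apply, map_add, haw, hbw]
      match_scalars <;> field_simp <;> first | ring1 | linear_combination hi | linear_combination -hi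
    rwa [e] at h5
  have hskew : i + i ^ p = 0 := by rw [hip, add_neg_cancel]
  have hγ : h ((u : V) + b u) ((w : V) + (-i) • b w) = 1 + i := by
    rw [H.add_left, H.add_right hF, H.add_right hF, H.smul_right, H.smul_right, hbsim, huw, hPQ hau hbw,
      (H.eq_zero_symm hF).1 (hPQ haw hbu), neg_pow_q hF, hip]
    ring
  have hz1 := hz0.step hS hz' hskew
  rw [hγ] at hz1
  set x₁ : fxd a := u + (i * (1 + i)) • w with hx₁
  set y₁ : fxd (-a) := ⟨b u + (i * (1 + i) * -i) • b w, mem_fxd.2 (by
    simp [hbu, hbw]; abel)⟩ with hy₁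
  replace hz1 : Cn p h S ((x₁ : V) + (y₁ : V)) := by
    convert hz1 using 1
    simp only [hx₁, hy₁, Submodule.coe_add, Submodule.coe_smul]
    module
  have hc1 : h (x₁ : V) x₁ = -2 := by
    simp only [hx₁, Submodule.coe_add, Submodule.coe_smul]
    rw [expand_one hF H, huu, hww, huw, one_pow, mul_pow, add_pow_q hF, one_pow, hip]
    linear_combination (2 : F) * hi
  -- nonzero component norm
  have key : ∀ (x : fxd a) (y : fxd (-a)), h (x : V) x ≠ 0 → h (x : V) x + h (y : V) y = 0 →
      Cn p h S ((x : V) + (y : V)) := by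
    intro x y hx hxy
    obtain ⟨t, ht'⟩ := exists_norm_eq hF (c := h (x : V) x / -2) (by
      rw [div_pow, H.self_fixed, ← hc1, H.self_fixed])
    have h5 := hz1.smul hS t
    rw [smul_add, ← Submodule.coe_smul, ← Submodule.coe_smul] at h5
    have e1 : hres h (fxd a) (t • x₁) (t • x₁) = h (x : V) x := by
      simp only [hres, Submodule.coe_smul, H.smul_left, H.smul_right, hc1]
      rw [← mul_assoc, ← pow_succ', ht', div_mul_cancel₀ _ (neg_ne_zero.2 h2)]
    have hPhi := trans_anisotropic (Φ := fun z : fxd a => Cn p h S ((z : V) + ((t • y₁ : fxd (-a)) : V)))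
      hF h2 HP hi hip (fun v c z hvv hc hz => ?_) ndP ⟨u, huu, hu0⟩ hx e1 (y := x) rfl h5
    swap
    · have := hz.step hS (hP v (mem_fxd.1 v.2) hvv) hc
      rw [H.add_left, (H.eq_zero_symm hF).1 (hPQ (mem_fxd.1 v.2) (neg_eq_iff_eq_neg.1 (mem_fxd.1 (t • y₁).2))),
        add_zero] at this
      convert this using 1
      simp [hres]; abel
    have hy0 : h (y : V) y ≠ 0 := fun e => hx (by rw [e, add_zero] at hxy; exact hxy)
    have e2 : hres h (fxd (-a)) (t • y₁) (t • y₁) = h (y : V) y := by
      have h6 := hPhi.1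
      rw [H.add_left, H.add_right hF, H.add_right hF, hPQ (mem_fxd.1 x.2) (neg_eq_iff_eq_neg.1 (mem_fxd.1 (t • y₁).2)),
        (H.eq_zero_symm hF).1 (hPQ (mem_fxd.1 x.2) (neg_eq_iff_eq_neg.1 (mem_fxd.1 (t • y₁).2)))] at h6
      simp only [hres]
      linear_combination h6 - hxy
    exact trans_anisotropic (Φ := fun z : fxd (-a) => Cn p h S ((x : V) + (z : V)))
      hF h2 HQ hi hip (fun v c z hvv hc hz => by
        have hva : a (v : V) = -v := neg_eq_iff_eq_neg.1 (mem_fxd.1 v.2)
        have := hz.step hS (hQ v hva hvv) hc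
        rw [H.add_left, hPQ (mem_fxd.1 x.2) hva, zero_add] at this
        convert this using 1
        simp [hres]; abel) ndQ hQiso hy0 e2 (y := y) rfl hPhi
  intro z hz
  set x : fxd a := ⟨prj a z, prj_mem ha z⟩ with hx
  set y' : fxd (-a) := ⟨prj (-a) z, prj_mem hna z⟩ with hy'
  have hxy : z = (x : V) + (y' : V) := by
    simp [hx, hy', prj, smul_add]
    match_scalars <;> field_simp <;> norm_num
  have hax : a (x : V) = x := mem_fxd.1 x.2
  have hay : a (y' : V) = -y' := neg_eq_iff_eq_neg.1 (mem_fxd.1 y'.2)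
  clear_value x y'
  subst hxy
  have hsum : h (x : V) x + h (y' : V) y' = 0 := by
    rw [H.add_left, H.add_right hF, H.add_right hF, hPQ hax hay, (H.eq_zero_symm hF).1 (hPQ hax hay)] at hz
    linear_combination hz
  by_cases hxx : h (x : V) x = 0
  swap
  · exact key x y' hxx hsum
  by_cases hx0 : x = 0
  · rw [hx0, Submodule.coe_zero, zero_add]; exact hQ _ hay (by linear_combination hsum - hxx)
  by_cases hy0 : y' = 0
  · rw [hy0, Submodule.coe_zero, add_zero]; exact hP _ hax hxx
  have hyy' : h (y' : V) y' = 0 := by linear_combination hsum - hxx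
  obtain ⟨x', hx'x', hxx'⟩ := exists_partner_iso hF HP ndP (u := x) hxx hx0
  obtain ⟨y'', hy''y'', hyy''⟩ := exists_partner_iso hF HQ ndQ (u := y') hyy' hy0
  simp only [hres] at hx'x' hxx' hy''y'' hyy''
  have hx'x : h (x' : V) x = 1 := by rw [H.conj_symm (x : V) x', hxx', one_pow]
  have hy''y : h (y'' : V) y' = 1 := by rw [H.conj_symm (y' : V) y'', hyy'', one_pow]
  have hh : ((2 : F)⁻¹) ^ p = (2 : F)⁻¹ := by
    rw [inv_pow, show (2 : F) = 1 + 1 by norm_num, add_pow_q hF, one_pow]
  set wx : fxd a := x' + (2 : F)⁻¹ • x with hwx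
  set wy : fxd (-a) := y'' + (-(2 : F)⁻¹) • y' with hwy
  have n1 : h (wx : V) wx = 1 := by
    simp only [hwx, Submodule.coe_add, Submodule.coe_smul]
    rw [expand_one hF H, hxx, hx'x', hx'x, one_pow, hh]
    field_simp; ring
  have n2 : h (wy : V) wy = -1 := by
    simp only [hwy, Submodule.coe_add, Submodule.coe_smul]
    rw [expand_one hF H, hyy', hy''y'', hy''y, one_pow, neg_pow_q hF, hh]
    field_simp; ring
  have hw := key wx wy (by rw [n1]; exact one_ne_zero) (by rw [n1, n2, add_neg_cancel])
  have hzw : h ((x : V) + (y' : V)) ((wx : V) + (wy : V)) = 2 := by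
    rw [H.add_left, H.add_right hF, H.add_right hF, hPQ hax (neg_eq_iff_eq_neg.1 (mem_fxd.1 wy.2)),
      (H.eq_zero_symm hF).1 (hPQ (mem_fxd.1 wx.2) hay)]
    simp only [hwx, hwy, Submodule.coe_add, Submodule.coe_smul, H.add_right hF, H.smul_right, hxx', hxx,
      hyy'', hyy']
    ring
  refine Cn.unstep hS hw (c := i) hskew ?_
  rw [hzw]
  have e : (x : V) + (y' : V) + (i * 2) • ((wx : V) + (wy : V)) =
      ((x + (i * 2) • wx : fxd a) : V) + ((y' + (i * 2) • wy : fxd (-a)) : V) := by
    simp only [Submodule.coe_add, Submodule.coe_smul]; module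
  rw [e]
  have h2p : (2 : F) ^ p = 2 := by
    rw [show (2 : F) = 1 + 1 by norm_num, add_pow_q hF, one_pow]
  have hxw : h (x : V) wx = 1 := by
    simp only [hwx, Submodule.coe_add, Submodule.coe_smul, H.add_right hF, H.smul_right, hxx', hxx]; ring
  have hyw : h (y' : V) wy = 1 := by
    simp only [hwy, Submodule.coe_add, Submodule.coe_smul, H.add_right hF, H.smul_right, hyy'', hyy']; ring
  refine key _ _ ?_ ?_ <;>
    simp only [Submodule.coe_add, Submodule.coe_smul, expand_one hF H, hxx, hyy', n1, n2, hxw, hyw, one_pow,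
      mul_pow, hip, h2p]
  · have h4 : (2 : F) * 2 ≠ 0 := mul_ne_zero h2 h2
    intro e0; exact h4 (by linear_combination e0 + 4 * hi)
  · ring

end Cfsg.Agent.C6U
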