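/-
A set normalised by all unitary transvections and containing a nonscalar involution of the system has every
centre; consequently a restriction outside the normaliser gives all centres.
Main results: `utv`, `Rel`, `normal_centres`, `Good`, `USetup.escape`.
-/
import Cfsg.Agent.Lib.C6U.CaseA

set_option autoImplicit false
set_option linter.unusedSectionVars false

namespace Cfsg.Agent.C6U

open Module
open Cfsg.Agent Cfsg.Agent.C6Two Cfsg.Agent.Unitary

variable {F : Type*} [Field F] [Fintype F] {p : ℕ} {V : Type*} [AddCommGroup V] [Module F V]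
variable {h : V → V → F}

/-- The linear functional attached to a vector. -/
def hl (H : IsHerm p h) (v : V) : V →ₗ[F] F where
  toFun x := h x v
  map_add' x y := H.add_left x y v
  map_smul' c x := H.smul_left c x v

/-- The unitary transvection. -/
def utv (H : IsHerm p h) (v : V) (c : F) : Module.End F V := tvEl v (c • hl H v)

theorem utv_apply (H : IsHerm p h) (v : V) (c : F) (x : V) : utv H v c x = x + (c * h x v) • v := by
  simp [utv, tvEl_apply, hl]

theorem utv_mul (H : IsHerm p h) {v : V} (hv : h v v = 0) (c d : F) :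
    utv H v c * utv H v d = utv H v (c + d) := by
  rw [utv, utv, utv, tvEl_mul (by simp [hl, hv]), add_smul]

theorem utv_zero (H : IsHerm p h) (v : V) : utv H v 0 = 1 := by rw [utv, zero_smul, tvEl_zero]

theorem utv_smul (H : IsHerm p h) (v : V) (t c : F) : utv H (t • v) c = utv H v (c * (t * t ^ p)) := by
  refine LinearMap.ext fun x => ?_
  rw [utv_apply, utv_apply, H.smul_right, smul_smul]
  congr 2; ring

theorem utv_iso (hF : Fintype.card F = p ^ 2) (H : IsHerm p h) {v : V} (hv : h v v = 0) {c : F}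
    (hc : c + c ^ p = 0) (x y : V) : h (utv H v c x) (utv H v c y) = h x y := by
  simp only [utv_apply, H.add_left, H.add_right hF, H.smul_left, H.smul_right, hv, mul_pow]
  rw [H.conj_symm y v]
  linear_combination (h x v * (h y v) ^ p) * hc

theorem utv_conj (H : IsHerm p h) {g g' : Module.End F V} (hgg : g * g' = 1)
    (hg : ∀ x y, h (g x) (g y) = h x y) (v : V) (c : F) : g * utv H v c * g' = utv H (g v) c := by
  refine LinearMap.ext fun x => ?_
  have e : g (g' x) = x := LinearMap.congr_fun hgg x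
  have e2 : h x (g v) = h (g' x) v := by conv_lhs => rw [← e, hg]
  simp only [Module.End.mul_apply, utv_apply, map_add, map_smul, e, e2]

/-- Two isotropic vectors whose transvections agree modulo the set. -/
def Rel (H : IsHerm p h) (K : Set (Module.End F V)) (a b : V) : Prop :=
  h a a = 0 ∧ h b b = 0 ∧
    ∀ c : F, c + c ^ p = 0 → utv H a c * utv H b (-c) ∈ K ∧ utv H b c * utv H a (-c) ∈ K

variable {H : IsHerm p h} {K : Set (Module.End F V)}

theorem Rel.symm {a b : V} (r : Rel H K a b) : Rel H K b a :=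
  ⟨r.2.1, r.1, fun c hc => (r.2.2 c hc).symm⟩

theorem Rel.trans (hmul : ∀ x ∈ K, ∀ y ∈ K, x * y ∈ K) {a b e : V} (r : Rel H K a b) (s : Rel H K b e) :
    Rel H K a e := by
  refine ⟨r.1, s.2.1, fun c hc => ?_⟩
  have id1 : ∀ (X Y : Module.End F V), X * utv H b (-c) * (utv H b c * Y) = X * Y := fun X Y => by
    rw [mul_assoc, ← mul_assoc (utv H b (-c)), utv_mul H r.2.1, neg_add_cancel, utv_zero, one_mul]
  have h1 := hmul _ (r.2.2 c hc).1 _ (s.2.2 c hc).1
  have h3 := hmul _ (s.2.2 c hc).2 _ (r.2.2 c hc).2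
  rw [id1] at h1 h3
  exact ⟨h1, h3⟩

/-- The vectors whose transvections all lie in the set. -/
def KC (H : IsHerm p h) (K : Set (Module.End F V)) (a : V) : Prop :=
  h a a = 0 ∧ ∀ c : F, c + c ^ p = 0 → utv H a c ∈ K

variable (hF : Fintype.card F = p ^ 2)

include hF in
theorem Rel.kc_of_multiple {a : V} {r : F} (hr : r * r ^ p ≠ 1) (rl : Rel H K a (r • a)) : KC H K a := by
  refine ⟨rl.1, fun c hc => ?_⟩
  have hd : (1 - r * r ^ p) ≠ 0 := sub_ne_zero.2 (Ne.symm hr)
  have hdp : (1 - r * r ^ p) ^ p = 1 - r * r ^ p := by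
    rw [sub_pow_q hF, one_pow, mul_pow, pow_q_pow_q hF, mul_comm]
  have := (rl.2.2 (c / (1 - r * r ^ p)) (by rw [div_pow, hdp, ← add_div, hc, zero_div])).1
  rw [utv_smul, utv_mul H rl.1] at this
  convert this using 2
  field_simp; ring

variable {R S : Set (Module.End F V)} {i : F} (hS : USetup p h R S i)
variable (hK : ∀ x ∈ S, ∀ y ∈ S, x * y = 1 → y * x = 1 → ∀ k ∈ K, x * k * y ∈ K)
variable (hall : AllC p h S)

include hS hall in
theorem utv_mem {v : V} (hv : h v v = 0) {c : F} (hc : c + c ^ p = 0) : utv H v c ∈ S := by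
  obtain ⟨T, hT, hTx⟩ := (hall v hv).2 c hc
  have : T = utv H v c := LinearMap.ext fun x => by rw [hTx, utv_apply]
  rwa [← this]

include hS hall hK in
theorem utv_conj_mem {z : V} (hz : h z z = 0) {l : F} (hl : l + l ^ p = 0) {k : Module.End F V} (hk : k ∈ K) :
    utv H z l * k * utv H z (-l) ∈ K := by
  refine hK _ (utv_mem hS hall hz hl) _ (utv_mem hS hall hz ?_) ?_ ?_ k hk
  · rw [neg_pow_q hS.card]; linear_combination -hl
  · rw [utv_mul H hz, add_neg_cancel, utv_zero]
  · rw [utv_mul H hz, neg_add_cancel, utv_zero]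

include hS hall hK in
theorem utv_conj_utv {z v : V} (hz : h z z = 0) {l : F} (hl : l + l ^ p = 0) {c : F} :
    utv H z l * utv H v c * utv H z (-l) = utv H (v + (l * h v z) • z) c := by
  rw [utv_conj H (by rw [utv_mul H hz, add_neg_cancel, utv_zero]) (utv_iso hS.card H hz hl), utv_apply]

include hS hall hK in
theorem KC.move {a z : V} (k : KC H K a) (hz : h z z = 0) {l : F} (hl : l + l ^ p = 0) :
    KC H K (a + (l * h a z) • z) := by
  refine ⟨?_, fun c hc => ?_⟩
  · rw [← utv_apply H, utv_iso hS.card H hz hl, k.1]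
  · rw [← utv_conj_utv hS hK hall hz hl]
    exact utv_conj_mem hS hK hall hz hl (k.2 c hc)

include hS hall hK in
theorem Rel.move {a b z : V} (r : Rel H K a b) (hz : h z z = 0) {l : F} (hl : l + l ^ p = 0) :
    Rel H K (a + (l * h a z) • z) (b + (l * h b z) • z) := by
  have e1 : ∀ v, h v v = 0 → h (v + (l * h v z) • z) (v + (l * h v z) • z) = 0 := fun v hv => by
    rw [← utv_apply H, utv_iso hS.card H hz hl, hv]
  refine ⟨e1 a r.1, e1 b r.2.1, fun c hc => ?_⟩
  have split : ∀ X Y : Module.End F V, utv H z l * (X * Y) * utv H z (-l) =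
      (utv H z l * X * utv H z (-l)) * (utv H z l * Y * utv H z (-l)) := fun X Y => by
    rw [show (utv H z l * X * utv H z (-l)) * (utv H z l * Y * utv H z (-l)) =
      utv H z l * X * (utv H z (-l) * utv H z l) * Y * utv H z (-l) by simp only [mul_assoc],
      utv_mul H hz, neg_add_cancel, utv_zero, mul_one]
    simp only [mul_assoc]
  have m1 := utv_conj_mem (H := H) hS hK hall hz hl (r.2.2 c hc).1
  have m2 := utv_conj_mem (H := H) hS hK hall hz hl (r.2.2 c hc).2
  rw [split, utv_conj_utv hS hK hall hz hl, utv_conj_utv hS hK hall hz hl] at m1 m2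
  exact ⟨m1, m2⟩

include hS hall hK in
/-- One vector of the kind gives all of them. -/
theorem KC.all {a : V} (k : KC H K a) (ha : a ≠ 0) {v : V} (hv : h v v = 0) : KC H K v := by
  have hF := hS.card
  have hi := hS.base.sqrt
  have hi0 : i ≠ 0 := fun e => by simp [e] at hi
  have hskew : i + i ^ p = 0 := by rw [hS.conj_i, add_neg_cancel]
  have near : ∀ {a v : V}, KC H K a → h v v = 0 → h a v ≠ 0 → KC H K v := by
    intro a v k hv hav
    set γ := h a v with hγ
    have hγp : γ ^ p ≠ 0 := pow_ne_zero _ hav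
    have h1 := k.move hS hK hall hv hskew
    have hl : -(i * (γ * γ ^ p))⁻¹ + (-(i * (γ * γ ^ p))⁻¹) ^ p = 0 := by
      rw [neg_pow_q hF, inv_pow, mul_pow, mul_pow, pow_q_pow_q hF, hS.conj_i, mul_comm (γ ^ p) γ,
        neg_mul, inv_neg]
      ring
    have h3 := h1.move hS hK hall k.1 hl
    rw [H.add_left, H.smul_left, k.1, H.conj_symm a v, ← hγ] at h3
    have e : a + (i * γ) • v + (-(i * (γ * γ ^ p))⁻¹ * (0 + i * γ * γ ^ p)) • a = (i * γ) • v := by
      match_scalars <;> field_simp <;> ring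
    rw [e] at h3
    refine ⟨hv, fun c hc => ?_⟩
    have hd : (i * γ) * (i * γ) ^ p ≠ 0 := mul_ne_zero (mul_ne_zero hi0 hav) (pow_ne_zero _ (mul_ne_zero hi0 hav))
    have := h3.2 (c / ((i * γ) * (i * γ) ^ p)) (by
      rw [div_pow, mul_pow (i * γ), pow_q_pow_q hF, mul_comm ((i * γ) ^ p) (i * γ), ← add_div, hc, zero_div])
    rwa [utv_smul, div_mul_cancel₀ _ hd] at this
  by_cases hav : h a v ≠ 0
  · exact near k hv hav
  push Not at hav
  by_cases hv0 : v = 0
  · exact ⟨hv, fun c hc => by
      rw [show utv H v c = utv H a 0 by rw [utv_zero]; exact LinearMap.ext fun x => by simp [utv_apply, hv0]]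
      exact k.2 0 (by rw [zero_pow_q hF, add_zero])⟩
  obtain ⟨a', haa', haa⟩ := exists_partner_iso hF H hS.nd k.1 ha
  obtain ⟨v', hvv', hvv⟩ := exists_partner_iso hF H hS.nd hv hv0
  obtain ⟨x, hxx, hax, hvx⟩ : ∃ x, h x x = 0 ∧ h a x ≠ 0 ∧ h v x ≠ 0 := by
    by_cases h1 : h v a' ≠ 0
    · exact ⟨a', haa', by rw [haa]; exact one_ne_zero, h1⟩
    by_cases h3 : h a v' ≠ 0
    · exact ⟨v', hvv', h3, by rw [hvv]; exact one_ne_zero⟩
    push Not at h1 h3
    obtain ⟨t, ht0, ht⟩ : ∃ t : F, t ≠ 0 ∧ t ^ p * h a' v' + t * h a' v' ^ p = 0 := by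
      by_cases hg : h a' v' = 0
      · exact ⟨1, one_ne_zero, by rw [hg, zero_pow_q hF]; ring⟩
      · exact ⟨i * h a' v', mul_ne_zero hi0 hg, by rw [mul_pow, hS.conj_i]; ring⟩
    refine ⟨a' + t • v', ?_, ?_, ?_⟩
    · rw [expand_one hF H, haa', hvv']; linear_combination ht
    · rw [H.add_right hF, H.smul_right, haa, h3, mul_zero, add_zero]; exact one_ne_zero
    · rw [H.add_right hF, H.smul_right, h1, hvv, zero_add, mul_one]; exact pow_ne_zero _ ht0
  refine near (near k hxx hax) hv fun e => hvx ?_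
  exact (H.eq_zero_symm hF).1 e

include hS hall hK in
theorem Rel.shift (hmul : ∀ x ∈ K, ∀ y ∈ K, x * y ∈ K) {a b : V} (r : Rel H K a b) (hab : h a b = 0)
    (hind : ∀ ρ : F, a ≠ ρ • b) (hb : b ≠ 0) (s : F) : Rel H K (a + s • b) b := by
  have hF := hS.card
  have hi := hS.base.sqrt
  have hi0 : i ≠ 0 := fun e => by simp [e] at hi
  have hskew : i + i ^ p = 0 := by rw [hS.conj_i, add_neg_cancel]
  have hskew' : -i + (-i) ^ p = 0 := by rw [neg_pow_q hF, hS.conj_i]; ring
  have hba : h b a = 0 := (H.eq_zero_symm hF).1 hab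
  obtain ⟨b'', -, hbb''⟩ := exists_partner_iso hF H hS.nd r.2.1 hb
  set ρ := h a b'' with hρ
  obtain ⟨y, hy⟩ : ∃ y, h (a - ρ • b) y ≠ 0 := by
    by_contra hc
    push Not at hc
    exact hind ρ (sub_eq_zero.1 (hS.nd _ hc))
  set v := (h (a - ρ • b) y)⁻¹ ^ p • (y - (h b y) ^ p • b'') with hv
  have hbv : h b v = 0 := by
    rw [hv, H.smul_right, H.sub_right hF, H.smul_right, pow_q_pow_q hF, pow_q_pow_q hF, hbb'']; ring
  have hav : h a v = 1 := by
    rw [hv, H.smul_right, pow_q_pow_q hF, H.sub_right hF, H.smul_right, pow_q_pow_q hF, ← hρ]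
    have e : h (a - ρ • b) y = h a y - ρ * h b y := by rw [H.sub_left, H.smul_left]
    rw [e, mul_comm (h b y) ρ]
    exact inv_mul_cancel₀ (e ▸ hy)
  clear_value v
  obtain ⟨t, ht⟩ := exists_trace_eq hF (c := -h v v) (by rw [neg_pow_q hF, H.self_fixed])
  set z := v + t • a with hz
  have hzz : h z z = 0 := by
    rw [hz, expand_one hF H, r.1, H.conj_symm a v, hav, one_pow, one_pow]; linear_combination ht
  have haz : h a z = 1 := by rw [hz, H.add_right hF, H.smul_right, hav, r.1, mul_zero, add_zero]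
  have hbz : h b z = 0 := by rw [hz, H.add_right hF, H.smul_right, hbv, hba, mul_zero, add_zero]
  clear_value z
  set z1 := z + (s / i) • b with hz1
  have hz1z1 : h z1 z1 = 0 := by
    rw [hz1, expand_one hF H, hzz, (H.eq_zero_symm hF).1 hbz, r.2.1, zero_pow_q hF]; ring
  have haz1 : h a z1 = 1 := by rw [hz1, H.add_right hF, H.smul_right, haz, hab, mul_zero, add_zero]
  have hbz1 : h b z1 = 0 := by rw [hz1, H.add_right hF, H.smul_right, hbz, r.2.1, mul_zero, add_zero]
  have hz1z : h z1 z = 0 := by rw [hz1, H.add_left, H.smul_left, hzz, hbz, mul_zero, add_zero]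
  have h1 := r.move hS hK hall hz1z1 hskew
  rw [haz1, hbz1, mul_one, mul_zero, zero_smul, add_zero] at h1
  have h3 := h1.move hS hK hall hzz hskew'
  rw [H.add_left, H.smul_left, haz, hz1z, hbz, mul_zero, add_zero, mul_one, mul_zero, zero_smul, add_zero] at h3
  have e : a + i • z1 + -i • z = a + s • b := by
    rw [hz1]; match_scalars <;> field_simp <;> ring
  rwa [e] at h3

include hS hall hK in
/-- A normal subset with a nonscalar involution of the system has every centre. -/
theorem normal_centres [FiniteDimensional F V] [Nontrivial V] (hmul : ∀ x ∈ K, ∀ y ∈ K, x * y ∈ K)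
    {f : Module.End F V} (hf : f ∈ R) (hff : f * f = 1) (hns : NS f) {j j' : F} (hjj : j * j' = 1)
    (hfK : j • f ∈ K) (hfK' : j' • f ∈ K)
    (hgood : p ≠ 3 ∨ ∃ g ∈ R, f * g = g * f ∧ NS g ∧ NS (f * g)) {v : V} (hv : h v v = 0) :
    KC H K v := by
  have hF := hS.card
  have h2 := hS.base.two
  have hi := hS.base.sqrt
  have hi0 : i ≠ 0 := fun e => by simp [e] at hi
  have hfS := hS.base.le hf
  have ff : ∀ x, f (f x) = x := fun x => LinearMap.congr_fun hff x
  have hfiso : ∀ x y, h (f x) (f y) = h x y := fun x y => by rw [hS.sa f hf hff, ff]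
  have hfn := hS.base.neg_invol hff
  have hfnR := hS.base.pauli.neg_mem hf
  have hskew : ∀ c : F, c + c ^ p = 0 → -c + (-c) ^ p = 0 := fun c hc => by
    rw [neg_pow_q hF]; linear_combination -hc
  have base : ∀ w, h w w = 0 → Rel H K w (f w) := by
    intro w hw
    refine ⟨hw, by rw [hfiso, hw], fun c hc => ?_⟩
    have hm := utv_conj_mem (H := H) hS hK hall hw hc hfK
    have e : f * utv H w (-c) * f = utv H (f w) (-c) := utv_conj H hff hfiso w (-c)
    have e' : f * utv H w c * f = utv H (f w) c := utv_conj H hff hfiso w c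
    constructor
    · have := hmul _ hm _ hfK'
      simp only [mul_smul_comm, smul_mul_assoc, smul_smul, mul_comm j' j, hjj, one_smul] at this
      rwa [mul_assoc, mul_assoc, ← mul_assoc f, e] at this
    · have := hmul _ hfK' _ hm
      simp only [mul_smul_comm, smul_mul_assoc, smul_smul, mul_comm j' j, hjj, one_smul] at this
      rwa [← mul_assoc, ← mul_assoc, e'] at this
  rcases hgood with hp3 | ⟨g, hg, hfg, hng, hnfg⟩
  · -- a hyperbolic pair exchanged by the involution
    have aniso : ∀ {e : Module.End F V}, e ∈ R → ∀ he : e * e = 1, NS e → ∃ x, e x = x ∧ h x x ≠ 0 := by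
      intro e heR he hne
      obtain ⟨x₀, hx₀⟩ := exists_fxd_ne he hne
      by_contra hc
      push Not at hc
      exact hx₀ (fxd_nd hS heR he x₀ fun y =>
        (hS.herm.comap (fxd e).subtype).eq_zero_of_isotropic hF (fun z => hc _ (mem_fxd.1 z.2)) x₀ y)
    obtain ⟨x, hx, hxx⟩ := aniso hf hff hns
    obtain ⟨y, hy, hyy⟩ := aniso hfnR hfn hns.neg
    have hy' : f y = -y := neg_eq_iff_eq_neg.1 hy
    have hxy : h x y = 0 := hS.ortho hf hff hx hy'
    have hyx : h y x = 0 := (H.eq_zero_symm hF).1 hxy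
    obtain ⟨t, ht⟩ := exists_norm_eq hF (c := -h x x / h y y) (by
      rw [div_pow, neg_pow_q hF, H.self_fixed, H.self_fixed])
    have ht' : t * t ^ p * h y y = -h x x := by rw [← pow_succ', ht, div_mul_cancel₀ _ hyy]
    set u := x + t • y with hu
    set w := f u with hw
    have huu : h u u = 0 := by
      rw [hu, expand_one hF H, hxy, zero_pow_q hF]; linear_combination ht'
    have hww : h w w = 0 := by rw [hw, hfiso, huu]
    have hγ : h u w = 2 * h x x := by
      rw [hw, hu, map_add, map_smul, hx, hy', smul_neg, H.add_left, H.add_right hF, H.add_right hF,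
        H.neg_right hF, H.neg_right hF]
      simp only [H.smul_left, H.smul_right, hxy, hyx]
      linear_combination -ht'
    set γ := h u w
    have hγ0 : γ ≠ 0 := by rw [hγ]; exact mul_ne_zero h2 hxx
    have hγp : γ ^ p = γ := by
      rw [hγ, mul_pow, H.self_fixed, show (2 : F) = 1 + 1 by norm_num, add_pow_q hF, one_pow]
    have hwu : h w u = γ := by rw [H.conj_symm u w]; exact hγp
    have hdiv : ∀ σ : F, σ + σ ^ p = 0 → σ / γ + (σ / γ) ^ p = 0 := fun σ hσ => by
      rw [div_pow, hγp, ← add_div, hσ, zero_div]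
    have r0 := base u huu
    have main : ∀ σ : F, σ + σ ^ p = 0 → σ ≠ 0 → Rel H K u (σ • w) := by
      intro σ hσ hσ0
      have hσ' : -σ⁻¹ + (-σ⁻¹) ^ p = 0 := by
        rw [neg_pow_q hF, inv_pow, show σ ^ p = -σ by linear_combination hσ, inv_neg]; ring
      have r1 := r0.move hS hK hall huu (hdiv _ hσ')
      rw [huu, mul_zero, zero_smul, add_zero, hwu, div_mul_cancel₀ _ hγ0] at r1
      have r2 := r0.move hS hK hall hww (hdiv _ hσ)
      rw [hww, mul_zero, zero_smul, add_zero, div_mul_cancel₀ _ hγ0] at r2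
      have r3 := r2.move hS hK hall huu (hdiv _ hσ')
      rw [hwu, div_mul_cancel₀ _ hγ0, H.add_left, H.smul_left, huu, hwu, zero_add] at r3
      have e : u + σ • w + (-σ⁻¹ / γ * (σ * γ)) • u = σ • w := by
        match_scalars <;> field_simp <;> ring
      rw [e] at r3
      exact r1.trans hmul r3.symm
    have hsk : i + i ^ p = 0 := by rw [hS.conj_i, add_neg_cancel]
    have h2p : (2 : F) ^ p = 2 := by rw [show (2 : F) = 1 + 1 by norm_num, add_pow_q hF, one_pow]
    have r4 := (main i hsk hi0).symm.trans hmul (main (2 * i) (by rw [mul_pow, h2p]; linear_combination 2 * hsk)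
      (mul_ne_zero h2 hi0))
    rw [show (2 * i) • w = (2 : F) • (i • w) by rw [smul_smul]] at r4
    have k := r4.kc_of_multiple hF (by
      rw [h2p]
      intro e0
      have h3 : ((3 : ℕ) : F) = 0 := by push_cast; linear_combination e0
      obtain ⟨q, m, hq, hchar, hpm, hm⟩ := exists_prime_pow hF
      have hqp : q = p :=
        (Nat.prime_dvd_prime_iff_eq hq hS.prime).1 (hpm.symm ▸ dvd_pow_self q (Nat.one_le_iff_ne_zero.1 hm))
      have := (CharP.cast_eq_zero_iff F q 3).1 h3
      exact hp3 (hqp ▸ (Nat.prime_dvd_prime_iff_eq hq Nat.prime_three).1 this))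
    refine k.all hS hK hall (fun e => hxx ?_) hv
    have hu0 : u = 0 := by
      rw [← ff u, show f u = 0 from (smul_eq_zero.1 e).resolve_left hi0, map_zero]
    have e2 : h u x = 0 := by rw [hu0, H.zero_left]
    rwa [hu, H.add_left, H.smul_left, hyx, mul_zero, add_zero] at e2
  · -- an isotropic vector orthogonal to its image
    have d1 := two_le_of_ns (hS.base.res_ns hf hff hns hg hfg hng hnfg)
    have d2 := two_le_of_ns (hS.base.res_ns hfnR hfn hns.neg hg (by rw [_root_.neg_mul, _root_.mul_neg, hfg]) hng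
      (by rw [_root_.neg_mul]; exact hnfg.neg))
    obtain ⟨x, hxx, hx0⟩ := exists_isotropic hF (hS.herm.comap (fxd f).subtype) (fxd_nd hS hf hff) d1
    obtain ⟨y, hyy, hy0⟩ := exists_isotropic hF (hS.herm.comap (fxd (-f)).subtype) (fxd_nd hS hfnR hfn) d2
    have hx : f (x : V) = x := mem_fxd.1 x.2
    have hy : f (y : V) = -y := neg_eq_iff_eq_neg.1 (mem_fxd.1 y.2)
    have hxy : h (x : V) y = 0 := hS.ortho hf hff hx hy
    have hyx : h (y : V) x = 0 := (H.eq_zero_symm hF).1 hxy
    have indep : ∀ α β : F, α • (x : V) + β • (y : V) = 0 → α = 0 ∧ β = 0 := by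
      intro α β e
      have e2 := congrArg f e
      rw [map_add, map_smul, map_smul, hx, hy, map_zero] at e2
      have ea : ((2 : F) * α) • (x : V) = 0 := by linear_combination (norm := module) e + e2
      have hα : α = 0 := (mul_eq_zero.1 ((smul_eq_zero.1 ea).resolve_right
        (fun h0 => hx0 (Subtype.ext h0)))).resolve_left h2
      refine ⟨hα, ?_⟩
      rw [hα, zero_smul, zero_add] at e
      exact (smul_eq_zero.1 e).resolve_right fun h0 => hy0 (Subtype.ext h0)
    set w := (x : V) + (y : V) with hw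
    set w' := f w with hw'
    have ew' : w' = (x : V) - (y : V) := by rw [hw', hw, map_add, hx, hy, sub_eq_add_neg]
    have hxx' : h (x : V) x = 0 := hxx
    have hyy' : h (y : V) y = 0 := hyy
    have hvals : ∀ α β γ δ : F, h (α • (x : V) + β • (y : V)) (γ • (x : V) + δ • (y : V)) = 0 := fun α β γ δ => by
      simp only [H.add_left, H.add_right hF, H.smul_left, H.smul_right, hxx', hyy', hxy, hyx]
      ring
    have hcomb : ∀ α β : F, α • w + β • w' = (α + β) • (x : V) + (α - β) • (y : V) := fun α β => by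
      rw [hw, ew']; module
    have hzero : ∀ α β : F, α • w + β • w' = 0 → α = 0 ∧ β = 0 := fun α β e => by
      rw [hcomb] at e
      obtain ⟨e1, e2⟩ := indep _ _ e
      refine ⟨(mul_eq_zero.1 (show (2 : F) * α = 0 by linear_combination e1 + e2)).resolve_left h2,
        (mul_eq_zero.1 (show (2 : F) * β = 0 by linear_combination e1 - e2)).resolve_left h2⟩
    have horth : ∀ α β γ δ : F, h (α • w + β • w') (γ • w + δ • w') = 0 := fun α β γ δ => by
      rw [hcomb, hcomb]; exact hvals _ _ _ _
    have hw0 : w ≠ 0 := fun e => one_ne_zero (hzero 1 0 (by rw [e, smul_zero, zero_smul, add_zero])).1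
    have hw'0 : w' ≠ 0 := fun e => one_ne_zero (hzero 0 1 (by rw [e, smul_zero, zero_smul, add_zero])).2
    have hww : h w w = 0 := by simpa using horth 1 0 1 0
    have r0 := base w hww
    -- w + w' is related to w
    have r1 := (r0.shift hS hK hall hmul (by simpa using horth 1 0 0 1) (fun ρ e => one_ne_zero
      (hzero 1 (-ρ) (by rw [one_smul, neg_smul, ← e, add_neg_cancel])).1) hw'0 1).trans hmul r0.symm
    rw [one_smul] at r1
    have r2 := r1.shift hS hK hall hmul (by simpa using horth 1 1 1 0) (fun ρ e => one_ne_zero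
      (hzero (1 - ρ) 1 (by rw [sub_smul, one_smul, one_smul]; linear_combination (norm := module) e)).2) hw0 i
    have hu : h (w + w' + i • w) w' = 0 := by
      have := horth (1 + i) 1 0 1
      rw [zero_smul, zero_add, one_smul, add_smul, one_smul] at this
      rwa [show w + i • w + w' = w + w' + i • w by abel] at this
    have hc : (1 + i : F) ≠ 0 := fun e0 => h2 (by linear_combination hi + (1 - i) * e0)
    have r3 := ((r2.trans hmul r0).shift hS hK hall hmul hu (fun ρ e => hc
      (hzero (1 + i) (1 - ρ) (by rw [add_smul, sub_smul, one_smul, one_smul]; linear_combination (norm := module) e)).1)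
      hw'0 (-1)).trans hmul r0.symm
    rw [show w + w' + i • w + (-1 : F) • w' = (1 + i) • w by rw [add_smul, one_smul]; module] at r3
    refine (r3.symm.kc_of_multiple hF ?_).all hS hK hall hw0 hv
    rw [add_pow_q hF, one_pow, hS.conj_i]
    intro e0
    exact one_ne_zero (α := F) (by linear_combination e0 + hi)

/-- Either the characteristic is not three or the system is big. -/
def Good (p : ℕ) {W : Type*} [AddCommGroup W] [Module F W] (R : Set (Module.End F W)) : Prop :=
  p ≠ 3 ∨ Big R

include hS in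
/-- A restriction outside the normaliser gives all centres. -/
theorem USetup.escape [FiniteDimensional F V] [Nontrivial V] (hp : p % 4 = 3) {a : Module.End F V} (haR : a ∈ R)
    (ha : a * a = 1) (hns : NS a)
    (hIH : (AllC p (hres h (fxd a)) (resSet ha S) ∧ Good p (resSet ha R)) ∨
      ∀ M ∈ resSet ha S, Norml (resSet ha R) M)
    {M : Module.End F (fxd a)} (hM : M ∈ resSet ha S) (hMn : ¬ Norml (resSet ha R) M) : AllC p h S := by
  rcases hIH with ⟨hall', hgood⟩ | hn
  swap
  · exact absurd (hn M hM) hMn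
  have h2 := hS.base.two
  have H := hS.herm
  obtain ⟨f₀, hf₀, haf₀, hnsf₀⟩ : ∃ f ∈ R, a * f = f * a ∧ NS (res ha f) := by
    by_contra hc
    push Not at hc
    refine hMn fun y hy => ⟨y, hy, ?_⟩
    obtain ⟨f, ⟨hf, haf⟩, rfl⟩ := hy
    have := hc f hf haf
    simp only [NS, ne_eq, not_forall, not_not] at this
    obtain ⟨c, hc'⟩ := this
    rw [hc', mul_smul_comm, mul_one, smul_mul_assoc, one_mul]
  obtain ⟨d, hd, hfR, hff⟩ := hS.base.pauli.exists_invol hf₀
  set f := d • f₀ with hfd
  have haf : a * f = f * a := by rw [hfd, mul_smul_comm, haf₀, smul_mul_assoc]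
  have hnsf : NS (res ha f) := by rw [hfd, map_smul]; exact hnsf₀.smul hd
  obtain ⟨v₀, hv₀⟩ := exists_fxd_ne ha hns
  have : Nontrivial (fxd a) := ⟨⟨v₀, 0, hv₀⟩⟩
  have hS' := hS.restrict haR ha hns ⟨v₀, hv₀⟩
  set q := (2 : F)⁻¹ • (1 - a) with hq
  have hf2 : res ha f * res ha f = 1 := by rw [← res_mul h2 ha haf, hff, res_one h2 ha]
  have hqa : ∀ g, a * g = g * a → q * g = g * q := fun g hg => by
    simp [hq, sub_mul, mul_sub, hg]
  have hmul : ∀ x ∈ kerSet ha S, ∀ y ∈ kerSet ha S, x * y ∈ kerSet ha S := by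
    rintro _ ⟨g, ⟨hg, hga, hgq⟩, rfl⟩ _ ⟨g₁, ⟨hh, hha, hhq⟩, rfl⟩
    exact ⟨g * g₁, ⟨hS.base.mul g hg g₁ hh, comm_mul hga hha, by rw [mul_assoc, hhq, hgq]⟩,
      res_mul h2 ha hha⟩
  have hnorm : ∀ x ∈ resSet ha S, ∀ y ∈ resSet ha S, x * y = 1 → y * x = 1 → ∀ k ∈ kerSet ha S,
      x * k * y ∈ kerSet ha S := by
    rintro _ ⟨g, ⟨hg, hga⟩, rfl⟩ _ ⟨g₁, ⟨-, hha⟩, rfl⟩ hxy - _ ⟨k, ⟨hk, hka, hkq⟩, rfl⟩
    obtain ⟨g', hg', e1, e2⟩ := hS.base.inv g hg
    have hg'a : a * g' = g' * a := by
      calc a * g' = (g' * g) * (a * g') := by rw [e2, one_mul]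
        _ = g' * ((g * a) * g') := by simp only [mul_assoc]
        _ = g' * ((a * g) * g') := by rw [hga]
        _ = g' * a * (g * g') := by simp only [mul_assoc]
        _ = g' * a := by rw [e1, mul_one]
    have e3 : res ha g₁ = res ha g' := by
      rw [← one_mul (res ha g₁), ← res_one h2 ha, ← e2, res_mul h2 ha hga, mul_assoc, hxy, mul_one]
    refine ⟨g * k * g', ⟨hS.base.mul _ (hS.base.mul g hg k hk) _ hg', comm_mul (comm_mul hga hka) hg'a, ?_⟩, ?_⟩
    · rw [mul_assoc _ g' q, ← hqa _ hg'a, mul_assoc g k, ← mul_assoc k q, hkq, ← mul_assoc,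
        ← hqa g hga, mul_assoc, e1, mul_one]
    · rw [res_mul h2 ha hg'a, res_mul h2 ha hka, e3]
  have hnf : NS f ∧ NS (a * f) := ⟨fun c hc => hnsf c (by rw [hc, map_smul, res_one h2 ha]), fun c hc => hnsf c (by
    rw [← one_mul (res ha f), ← res_self h2 ha, ← res_mul h2 ha haf, hc, map_smul, res_one h2 ha, res_self h2 ha])⟩
  have hna := hS.base.neg_invol ha
  have hpa : a * prj a = prj a * a := by simp [prj, mul_add, add_mul]
  have hqa' : a * prj (-a) = prj (-a) * a := by simp [prj, mul_add, add_mul]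
  have hE : ∀ g : Module.End F V, g ∈ R → g * g = 1 → a * g = g * a → NS g → NS (a * g) →
      i • res ha g ∈ kerSet ha S := by
    intro g hg hgg hag hng hnag
    refine ⟨prj (-a) + i • (g * prj a), ⟨hS.base.kerElt_mem haR ha hns hg hgg hag hng hnag, ?_, ?_⟩, ?_⟩
    · rw [mul_add, add_mul, hqa', mul_smul_comm, comm_mul hag hpa, smul_mul_assoc]
    · simp only [hq, prj, mul_add, add_mul, mul_sub, sub_mul, mul_one, one_mul, mul_smul_comm, smul_mul_assoc,
        smul_smul, ha, neg_mul, mul_assoc, smul_add, smul_sub, smul_neg]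
      match_scalars <;> field_simp <;> ring
    · have p1 : res ha (prj a) = 1 := by
        simp [prj, res_one h2 ha, res_self h2 ha]
        match_scalars <;> field_simp <;> norm_num
      have p2 : res ha (prj (-a)) = 0 := by simp [prj, res_one h2 ha, res_self h2 ha]
      rw [map_add, map_smul, res_mul h2 ha hpa, p1, p2, mul_one, zero_add]
  have hfK : i • res ha f ∈ kerSet ha S := hE f hfR hff haf hnf.1 hnf.2
  have hfK' : (-i) • res ha f ∈ kerSet ha S := by
    have h := hE (-f) (hS.base.pauli.neg_mem hfR) (by rw [neg_mul_neg, hff]) (by rw [_root_.mul_neg, _root_.neg_mul, haf])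
      hnf.1.neg (by rw [_root_.mul_neg]; exact hnf.2.neg)
    rwa [map_neg, smul_neg, ← neg_smul] at h
  have hfS : res ha f ∈ resSet ha R := ⟨f, ⟨hfR, haf⟩, rfl⟩
  refine hS.caseA hp haR ha hns (fun v hv h0 => ⟨h0, fun c hc => ?_⟩) hfR haf hnsf
  have hk := normal_centres (H := hS'.herm) hS' hnorm hall' hmul hfS hf2 hnsf
    (show i * -i = 1 by linear_combination -hS.base.sqrt) hfK hfK'
    (hgood.imp id fun hb => hS'.base.big_comm hb hfS) (v := (⟨v, mem_fxd.2 hv⟩ : fxd a)) h0
  obtain ⟨g, ⟨hg, hga, hgq⟩, hres'⟩ := hk.2 c hc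
  refine ⟨g, hg, fun x => ?_⟩
  have hdec : x = prj a x + q x := by
    simp [prj, hq]
    match_scalars <;> field_simp <;> norm_num
  have e1 : g (prj a x) = prj a x + (c * h (prj a x) v) • v := by
    have := congrArg (fun X : Module.End F (fxd a) => (X ⟨prj a x, prj_mem ha x⟩ : V)) hres'
    simpa [res_apply_comm h2 ha hga, utv_apply, hres] using this
  have e2 : h (q x) v = 0 := by
    have haq : a (q x) = -q x := by
      have e : a (a x) = x := LinearMap.congr_fun ha x
      simp [hq, e]
      module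
    exact (H.eq_zero_symm hS.card).1 (hS.ortho haR ha hv haq)
  have e3 : g (q x) = q x := LinearMap.congr_fun hgq x
  conv_lhs => rw [hdec, map_add, e1, e3]
  conv_rhs => rw [hdec, H.add_left, e2, add_zero]
  abel

end Cfsg.Agent.C6U
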