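/-
Subgroups of GL_2(p) containing an octahedral group given by quaternion units: criterion for containing SL_2(p).
Main results: `slTwo_le_of_quat`.
-/
import Cfsg.Agent.Lib.C6Two.SlotDickson

set_option autoImplicit false
set_option linter.unusedSectionVars false

namespace Cfsg.Agent.C6U

open Matrix MulAction Subgroup
open scoped LinearAlgebra.Projectivization commutatorElement
open Cfsg.Agent Cfsg.Agent.C6Two

variable {F : Type*} [Field F] [Fintype F] {p : ℕ} [Fact p.Prime]

local notation "π" => QuotientGroup.mk' (Subgroup.center (PSL2.SL2 F))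

theorem tr_zero_of_sq {A : PSL2.SL2 F} (hA : A.1 * A.1 = -1) : PSL2.tr A = 0 := by
  have h := PSL2.coe_sq A
  rw [hA, eq_comm, sub_eq_iff_eq_add, neg_add_cancel] at h
  refine (smul_eq_zero.1 h).resolve_right fun e => ?_
  rw [e, mul_zero, eq_comm, neg_eq_zero] at hA
  exact one_ne_zero hA

theorem det_one_add {A : PSL2.SL2 F} (hA : A.1 * A.1 = -1) : (1 + A.1).det = 2 := by
  have h1 := tr_zero_of_sq hA
  have h3 := PSL2.det_eq A
  rw [PSL2.tr] at h1
  simp [Matrix.det_fin_two]
  linear_combination h1 + h3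

theorem quat_ne_one (h2 : (2 : F) ≠ 0) {A : PSL2.SL2 F} (hA : A.1 * A.1 = -1) : π A ≠ 1 := by
  intro h
  rw [← map_one π] at h
  have e' : A * A = 1 := by
    rcases pi_eq h.symm with e | e <;> rw [e] <;> simp
  have hAA : A * A = -1 := val_ext (by rw [mul_val, sl_neg_val, hA]; rfl)
  rw [hAA] at e'
  exact PSL2.neg_one_ne_one_sl h2 e'

theorem quat_ne (h2 : (2 : F) ≠ 0) {A B : PSL2.SL2 F} (hA : A.1 * A.1 = -1) (hAB : A.1 * B.1 = -(B.1 * A.1)) :
    π A ≠ π B := by
  intro h
  have e : A.1 * B.1 = B.1 * A.1 := by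
    rcases pi_eq h with e | e <;> rw [e] <;> simp [sl_neg_val]
  rw [hAB] at e
  have e2 : (2 : F) • (B.1 * A.1) = 0 := by rw [two_smul]; nth_rewrite 1 [← e]; exact neg_add_cancel _
  have e3 := congrArg (· * A.1) ((smul_eq_zero.1 e2).resolve_left h2)
  simp only [mul_assoc, hA, mul_neg, mul_one, zero_mul, neg_eq_zero] at e3
  have := B.2
  rw [e3, Matrix.det_zero] at this
  exact zero_ne_one this

/-- An icosahedral projective image with an element of order four outside is impossible. -/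
theorem altFive_false_quat (hp5 : 5 ≤ p) [CharP F p] {H : Subgroup (GL (Fin 2) F)} (hsc : HasScalars H)
    (hpL : ¬ p ∣ Nat.card ((slPart H).map π)) (e5 : (slPart H).map π ≃* alternatingGroup (Fin 5))
    {A : PSL2.SL2 F} (hA : A.1 * A.1 = -1) {T : GL (Fin 2) F} (hT : T ∈ H)
    (hTv : (T : Matrix (Fin 2) (Fin 2) F) = 1 + A.1) : False := by
  have hd2 : (1 + A.1).det = 2 := det_one_add hA
  have h2 : (2 : F) ≠ 0 := PSL2.two_ne_zero_of_char p (by omega)
  set L := (slPart H).map π with hL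
  by_cases hsq : IsSquare (2 : F)
  · obtain ⟨c, hc2⟩ := hsq
    have hc0 : c ≠ 0 := fun e => h2 (by rw [hc2, e, mul_zero])
    let u : PSL2.SL2 F := ⟨c⁻¹ • (1 + A.1), by
      rw [Matrix.det_smul, hd2, Fintype.card_fin]; field_simp; linear_combination hc2⟩
    let cu : GL (Fin 2) F := GeneralLinearGroup.mkOfDetNeZero (c⁻¹ • 1) (by simp [hc0])
    have hu : u ∈ slPart H := by
      rw [mem_slPart, show Matrix.SpecialLinearGroup.toGL u = cu * T from
        Units.ext (by simp [Matrix.SpecialLinearGroup.toGL, cu, u, hTv])]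
      exact mul_mem (hsc cu c⁻¹ rfl) hT
    have hu2 : u * u = A := val_ext (by
      rw [mul_val]
      show c⁻¹ • (1 + A.1) * c⁻¹ • (1 + A.1) = A.1
      rw [smul_mul_assoc, mul_smul_comm, smul_smul, mul_add, add_mul, add_mul, hA, one_mul, mul_one, one_mul,
        show (1 : Matrix (Fin 2) (Fin 2) F) + A.1 + (A.1 + -1) = (2 : F) • A.1 by rw [two_smul]; abel, smul_smul,
        show c⁻¹ * c⁻¹ * 2 = 1 by field_simp; linear_combination hc2, one_smul])
    have hzz : A * A = -1 := val_ext (by rw [mul_val, sl_neg_val, hA]; rfl)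
    let x : L := ⟨π u, ⟨u, hu, rfl⟩⟩
    have h4 : x ^ 4 = 1 := Subtype.ext (by
      show π u ^ 4 = 1
      rw [← map_pow, show u ^ 4 = (u * u) * (u * u) by simp only [pow_succ, pow_zero, one_mul, mul_assoc], hu2, hzz, pi_neg_one])
    have h5 := altFive_no_four (e5 x) (by rw [← map_pow, h4, map_one])
    rw [← map_pow, map_eq_one_iff e5 e5.injective] at h5
    have h6 : π u ^ 2 = 1 := congrArg Subtype.val h5
    rw [← map_pow, pow_two, hu2] at h6
    exact quat_ne_one h2 hA h6
  · set K := H.map (ProjGenLinGroup.mk : GL (Fin 2) F →* PSL2.PGL2 F) with hK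
    set N := (ProjectiveSpecialLinearGroup.toPGL : PSL2.PSL2 F →* PSL2.PGL2 F).range with hN
    have := PSL2.range_toPGL_normal (F := F)
    have hKN : K ⊓ N = L.map ProjectiveSpecialLinearGroup.toPGL := by
      apply le_antisymm
      · rintro _ ⟨⟨w, hw, rfl⟩, v, hv⟩
        obtain ⟨u, rfl⟩ := QuotientGroup.mk_surjective v
        refine ⟨_, ⟨u, ?_, rfl⟩, hv⟩
        rw [ProjectiveSpecialLinearGroup.toPGL_mk, ProjGenLinGroup.mk_eq_mk_iff] at hv
        obtain ⟨r, hr⟩ := hv
        let cr : GL (Fin 2) F := GeneralLinearGroup.mkOfDetNeZero ((r : F)⁻¹ • 1) (by simp)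
        show Matrix.SpecialLinearGroup.toGL u ∈ H
        rw [show Matrix.SpecialLinearGroup.toGL u = cr * w from Units.ext (by
          have hr' := congrArg (fun M : GL (Fin 2) F => (M : Matrix (Fin 2) (Fin 2) F)) hr
          simp [Matrix.SpecialLinearGroup.toGL] at hr'
          ext a b
          fin_cases a <;> fin_cases b <;>
            simp [Matrix.SpecialLinearGroup.toGL, cr, ← hr'] <;> field_simp)]
        exact mul_mem (hsc cr _ rfl) hw
      · rintro _ ⟨_, ⟨u, hu, rfl⟩, rfl⟩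
        exact ⟨⟨_, hu, rfl⟩, ⟨_, rfl⟩⟩
    have hTN : ProjGenLinGroup.mk T ∉ N := by
      rw [hN, PSL2.mk_mem_range_iff]
      intro h'
      apply hsq
      convert h' using 1
      rw [GeneralLinearGroup.val_det_apply, hTv, hd2]
    have hr : N.relIndex K = 2 := by
      have hd := Subgroup.relIndex_dvd_index_of_normal N K
      rw [hN, PSL2.index_range_toPGL, (PSL2.odd_card p (by omega)).2] at hd
      rcases (Nat.dvd_prime Nat.prime_two).1 hd with h' | h'
      · exact absurd (Subgroup.relIndex_eq_one.1 h' ⟨T, hT, rfl⟩) hTN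
      · exact h'
    have hcardL : Nat.card L = 60 := by rw [Nat.card_congr e5.toEquiv, PSL2.card_alt_five]
    have e1 : Nat.card ↥(K ⊓ N) = 60 := by
      rw [hKN, ← Nat.card_congr (Subgroup.equivMapOfInjective L _
        ProjectiveSpecialLinearGroup.toPGL_injective).toEquiv, hcardL]
    have e2 := Subgroup.relIndex_mul_relIndex (⊥ : Subgroup (PSL2.PGL2 F)) (K ⊓ N) K bot_le inf_le_left
    rw [Subgroup.relIndex_bot_left, Subgroup.relIndex_bot_left, e1, inf_comm K N,
      Subgroup.inf_relIndex_right, hr] at e2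
    refine PSL2.pgl_card_120 p (fun h5 => hpL (by rw [hcardL, h5]; norm_num)) e2.symm fun hsol => ?_
    have hle : L.map ProjectiveSpecialLinearGroup.toPGL ≤ K := hKN ▸ inf_le_left
    have hsolL : Group.IsSolvable L :=
      Group.isSolvable_of_isSolvable_injective (f := (Subgroup.inclusion hle).comp
        (Subgroup.equivMapOfInjective L _ ProjectiveSpecialLinearGroup.toPGL_injective).toMonoidHom)
        ((Subgroup.inclusion_injective hle).comp (MulEquiv.injective _))
    exact PSL2.not_isSolvable_altFive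
      (Group.isSolvable_of_isSolvable_injective (f := e5.symm.toMonoidHom) e5.symm.injective)

set_option maxHeartbeats 1600000 in
/-- A group containing an octahedral group and not inside its normaliser contains SL_2(p). -/
theorem slTwo_le_of_quat (hF : Fintype.card F = p) (hp5 : 5 ≤ p) {H : Subgroup (GL (Fin 2) F)} (hsc : HasScalars H)
    {A B : PSL2.SL2 F} (hA : A.1 * A.1 = -1) (hB : B.1 * B.1 = -1) (hAB : A.1 * B.1 = -(B.1 * A.1))
    (hAH : A ∈ slPart H) (hBH : B ∈ slPart H) {T : GL (Fin 2) F} (hT : T ∈ H)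
    (hTv : (T : Matrix (Fin 2) (Fin 2) F) = 1 + A.1) {s : PSL2.SL2 F} (hs : s ∈ slPart H)
    (hsv : s.1 = (2 : F)⁻¹ • (1 + A.1 + B.1 + A.1 * B.1)) {g : GL (Fin 2) F} (hg : g ∈ H)
    (hgn : ∀ c : F, ∀ P ∈ ({A.1, B.1, A.1 * B.1} : Set (Matrix (Fin 2) (Fin 2) F)),
      (g : Matrix (Fin 2) (Fin 2) F) * A.1 ≠ c • (P * (g : Matrix (Fin 2) (Fin 2) F))) :
    ∀ u : PSL2.SL2 F, u ∈ slPart H := by
  have := charP_of_card hF
  have h2 : (2 : F) ≠ 0 := PSL2.two_ne_zero_of_char p (by omega)
  have smem : ∀ (u : PSL2.SL2 F) (w : GL (Fin 2) F) (c : F), w ∈ H →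
      u.1 = c • (w : Matrix (Fin 2) (Fin 2) F) → u ∈ slPart H := by
    intro u w c hw e
    have hc : c ≠ 0 := by
      rintro rfl
      have := u.2
      rw [e, zero_smul, Matrix.det_zero] at this
      exact zero_ne_one this
    let cw : GL (Fin 2) F := GeneralLinearGroup.mkOfDetNeZero (c • 1) (by simp [hc])
    rw [mem_slPart, show Matrix.SpecialLinearGroup.toGL u = cw * w from
      Units.ext (by simp [Matrix.SpecialLinearGroup.toGL, cw, e])]
    exact mul_mem (hsc cw c rfl) hw
  set C := A * B with hC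
  have hCv : C.1 = A.1 * B.1 := rfl
  have hBA : B.1 * A.1 = -(A.1 * B.1) := by rw [hAB, neg_neg]
  have aA : ∀ X, A.1 * (A.1 * X) = -X := fun X => by rw [← mul_assoc, hA, neg_mul, one_mul]
  have aB : ∀ X, B.1 * (B.1 * X) = -X := fun X => by rw [← mul_assoc, hB, neg_mul, one_mul]
  have aBA : ∀ X, B.1 * (A.1 * X) = -(A.1 * (B.1 * X)) := fun X => by
    rw [← mul_assoc, hBA, neg_mul, mul_assoc]
  have hCC : C.1 * C.1 = -1 := by
    simp only [hCv, mul_assoc, aBA, mul_neg, aA, hB, neg_neg]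
  have hCH : C ∈ slPart H := mul_mem hAH hBH
  have hAC : A.1 * C.1 = -(C.1 * A.1) := by
    simp only [hCv, mul_assoc, aA, hBA, mul_neg, neg_neg]
  have hBC : B.1 * C.1 = -(C.1 * B.1) := by
    simp only [hCv, mul_assoc, aBA, hB, mul_neg, mul_one, neg_neg]
  set t := -A * s with htdef
  have hnA : -A ∈ slPart H := smem _ (Matrix.SpecialLinearGroup.toGL A) (-1) hAH (by simp [sl_neg_val])
  have ht : t ∈ slPart H := mul_mem hnA hs
  have trA := tr_zero_of_sq hA
  have trB := tr_zero_of_sq hB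
  have trC := tr_zero_of_sq hCC
  simp only [PSL2.tr, hCv] at trA trB trC
  have hs1 : PSL2.tr s = 1 := by
    simp only [PSL2.tr, hsv]
    simp
    field_simp
    simp [Matrix.mul_apply, Fin.sum_univ_two] at trC
    simp [Matrix.mul_apply, Fin.sum_univ_two]
    linear_combination trA + trB + trC
  have ht1 : PSL2.tr t = 1 := by
    have e : t.1 = (2 : F)⁻¹ • (1 - A.1 + B.1 - A.1 * B.1) := by
      rw [htdef, mul_val, sl_neg_val, hsv, mul_smul_comm]
      congr 1
      simp only [mul_add, neg_mul, mul_one, hA, aA]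
      abel
    simp only [PSL2.tr, e]
    simp
    field_simp
    simp [Matrix.mul_apply, Fin.sum_univ_two] at trC
    simp [Matrix.mul_apply, Fin.sum_univ_two]
    linear_combination -trA + trB - trC
  have cube : ∀ w : PSL2.SL2 F, PSL2.tr w = 1 → π w ^ 3 = 1 := fun w hw => by
    rw [← map_pow]
    refine (QuotientGroup.eq_one_iff _).2 (PSL2.mem_center_iff'.2 (Or.inr (Subtype.ext ?_)))
    have h := PSL2.coe_sq w
    rw [hw, one_smul] at h
    rw [coe_pow', Matrix.SpecialLinearGroup.coe_neg, Matrix.SpecialLinearGroup.coe_one, pow_succ,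
      pow_two, h, sub_mul, h, one_mul]
    abel
  have rel : ∀ (v u : PSL2.SL2 F), v.1 * s.1 = u.1 * s.1 * v.1 → v * s = u * s * v := fun v u e =>
    val_ext (by simp only [mul_val]; exact e)
  have r1 : s * t = C * t * s := val_ext (by
    simp only [htdef, mul_val, sl_neg_val, hsv, hCv, smul_mul_assoc, mul_smul_comm, smul_smul, neg_mul, mul_neg,
      mul_add, add_mul, mul_one, one_mul, mul_assoc, aA, aB, aBA, hA, hB, hBA, neg_neg]
    module)
  have rB : B * s = -A * s * B := rel _ _ (by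
    simp only [sl_neg_val, hsv, smul_mul_assoc, mul_smul_comm, neg_mul, mul_neg,
      mul_add, add_mul, mul_one, one_mul, mul_assoc, aA, aB, aBA, hA, hB, hBA, neg_neg]
    module)
  have rC : C * s = -B * s * C := rel _ _ (by
    simp only [sl_neg_val, hsv, hCv, smul_mul_assoc, mul_smul_comm, neg_mul, mul_neg,
      mul_add, add_mul, mul_one, one_mul, mul_assoc, aA, aB, aBA, hA, hB, hBA, neg_neg]
    module)
  have rA : A * s = -C * s * A := rel _ _ (by
    simp only [sl_neg_val, hsv, hCv, smul_mul_assoc, mul_smul_comm, neg_mul, mul_neg,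
      mul_add, add_mul, mul_one, one_mul, mul_assoc, aA, aB, aBA, hA, hB, hBA, neg_neg]
    module)
  rcases sl_or_exceptional hF hp5 hsc hs ht (cube s hs1) (cube t ht1)
    (tr_comm_zero r1 (tr_zero_of_sq hCC) h2) with h | ⟨hpL, h⟩
  · exact h
  exfalso
  set L := (slPart H).map π with hLdef
  rcases h with h4 | h4 | ⟨⟨e5⟩⟩
  rotate_left 2
  · exact altFive_false_quat hp5 hsc hpL e5 hA hT hTv
  all_goals
    obtain ⟨e⟩ := h4
    have hcard : Nat.card {x : L // x ^ 2 = 1 ∧ ∃ a b : L, ⁅a, b⁆ = x} = 4 :=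
      natCard_four_le e (by first | exact four_set_perm | exact four_set_alt)
    let X' := {x : L // x ^ 2 = 1 ∧ ∃ a b : L, ⁅a, b⁆ = x}
    have inL : ∀ {u : PSL2.SL2 F}, u ∈ slPart H → π u ∈ L := fun hu => ⟨_, hu, rfl⟩
    have sq : ∀ {u : PSL2.SL2 F}, u.1 * u.1 = -1 → u * u = -1 := fun hu =>
      val_ext (by rw [mul_val, sl_neg_val, hu]; rfl)
    have mkc : ∀ {u v w : PSL2.SL2 F} (hu : u ∈ slPart H) (hv : v ∈ slPart H) (hw : w ∈ slPart H),
        (v * w = -u * w * v) → u * u = -1 →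
        (⟨π u, inL hu⟩ : L) ^ 2 = 1 ∧ ∃ a b : L, ⁅a, b⁆ = ⟨π u, inL hu⟩ := by
      intro u v w hu hv hw hvw huu
      refine ⟨Subtype.ext ?_, ⟨π v, inL hv⟩, ⟨π w, inL hw⟩, Subtype.ext ?_⟩
      · show π u ^ 2 = 1
        rw [← map_pow, pow_two, huu, pi_neg_one]
      · show ⁅π v, π w⁆ = π u
        rw [← map_commutatorElement, comm_eq_of_mul hvw, pi_neg]
    have zz := sq hA
    -- conjugates under g
    set G := (g : Matrix (Fin 2) (Fin 2) F) with hG
    set G' := ((g⁻¹ : GL (Fin 2) F) : Matrix (Fin 2) (Fin 2) F) with hG'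
    have gg : G' * G = 1 := by rw [hG, hG', ← Units.val_mul, inv_mul_cancel, Units.val_one]
    have gg' : G * G' = 1 := by rw [hG, hG', ← Units.val_mul, mul_inv_cancel, Units.val_one]
    let cj : PSL2.SL2 F → PSL2.SL2 F := fun u => ⟨G * u.1 * G', by
      rw [hG, hG', Matrix.det_units_conj]; exact u.2⟩
    have cjm : ∀ u, u ∈ slPart H → cj u ∈ slPart H := fun u hu =>
      smem _ _ 1 (mul_mem (mul_mem hg (mem_slPart.1 hu)) (inv_mem hg))
        (by simp [cj, hG, hG', Matrix.SpecialLinearGroup.toGL])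
    have cjmul : ∀ u w, cj (u * w) = cj u * cj w := fun u w => val_ext (by
      show G * (u.1 * w.1) * G' = (G * u.1 * G') * (G * w.1 * G')
      calc G * (u.1 * w.1) * G' = G * u.1 * (G' * G) * w.1 * G' := by rw [gg]; simp [mul_assoc]
        _ = _ := by simp [mul_assoc])
    have cjneg : ∀ u, cj (-u) = -cj u := fun u => val_ext (by
      show G * (-u.1) * G' = -(G * u.1 * G')
      simp)
    have cjone : cj 1 = 1 := val_ext (by simp [cj, gg'])
    have hvv : cj A * cj A = -1 := by rw [← cjmul, zz, cjneg, cjone]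
    have hvc : cj B * cj s = -(cj A) * cj s * cj B := by
      rw [← cjneg, ← cjmul, rB, cjmul, cjmul]
    let a0 : X' := ⟨1, by simp, 1, 1, by simp [commutatorElement_def]⟩
    let a1 : X' := ⟨⟨π A, inL hAH⟩, mkc hAH hBH hs rB zz⟩
    let a2 : X' := ⟨⟨π B, inL hBH⟩, mkc hBH hCH hs rC (sq hB)⟩
    let a3 : X' := ⟨⟨π C, inL hCH⟩, mkc hCH hAH hs rA (sq hCC)⟩
    let a4 : X' := ⟨⟨π (cj A), inL (cjm _ hAH)⟩, mkc (cjm _ hAH) (cjm _ hBH) (cjm _ hs) hvc hvv⟩
    have hvA : (cj A).1 * (cj A).1 = -1 := by rw [← mul_val, hvv, sl_neg_val]; rfl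
    have hvne : ∀ (u : PSL2.SL2 F), u.1 ∈ ({A.1, B.1, A.1 * B.1} : Set (Matrix (Fin 2) (Fin 2) F)) →
        π (cj A) ≠ π u := by
      intro u hP h'
      obtain ⟨d, hd⟩ : ∃ d : F, G * A.1 * G' = d • u.1 := by
        rcases pi_eq h'.symm with e' | e'
        · exact ⟨1, by rw [one_smul, ← e']⟩
        · exact ⟨-1, by rw [neg_one_smul, ← sl_neg_val, ← e']⟩
      refine hgn d u.1 hP ?_
      have h9 := congrArg (· * G) hd
      simp only [mul_assoc, gg, mul_one, Matrix.smul_mul] at h9
      exact h9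
    have hv1 : π (cj A) ≠ 1 := quat_ne_one h2 hvA
    have d14 : π (cj A) ≠ π A := hvne A (Or.inl rfl)
    have d24 : π (cj A) ≠ π B := hvne B (Or.inr (Or.inl rfl))
    have d34 : π (cj A) ≠ π C := hvne C (Or.inr (Or.inr rfl))
    have d01 : π A ≠ 1 := quat_ne_one h2 hA
    have d02 : π B ≠ 1 := quat_ne_one h2 hB
    have d03 : π C ≠ 1 := quat_ne_one h2 hCC
    have d12 : π A ≠ π B := quat_ne h2 hA hAB
    have d13 : π A ≠ π C := quat_ne h2 hA hAC
    have d23 : π B ≠ π C := quat_ne h2 hB hBC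
    have hinj : Function.Injective ![a0, a1, a2, a3, a4] := by
      intro j k hjk
      have := congrArg (fun q : X' => ((q.1 : L) : PSL2.PSL2 F)) hjk
      fin_cases j <;> fin_cases k <;>
        first
        | rfl
        | exact absurd this.symm (by first | exact d01 | exact d02 | exact d03 | exact hv1 | exact d12 | exact d13 | exact d23 | exact d14 | exact d24 | exact d34)
        | exact absurd this (by first | exact d01 | exact d02 | exact d03 | exact hv1 | exact d12 | exact d13 | exact d23 | exact d14 | exact d24 | exact d34)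
    have h5 := Nat.card_le_card_of_injective _ hinj
    rw [Nat.card_fin, hcard] at h5
    omega

end Cfsg.Agent.C6U
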