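/-
Matrices over the prime field acting through an anticommuting pair.
Main results: `charP_of_sq`, `exists_cast`, `QPair`, `psi`, `psi_A`, `psi_B`, `slotK`, `psi_inj`.
-/
import Cfsg.Agent.Lib.C6U.QuatDickson
import Cfsg.Agent.Lib.C6U.Basic

set_option autoImplicit false
set_option linter.unusedSectionVars false

namespace Cfsg.Agent.C6U

open Matrix
open Cfsg.Agent Cfsg.Agent.C6Two Cfsg.Agent.Unitary

variable {F : Type*} [Field F] [Fintype F] {p : ℕ} {V : Type*} [AddCommGroup V] [Module F V]

theorem charP_of_sq (hF : Fintype.card F = p ^ 2) (hp : p.Prime) : CharP F p := by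
  obtain ⟨q, m, hq, hchar, hpm, hm⟩ := exists_prime_pow hF
  have hqp : q = p :=
    (Nat.prime_dvd_prime_iff_eq hq hp).1 (hpm.symm ▸ dvd_pow_self q (Nat.one_le_iff_ne_zero.1 hm))
  exact hqp ▸ hchar

variable [Fact p.Prime] [CharP F p]

/-- The prime field inside. -/
noncomputable def cst (p : ℕ) (F : Type*) [Field F] [CharP F p] : ZMod p →+* F := ZMod.castHom (dvd_refl p) F

theorem cst_inj : Function.Injective (cst p F) := RingHom.injective _

theorem exists_cast {x : F} (hx : x ^ p = x) : ∃ k : ZMod p, cst p F k = x := by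
  have h := (Subfield.mem_bot_iff_pow_eq_self F p).2 hx
  rw [← ZMod.fieldRange_castHom_eq_bot p] at h
  obtain ⟨k, hk⟩ := RingHom.mem_fieldRange.1 h
  exact ⟨k, hk⟩

theorem cst_pow (k : ZMod p) : cst p F k ^ p = cst p F k := by rw [← map_pow, ZMod.pow_card]

/-- Two anticommuting elements with squares -1 and a constant of the prime field, and a splitting. -/
structure QPair (A B : Module.End F V) (r s e : ZMod p) : Prop where
  two : (2 : F) ≠ 0
  sqA : A * A = -1
  sqB : B * B = cst p F e • 1
  anti : A * B = -(B * A)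
  split : (r * r + s * s) * e = 1

variable {A B : Module.End F V} {r s e : ZMod p}

theorem QPair.slot (q : QPair A B r s e) :
    SlotPair (cst p F r • B + cst p F s • (A * B)) A (-1) := by
  have hBA : B * A = -(A * B) := anti_symm q.anti
  have aA : ∀ X, A * (A * X) = -X := fun X => by rw [← mul_assoc, q.sqA, _root_.neg_mul, one_mul]
  have aBA : ∀ X, B * (A * X) = -(A * (B * X)) := fun X => by rw [← mul_assoc, hBA, _root_.neg_mul, mul_assoc]
  have hsplit : (cst p F r * cst p F r + cst p F s * cst p F s) * cst p F e = 1 := by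
    rw [← map_mul, ← map_mul, ← map_add, ← map_mul, q.split, map_one]
  refine ⟨q.two, ?_, ?_, by rw [q.sqA, neg_one_smul], neg_ne_zero.2 one_ne_zero⟩
  · simp only [mul_add, add_mul, smul_mul_assoc, mul_smul_comm, mul_assoc, aBA, hBA, q.sqB, q.sqA, aA, _root_.mul_neg,
      smul_neg, neg_neg, smul_smul, mul_one]
    match_scalars <;> first | ring1 | linear_combination hsplit
  · simp only [mul_add, add_mul, smul_mul_assoc, mul_smul_comm, mul_assoc, hBA, aA, _root_.mul_neg, smul_neg,
      neg_neg, neg_add]

/-- The map from matrices over the prime field. -/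
noncomputable def psi (q : QPair A B r s e) : Matrix (Fin 2) (Fin 2) (ZMod p) →+* Module.End F V :=
  (slotHom q.slot).toRingHom.comp (cst p F).mapMatrix

theorem psi_apply (q : QPair A B r s e) (M : Matrix (Fin 2) (Fin 2) (ZMod p)) :
    psi q M = slotHom q.slot (M.map (cst p F)) := rfl

theorem psi_smul (q : QPair A B r s e) (k : ZMod p) (M : Matrix (Fin 2) (Fin 2) (ZMod p)) :
    psi q (k • M) = cst p F k • psi q M := by
  rw [psi_apply, psi_apply, ← map_smul]
  congr 1
  ext a b
  simp

/-- The matrix of the first element. -/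
def mA (p : ℕ) : Matrix (Fin 2) (Fin 2) (ZMod p) := !![0, -1; 1, 0]

/-- The matrix of the second element. -/
def mB (r s e : ZMod p) : Matrix (Fin 2) (Fin 2) (ZMod p) := e • !![r, -s; -s, -r]

theorem psi_A (q : QPair A B r s e) : psi q (mA p) = A := by
  have : (mA p).map (cst p F) = !![0, -1; 1, 0] := by
    ext a b; fin_cases a <;> fin_cases b <;> simp [mA]
  rw [psi_apply, this, slotHom_alpha]

theorem psi_B (q : QPair A B r s e) : psi q (mB r s e) = B := by
  have hsplit : (cst p F r * cst p F r + cst p F s * cst p F s) * cst p F e = 1 := by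
    rw [← map_mul, ← map_mul, ← map_add, ← map_mul, q.split, map_one]
  have hm : (mB r s e).map (cst p F) = cst p F e •
      (cst p F r • !![1, 0; 0, -1] - cst p F s • (!![0, -1; 1, 0] * !![1, 0; 0, -1])) := by
    ext a b; fin_cases a <;> fin_cases b <;> simp [mB, Matrix.mul_apply, Fin.sum_univ_two]
  rw [psi_apply, hm, map_smul, map_sub, map_smul, map_smul, map_mul, slotHom_z, slotHom_alpha]
  simp only [mul_add, mul_smul_comm, ← mul_assoc A A B, q.sqA, _root_.neg_mul, one_mul, smul_add, smul_sub, smul_smul,
    smul_neg]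
  match_scalars <;> first | ring1 | linear_combination hsplit | linear_combination -hsplit

theorem psi_inj [Nontrivial V] (q : QPair A B r s e) : Function.Injective (psi q) := by
  have hns : NS (cst p F r • B + cst p F s • (A * B)) := by
    intro c hc
    have h1 := q.slot.anti
    rw [hc, smul_mul_assoc, mul_smul_comm, one_mul, mul_one] at h1
    have h3 : ((2 : F) * c) • A = 0 := by linear_combination (norm := module) h1
    have h4 := q.slot.sq
    rcases smul_eq_zero.1 h3 with e0 | e0
    · rw [hc, (mul_eq_zero.1 e0).resolve_left q.two, zero_smul, zero_mul] at h4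
      exact zero_ne_one h4
    · have h5 := q.sqA
      rw [e0, zero_mul, eq_comm, neg_eq_zero] at h5
      exact one_ne_zero h5
  intro M N hMN
  exact Matrix.map_injective cst_inj (slotHom_injective q.slot hns hMN)

theorem det_ne_zero_of_inv [Nontrivial V] (q : QPair A B r s e) {M : Matrix (Fin 2) (Fin 2) (ZMod p)}
    {g : Module.End F V} (hg : g * psi q M = 1) : M.det ≠ 0 := by
  intro h0
  have h1 := congrArg (psi q) (Matrix.mul_adjugate M)
  rw [h0, zero_smul, map_zero, map_mul] at h1
  have h3 := congrArg (g * ·) h1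
  simp only [← mul_assoc, hg, one_mul, mul_zero] at h3
  have h4 : M.adjugate = 0 := psi_inj q (by rw [h3, map_zero])
  have h5 : M = 0 := by
    ext a b
    have h00 := congrFun (congrFun h4 0) 0
    have h01 := congrFun (congrFun h4 0) 1
    have h10 := congrFun (congrFun h4 1) 0
    have h11 := congrFun (congrFun h4 1) 1
    simp [Matrix.adjugate_fin_two] at h00 h01 h10 h11
    fin_cases a <;> fin_cases b <;> simp_all
  rw [h5, map_zero, mul_zero] at hg
  exact zero_ne_one hg

variable {R S : Set (Module.End F V)} {i : F}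

/-- The matrices over the prime field mapped into the group. -/
noncomputable def slotK (hS : Setup R S i) (q : QPair A B r s e) : Subgroup (GL (Fin 2) (ZMod p)) where
  carrier := {g | psi q (g : Matrix (Fin 2) (Fin 2) (ZMod p)) ∈ S}
  one_mem' := by simpa using hS.one_mem
  mul_mem' := fun {x y} hx hy => by simpa using hS.mul _ hx _ hy
  inv_mem' := fun {x} hx => hS.inv_mem hx (by rw [← map_mul, ← Units.val_mul, mul_inv_cancel, Units.val_one, map_one])

theorem mem_slotK (hS : Setup R S i) (q : QPair A B r s e) {g : GL (Fin 2) (ZMod p)} :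
    g ∈ slotK hS q ↔ psi q (g : Matrix (Fin 2) (Fin 2) (ZMod p)) ∈ S := Iff.rfl

theorem slotK_scalars (hS : Setup R S i) (q : QPair A B r s e) : HasScalars (slotK hS q) := fun g c hg => by
  rw [mem_slotK, hg, psi_smul, map_one]
  refine hS.le (hS.pauli.scal _ fun e0 => ?_)
  have := g.det_ne_zero
  rw [hg, cst_inj (e0.trans (map_zero _).symm), zero_smul, Matrix.det_zero] at this
  exact this rfl

theorem mem_slPartK (hS : Setup R S i) (q : QPair A B r s e) {u : PSL2.SL2 (ZMod p)} :
    u ∈ slPart (slotK hS q) ↔ psi q u.1 ∈ S := Iff.rfl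

end Cfsg.Agent.C6U
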