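/-
The case of characteristic three: four generators of the system and two half-vectors give all centres.
Main results: `finrank_le_of_generators`, `plane_line`, `USetup.three`.
-/
import Cfsg.Agent.Lib.C6U.Escape
import Cfsg.Agent.Lib.C6U.Slot

set_option autoImplicit false
set_option linter.unusedSectionVars false

namespace Cfsg.Agent.C6U

open Module
open Cfsg.Agent Cfsg.Agent.C6Two Cfsg.Agent.Unitary

variable {F : Type*} [Field F] [Fintype F] {p : ℕ} {V : Type*} [AddCommGroup V] [Module F V] [FiniteDimensional F V]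
variable {h : V → V → F} {R S : Set (Module.End F V)} {i : F}

/-- Adjoining one right factor. -/
def adjoinR (g : Module.End F V) (M : Submodule F (Module.End F V)) : Submodule F (Module.End F V) :=
  M ⊔ M.map (LinearMap.mulRight F g)

theorem finrank_adjoinR (g : Module.End F V) (M : Submodule F (Module.End F V)) :
    Module.finrank F (adjoinR g M) ≤ 2 * Module.finrank F M :=
  (Submodule.finrank_add_le_finrank_add_finrank _ _).trans (by
    have := Submodule.finrank_map_le (LinearMap.mulRight F g) M; omega)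

variable [Nontrivial V]

/-- A system with two commuting hyperbolic pairs and no further element lives in dimension at most four. -/
theorem finrank_le_of_generators (P : Pauli R) {a b u w : Module.End F V} (ha : a ∈ R) (hb : b ∈ R) (hu : u ∈ R)
    (hw : w ∈ R) (haa : a * a = 1) (hbb : b * b = 1) (huu : u * u = 1) (hww : w * w = 1)
    (hab : a * b = -(b * a)) (hau : a * u = u * a) (haw : a * w = w * a) (hub : u * b = b * u)
    (hwb : w * b = b * w) (huw : u * w = -(w * u))
    (hd : ∀ d ∈ R, d * a = a * d → d * b = b * d → d * u = u * d → d * w = w * d → ∃ c : F, d = c • 1) :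
    Module.finrank F V ≤ 4 := by
  set T₀ : Submodule F (Module.End F V) := Submodule.span F {1}
  set T₄ := adjoinR a (adjoinR b (adjoinR w (adjoinR u T₀)))
  have hmem : ∀ {g : Module.End F V} {M : Submodule F (Module.End F V)} {r : Module.End F V}, g * g = 1 →
      r * g ∈ M → r ∈ adjoinR g M := by
    intro g M r hgg hr
    exact Submodule.mem_sup_right ⟨r * g, hr, by simp [mul_assoc, hgg]⟩
  have flip : ∀ {r x y : Module.End F V}, r * x = -(x * r) → x * y = -(y * x) → (r * y) * x = x * (r * y) :=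
    fun h1 h2 => (anti_mul (anti_symm h1) h2).symm
  have keep : ∀ {r x y : Module.End F V}, r * x = x * r → x * y = y * x → (r * y) * x = x * (r * y) :=
    fun h1 h2 => (comm_mul h1.symm h2).symm
  have hR : R ⊆ (T₄ : Set (Module.End F V)) := by
    intro r hr
    obtain ⟨r₁, hr₁, hr₁a, hback₁⟩ : ∃ r₁ ∈ R, r₁ * a = a * r₁ ∧
        (r₁ ∈ adjoinR a (adjoinR b (adjoinR w (adjoinR u T₀))) → r₁ = r ∨ r₁ = r * b) := by
      rcases P.cac r hr a ha with e | e
      · exact ⟨r, hr, e, fun _ => Or.inl rfl⟩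
      · exact ⟨r * b, P.mul r hr b hb, flip e hab, fun _ => Or.inr rfl⟩
    clear hback₁ hr₁ hr₁a r₁
    have l0 : ∀ d ∈ R, d * a = a * d → d * b = b * d → d * u = u * d → d * w = w * d → d ∈ T₀ := by
      intro d hdR h1 h3 h4 h5
      obtain ⟨c, hc⟩ := hd d hdR h1 h3 h4 h5
      rw [hc]; exact Submodule.smul_mem _ _ (Submodule.mem_span_singleton_self _)
    have l1 : ∀ d ∈ R, d * a = a * d → d * b = b * d → d * u = u * d → d ∈ adjoinR u T₀ := by
      intro d hdR h1 h3 h4
      rcases P.cac d hdR w hw with e | e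
      · exact Submodule.mem_sup_left (l0 d hdR h1 h3 h4 e)
      · exact hmem huu (l0 _ (P.mul d hdR u hu) (keep h1 hau) (keep h3 hub.symm) (keep h4 rfl)
          (flip e (anti_symm huw)))
    have l2 : ∀ d ∈ R, d * a = a * d → d * b = b * d → d ∈ adjoinR w (adjoinR u T₀) := by
      intro d hdR h1 h3
      rcases P.cac d hdR u hu with e | e
      · exact Submodule.mem_sup_left (l1 d hdR h1 h3 e)
      · exact hmem hww (l1 _ (P.mul d hdR w hw) (keep h1 haw) (keep h3 hwb.symm) (flip e huw))
    have l3 : ∀ d ∈ R, d * b = b * d → d ∈ adjoinR b (adjoinR w (adjoinR u T₀)) := by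
      intro d hdR h3
      rcases P.cac d hdR a ha with e | e
      · exact Submodule.mem_sup_left (l2 d hdR e h3)
      · exact hmem hbb (l2 _ (P.mul d hdR b hb) (flip e hab) (keep h3 rfl))
    rcases P.cac r hr b hb with e | e
    · exact Submodule.mem_sup_left (l3 r hr e)
    · exact hmem haa (l3 _ (P.mul r hr a ha) (flip e (anti_symm hab)))
  have h16 : Module.finrank F T₄ ≤ 16 := by
    have h0 : Module.finrank F T₀ = 1 := finrank_span_singleton one_ne_zero
    have h1 := finrank_adjoinR u T₀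
    have h2 := finrank_adjoinR w (adjoinR u T₀)
    have h3 := finrank_adjoinR b (adjoinR w (adjoinR u T₀))
    have h4 := finrank_adjoinR a (adjoinR b (adjoinR w (adjoinR u T₀)))
    simp only [T₄]
    omega
  have htop : T₄ = ⊤ := eq_top_iff.2 (by rw [← P.span]; exact Submodule.span_le.2 hR)
  rw [htop, finrank_top, Module.finrank_linearMap] at h16
  by_contra hc
  push Not at hc
  nlinarith

variable (hS : USetup p h R S i)

include hS

/-- In a subspace of dimension two the vectors orthogonal to a nonzero isotropic one are its multiples. -/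
theorem plane_line {W : Submodule F V} (hd : Module.finrank F W ≤ 2) (hnd : Nondeg (hres h W)) {v y : V}
    (hv : v ∈ W) (hy : y ∈ W) (hvv : h v v = 0) (hv0 : v ≠ 0) (hyv : h y v = 0) : ∃ c : F, y = c • v := by
  have H := hS.herm
  have hF := hS.card
  obtain ⟨w, -, hvw⟩ := exists_partner_iso hF (H.comap W.subtype) hnd (u := ⟨v, hv⟩) hvv
    (fun e => hv0 (congrArg Subtype.val e))
  change h v (w : V) = 1 at hvw
  have hwv : h (w : V) v = 1 := by rw [H.conj_symm v w, hvw, one_pow]
  have hli : LinearIndependent F ![(⟨v, hv⟩ : W), w] := by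
    refine LinearIndependent.pair_iff.2 fun s t e => ?_
    have e' : s • v + t • (w : V) = 0 := congrArg Subtype.val e
    have e1 := congrArg (fun z => h z v) e'
    simp only [H.add_left, H.smul_left, H.zero_left, hvv, hwv, mul_zero, mul_one, zero_add] at e1
    refine ⟨?_, e1⟩
    rw [e1, zero_smul, add_zero] at e'
    exact (smul_eq_zero.1 e').resolve_right hv0
  have hsp := hli.span_eq_top_of_card_eq_finrank' (by
    have := hli.fintype_card_le_finrank
    simp only [Fintype.card_fin] at this ⊢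
    omega)
  have hm : (⟨y, hy⟩ : W) ∈ Submodule.span F (Set.range ![(⟨v, hv⟩ : W), w]) := by rw [hsp]; trivial
  rw [Matrix.range_cons, Matrix.range_cons, Matrix.range_empty, Set.union_empty, Submodule.span_union,
    Submodule.mem_sup] at hm
  obtain ⟨y₁, hy₁, y₂, hy₂, e⟩ := hm
  obtain ⟨α, rfl⟩ := Submodule.mem_span_singleton.1 hy₁
  obtain ⟨β, rfl⟩ := Submodule.mem_span_singleton.1 hy₂
  have e' : α • v + β • (w : V) = y := congrArg Subtype.val e
  rw [← e', H.add_left, H.smul_left, H.smul_left, hvv, hwv, mul_zero, zero_add, mul_one] at hyv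
  exact ⟨α, by rw [← e', hyv, zero_smul, add_zero]⟩

set_option maxHeartbeats 3200000 in
/-- The centraliser step in characteristic three. -/
theorem USetup.three (hp3 : p = 3) (hp : p % 4 = 3) (hbig : Big R)
    (hN : ∀ c : Module.End F V, c ∈ R → ∀ hc : c * c = 1, NS c → ∀ g₁ ∈ S, c * g₁ = g₁ * c →
      Norml (resSet hc R) (res hc g₁))
    {a b u w : Module.End F V} (haR : a ∈ R) (ha : a * a = 1) (hb : b ∈ R) (hbb : b * b = 1)
    (hab : a * b = -(b * a)) (hu : u ∈ R) (hw : w ∈ R) (hau : a * u = u * a) (haw : a * w = w * a)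
    (huw : u * w = -(w * u)) (hub : u * b = b * u) (hwb : w * b = b * w) (huu : u * u = 1) (hww : w * w = 1)
    {Q : Fin 5 → Module.End F V} (hQ : Five Q) (hQR : ∀ k, Q k ∈ R)
    (hQc : ∀ d : Module.End F V, d * a = a * d → d * b = b * d → d * u = u * d → d * w = w * d →
      ∀ k, d * Q k = Q k * d)
    (hrel : Q 0 * ((Q 1 + Q 2 + Q 3) * (Q 1 - Q 2 + Q 4)) = (Q 1 + Q 2 + Q 3) * (Q 1 - Q 2 + Q 4))
    {hf : F} (hh : 2 * hf = 1) (hUS : lin5 Q ![hf, hf, hf, hf, 0] ∈ S) (hVS : lin5 Q ![hf, hf, hf, 0, hf] ∈ S) :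
    AllC p h S := by
  subst hp3
  have := Fact.mk hS.prime
  have := charP_of_sq hS.card hS.prime
  have hF := hS.card
  have H := hS.herm
  have hSb := hS.base
  have h2 := hSb.two
  have h30 : (3 : F) = 0 := by simpa using CharP.cast_eq_zero F 3
  by_cases hex : ∃ d ∈ R, NS d ∧ d * a = a * d ∧ d * b = b * d ∧ d * u = u * d ∧ d * w = w * d
  · exfalso
    obtain ⟨d₀, hd₀, hnd₀, hda, hdb, hdu, hdw⟩ := hex
    obtain ⟨c, hc, hcd, hcc⟩ := hSb.pauli.exists_invol hd₀
    set d := c • d₀ with hd
    have cm : ∀ {x : Module.End F V}, d₀ * x = x * d₀ → d * x = x * d := fun e => by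
      rw [hd, smul_mul_assoc, e, mul_smul_comm]
    have hdQ : ∀ k, d * Q k = Q k * d := hQc d (cm hda) (cm hdb) (cm hdu) (cm hdw)
    have hdl : ∀ z, d * lin5 Q z = lin5 Q z * d := fun z => by
      simp only [lin5, Finset.mul_sum, Finset.sum_mul, mul_smul_comm, smul_mul_assoc, hdQ]
    have hnd : NS d := hnd₀.smul hc
    set q : Fin 5 → Module.End F (fxd d) := fun k => res hcc (Q k) with hq
    have hq5 : Five q := by
      refine ⟨fun k => ?_, fun j k hjk => ?_⟩
      · simp only [hq]; rw [← res_mul h2 hcc (hdQ k), hQ.1, res_one h2 hcc]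
      · simp only [hq]; rw [← res_mul h2 hcc (hdQ k), hQ.2 j k hjk, map_neg, res_mul h2 hcc (hdQ j)]
    have hlin : ∀ z, res hcc (lin5 Q z) = lin5 q z := fun z => by simp [lin5, hq, map_sum, map_smul]
    have := exists_fxd_ne hcc hnd
    haveI : Nontrivial (fxd d) := ⟨⟨this.choose, 0, this.choose_spec⟩⟩
    obtain ⟨y, hy, hyU⟩ := hN d hcd hcc hnd _ hUS (hdl _) (q 0) ⟨Q 0, ⟨hQR 0, hdQ 0⟩, rfl⟩
    rw [hlin] at hyU
    set z : Fin 5 → F := ![hf, hf, hf, hf, 0]
    have hzz : dot5 z z = 1 := by simp [z, dot5, Fin.sum_univ_five]; linear_combination (2 * hf + 1) * hh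
    have hz2 : lin5 q z * lin5 q z = 1 := by
      have e := hq5.anticomm_sum z z
      rw [hzz, mul_one, ← two_smul F] at e
      exact smul_right_injective _ h2 e
    have e0 : q 0 = lin5 q ![1, 0, 0, 0, 0] := by simp [lin5, Fin.sum_univ_five]
    have hy2 : y = lin5 q ![-hf, hf, hf, hf, 0] := by
      have e := congrArg (· * lin5 q z) hyU
      simp only [mul_assoc, hz2, mul_one] at e
      rw [← e, ← mul_assoc, e0, hq5.sandwich, hzz]
      congr 1
      funext k
      fin_cases k <;> simp [z, dot5, Fin.sum_univ_five] <;> grind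
    have hsum := hq5.anticomm_sum ![-hf, hf, hf, hf, 0] ![1, 0, 0, 0, 0]
    rw [← e0, ← hy2, show dot5 ![-hf, hf, hf, hf, (0 : F)] ![1, 0, 0, 0, 0] = -hf by
      simp [dot5, Fin.sum_univ_five]] at hsum
    rcases (hSb.pauli.restrict h2 hcc hcd).cac y hy (q 0) ⟨Q 0, ⟨hQR 0, hdQ 0⟩, rfl⟩ with e | e
    · have e1 : y = (-hf) • q 0 := by
        rw [← e, ← two_smul F, mul_smul] at hsum
        have h5 := congrArg (· * q 0) (smul_right_injective _ h2 hsum)
        simp only [mul_assoc, hq5.1, mul_one, smul_mul_assoc, one_mul] at h5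
        exact h5
      have e3 : lin5 q ![0, hf, hf, hf, 0] = 0 := by
        rw [hy2] at e1
        simp [lin5, Fin.sum_univ_five] at e1 ⊢
        linear_combination (norm := module) e1
      have e4 := hq5.anticomm_sum ![0, hf, hf, hf, 0] ![0, 0, 0, 1, 0]
      rw [e3, zero_mul, mul_zero, add_zero, show dot5 ![0, hf, hf, hf, (0 : F)] ![0, 0, 0, 1, 0] = hf by
        simp [dot5, Fin.sum_univ_five], hh, one_smul] at e4
      exact zero_ne_one e4
    · rw [e, neg_add_cancel, _root_.mul_neg, hh, eq_comm] at hsum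
      exact one_ne_zero (neg_eq_zero.1 ((smul_eq_zero.1 hsum).resolve_right one_ne_zero))
  push Not at hex
  have hV4 : Module.finrank F V ≤ 4 := finrank_le_of_generators hSb.pauli haR hb hu hw ha hbb huu hww hab hau haw
    hub hwb huw fun d hd h1 h3 h4 h5 => by
      by_contra hc
      push Not at hc
      exact hex d hd hc h1 h3 h4 h5
  obtain ⟨hs, hanti⟩ := hQ
  have ass : ∀ j k, j ≠ k → ∀ X, Q j * (Q k * X) = -(Q k * (Q j * X)) := fun j k hjk X => by
    rw [← mul_assoc, hanti j k hjk, _root_.neg_mul, mul_assoc]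
  have sq' : ∀ j X, Q j * (Q j * X) = X := fun j X => by rw [← mul_assoc, hs, one_mul]
  have hQ0 : NS (Q 0) := fun c hc => by
    have e := hanti 0 1 (by decide)
    rw [hc, smul_mul_assoc, one_mul, mul_smul_comm, mul_one] at e
    rcases smul_eq_zero.1 (eq_zero_of_eq_neg h2 e) with e0 | e0
    · exact hSb.pauli.ne_zero (hQR 0) (by rw [hc, e0, zero_smul])
    · exact hSb.pauli.ne_zero (hQR 1) e0
  set m := Q 1 + Q 2 + Q 3 with hm
  set n := Q 1 - Q 2 + Q 4 with hn
  set α := Q 0 * m with hα
  set β := Q 0 * n with hβ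
  have hh1 : hf = -1 := by linear_combination -hh + hf * h30
  have h31 : (3 : F) • (1 : Module.End F V) = 0 := by rw [h30, zero_smul]
  have hQS : ∀ k, Q k ∈ S := fun k => hSb.le (hQR k)
  have hAS : 1 + α ∈ S := by
    have := hSb.smul_mem (neg_ne_zero.2 one_ne_zero) (hSb.mul _ (hQS 0) _ hUS)
    convert this using 1
    simp [hα, hm, lin5, Fin.sum_univ_five, hh1, mul_add, hs]
    abel
  have hBS : 1 + β ∈ S := by
    have := hSb.mul _ (hQS 0) _ (hSb.mul _ (hSb.mul _ (hQS 2) _ hVS) _ (hQS 2))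
    convert this using 1
    simp [hβ, hn, lin5, Fin.sum_univ_five, hh1, mul_add, add_mul, mul_sub, hs, mul_assoc, sq',
      ass 2 0 (by decide), hanti 2 0 (by decide), hanti 2 1 (by decide), hanti 2 4 (by decide),
      ass 2 1 (by decide), ass 2 4 (by decide)]
    abel
  have hm2 : m * m = 0 := by
    simp [hm, mul_add, add_mul, hs, hanti 2 1 (by decide), hanti 3 1 (by decide), hanti 3 2 (by decide)]
    linear_combination (norm := module) h31
  have hn2 : n * n = 0 := by
    simp [hn, mul_add, add_mul, mul_sub, sub_mul, hs, hanti 2 1 (by decide), hanti 4 1 (by decide),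
      hanti 4 2 (by decide)]
    linear_combination (norm := module) h31
  have hmn : n * m = -(m * n) := by
    simp [hm, hn, mul_add, add_mul, mul_sub, sub_mul, hs, hanti 2 1 (by decide), hanti 4 1 (by decide),
      hanti 4 2 (by decide), hanti 3 1 (by decide), hanti 3 2 (by decide), hanti 4 3 (by decide)]
    abel
  have hQm : m * Q 0 = -(Q 0 * m) := by
    simp [hm, mul_add, add_mul, hanti 1 0 (by decide), hanti 2 0 (by decide), hanti 3 0 (by decide)]; abel
  have hQn : n * Q 0 = -(Q 0 * n) := by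
    simp [hn, mul_add, add_mul, mul_sub, sub_mul, hanti 1 0 (by decide), hanti 2 0 (by decide), hanti 4 0 (by decide)]
    abel
  have ca : ∀ X, m * (Q 0 * X) = -(Q 0 * (m * X)) := fun X => by rw [← mul_assoc, hQm, _root_.neg_mul, mul_assoc]
  have cb : ∀ X, n * (Q 0 * X) = -(Q 0 * (n * X)) := fun X => by rw [← mul_assoc, hQn, _root_.neg_mul, mul_assoc]
  set N := m * n with hN'
  have hαα : α * α = 0 := by rw [hα, mul_assoc, ca, _root_.mul_neg, sq', hm2, neg_zero]
  have hββ : β * β = 0 := by rw [hβ, mul_assoc, cb, _root_.mul_neg, sq', hn2, neg_zero]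
  have hαβ : α * β = -N := by rw [hα, hβ, hN', mul_assoc, ca, _root_.mul_neg, sq']
  have hβα : β * α = N := by rw [hα, hβ, hN', mul_assoc, cb, _root_.mul_neg, sq', hmn, neg_neg]
  have hNα : α * N = 0 := by rw [hα, hN', mul_assoc, ← mul_assoc m m n, hm2, zero_mul, mul_zero]
  have hαN : N * α = 0 := by
    rw [hα, hN', mul_assoc, cb, _root_.mul_neg, hmn, _root_.mul_neg, _root_.mul_neg, neg_neg, ca, ← mul_assoc m m n, hm2, zero_mul,
      mul_zero, neg_zero]
  have hNN : N * N = 0 := by
    rw [hN', mul_assoc, ← mul_assoc n m n, hmn, _root_.neg_mul, mul_assoc, hn2, mul_zero, neg_zero, mul_zero]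
  have hA' : 1 - α ∈ S := hSb.inv_mem hAS (by simp [mul_sub, add_mul, hαα])
  have hB' : 1 - β ∈ S := hSb.inv_mem hBS (by simp [mul_sub, add_mul, hββ])
  have hT : 1 + N ∈ S := by
    have := hSb.mul _ (hSb.mul _ (hSb.mul _ hAS _ hBS) _ hA') _ hB'
    convert this using 1
    have e1 : (1 + α) * (1 + β) = 1 + α + β - N := by
      rw [add_mul, one_mul, mul_add, mul_one, hαβ]; abel
    have e2 : (1 + α + β - N) * (1 - α) = 1 + β - N - N := by
      simp only [mul_sub, sub_mul, add_mul, mul_one, one_mul, hαα, hβα, hαN]; abel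
    rw [e1, e2]
    have e3 : N * β = 0 := by
      rw [hβ, hN', mul_assoc, cb, _root_.mul_neg, hn2, mul_zero, mul_zero, neg_zero]
    simp only [mul_sub, sub_mul, add_mul, mul_one, one_mul, hββ, e3]
    have hN3 : (3 : F) • N = 0 := by rw [h30, zero_smul]
    first
    | linear_combination (norm := module) hN3
    | linear_combination (norm := module) -hN3
  have hQN : N * Q 0 = N := by
    rw [hN', mul_assoc, hQn, _root_.mul_neg, ← mul_assoc, hQm, _root_.neg_mul, neg_neg, mul_assoc, hrel]
  have hN0 : N ≠ 0 := by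
    intro e
    have hn4 : n * Q 4 + Q 4 * n = (2 : F) • 1 := by
      simp [hn, mul_add, add_mul, mul_sub, sub_mul, hs, hanti 4 1 (by decide), hanti 4 2 (by decide)]
      match_scalars <;> ring
    have hm4 : Q 4 * m = -(m * Q 4) := by
      simp [hm, mul_add, add_mul, hanti 4 1 (by decide), hanti 4 2 (by decide), hanti 4 3 (by decide)]; abel
    have hm3 : m * Q 3 + Q 3 * m = (2 : F) • 1 := by
      simp [hm, mul_add, add_mul, hs, hanti 3 1 (by decide), hanti 3 2 (by decide)]
      match_scalars <;> ring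
    have e1 : m * n * Q 4 - Q 4 * (m * n) = (2 : F) • m := by
      rw [← mul_assoc (Q 4), hm4, _root_.neg_mul, sub_neg_eq_add, mul_assoc, mul_assoc, ← mul_add, hn4, mul_smul_comm,
        mul_one]
    rw [← hN', e, zero_mul, mul_zero, sub_zero, eq_comm] at e1
    rw [(smul_eq_zero.1 e1).resolve_left h2, zero_mul, mul_zero, add_zero, eq_comm] at hm3
    exact one_ne_zero ((smul_eq_zero.1 hm3).resolve_left h2)
  -- the fixed plane
  set P := fxd (Q 0) with hP
  have hQQ : Q 0 * Q 0 = 1 := hs 0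
  have hnQ : (-Q 0) * (-Q 0) = 1 := hSb.neg_invol hQQ
  have hNP : ∀ x, N x ∈ P := fun x => mem_fxd.2 (LinearMap.congr_fun hrel x)
  have hNQ : ∀ x, Q 0 x = -x → N x = 0 := fun x hx => by
    have e := LinearMap.congr_fun hQN x
    rw [Module.End.mul_apply, hx, map_neg] at e
    have e2 : (2 : F) • N x = 0 := by rw [two_smul]; nth_rewrite 1 [← e]; exact neg_add_cancel _
    exact (smul_eq_zero.1 e2).resolve_left h2
  have hP2 : Module.finrank F P ≤ 2 := by
    set Qn := fxd (-Q 0)
    let f : P →ₗ[F] Qn := LinearMap.codRestrict Qn ((Q 1).comp P.subtype) fun x => mem_fxd.2 (by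
      show -(Q 0 (Q 1 (x : V))) = Q 1 (x : V)
      have e := LinearMap.congr_fun (hanti 0 1 (by decide)) (x : V)
      simp only [Module.End.mul_apply, LinearMap.neg_apply, mem_fxd.1 x.2] at e
      rw [e, neg_neg])
    have hinj : Function.Injective f := fun x y e => Subtype.ext (by
      have e' : Q 1 (x : V) = Q 1 (y : V) := congrArg Subtype.val e
      have ii : ∀ z, Q 1 (Q 1 z) = z := fun z => LinearMap.congr_fun (hs 1) z
      rw [← ii (x : V), e', ii])
    have h1 := LinearMap.finrank_le_finrank_of_injective hinj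
    have hdisj : P ⊓ Qn = ⊥ := by
      refine eq_bot_iff.2 fun x hx => (Submodule.mem_bot F).2 ?_
      have e1 := mem_fxd.1 hx.1
      have e3 := mem_fxd.1 hx.2
      rw [LinearMap.neg_apply, e1] at e3
      have e2 : (2 : F) • x = 0 := by rw [two_smul]; nth_rewrite 1 [← e3]; exact neg_add_cancel x
      exact (smul_eq_zero.1 e2).resolve_left h2
    have h3 := Submodule.finrank_sup_add_finrank_inf_eq P Qn
    rw [hdisj, finrank_bot] at h3
    have h4 := Submodule.finrank_le (P ⊔ Qn)
    omega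
  have hndP : Nondeg (hres h P) := fxd_nd hS (hQR 0) hQQ
  have aniso : ∀ {e : Module.End F V}, e ∈ R → ∀ he : e * e = 1, NS e → ∃ x, e x = x ∧ h x x ≠ 0 := by
    intro e heR he hne
    obtain ⟨x₀, hx₀⟩ := exists_fxd_ne he hne
    by_contra hc
    push Not at hc
    exact hx₀ (fxd_nd hS heR he x₀ fun y =>
      (hS.herm.comap (fxd e).subtype).eq_zero_of_isotropic hF (fun z => hc _ (mem_fxd.1 z.2)) x₀ y)
  obtain ⟨μ, -, hμ⟩ := hS.sim _ hT
  obtain ⟨y₀, hy₀, hyy₀⟩ := aniso (hSb.pauli.neg_mem (hQR 0)) hnQ hQ0.neg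
  have hμ1 : μ = 1 := by
    have e := hμ y₀ y₀
    rw [LinearMap.add_apply, Module.End.one_apply, hNQ y₀ (neg_eq_iff_eq_neg.1 hy₀), add_zero] at e
    exact mul_right_cancel₀ hyy₀ (by rw [one_mul, ← e])
  have iso : ∀ x y, h (N x) y + h x (N y) + h (N x) (N y) = 0 := fun x y => by
    have e := hμ x y
    simp only [hμ1, one_mul, LinearMap.add_apply, Module.End.one_apply, H.add_left, H.add_right hF] at e
    linear_combination e
  have NN : ∀ x, N (N x) = 0 := fun x => LinearMap.congr_fun hNN x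
  have iso2 : ∀ x y, h (N x) (N y) = 0 := fun x y => by
    have e := iso x (N y)
    rwa [NN, H.zero_right hF, H.zero_right hF, add_zero, add_zero] at e
  have iso3 : ∀ x y, h (N x) y = -h x (N y) := fun x y => by
    have e := iso x y
    rw [iso2, add_zero] at e
    exact eq_neg_of_add_eq_zero_left e
  obtain ⟨x₁, hx₁⟩ : ∃ x, N x ≠ 0 := by
    by_contra hc
    push Not at hc
    exact hN0 (LinearMap.ext hc)
  set v := N x₁ with hv
  have hvP : v ∈ P := hNP x₁
  have hvv : h v v = 0 := iso2 x₁ x₁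
  have hline : ∀ x, ∃ c : F, N x = c • v := fun x => plane_line hS hP2 hndP hvP (hNP x) hvv hx₁ (iso2 x x₁)
  choose φ hφ using hline
  obtain ⟨w', hw'w', hvw'⟩ := exists_partner_iso hF H hS.nd hvv hx₁
  set κ := φ w' with hκ
  have hφx : ∀ x, φ x = -(κ ^ 3) * h x v := by
    intro x
    have e := iso3 x w'
    rw [hφ, hφ w', H.smul_left, H.smul_right, hvw', mul_one, ← hκ] at e
    rw [e, neg_mul]
  have hwv' : h w' v = 1 := by rw [H.conj_symm v w', hvw', one_pow]
  have hκ' : κ = -(κ ^ 3) := by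
    conv_lhs => rw [hκ, hφx, hwv', mul_one]
  have hκ0 : κ ≠ 0 := fun e => hx₁ (by rw [hv, hφ, hφx, e, zero_pow (by norm_num), neg_zero, zero_mul, zero_smul])
  have hTutv : 1 + N = utv H v κ := LinearMap.ext fun x => by
    rw [utv_apply, LinearMap.add_apply, Module.End.one_apply, hφ, hφx, ← hκ']
  have hcn : Cn 3 h S v := by
    refine ⟨hvv, fun c hc => ?_⟩
    obtain ⟨k, hk⟩ := exists_cast (p := 3) (x := c / κ) (by
      rw [div_pow, div_eq_div_iff (pow_ne_zero _ hκ0) hκ0]
      linear_combination κ * hc - c * hκ')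
    have hpow : ∀ j : ℕ, utv H v ((j : F) * κ) ∈ S := by
      intro j
      induction j with
      | zero => rw [Nat.cast_zero, zero_mul, utv_zero]; exact hSb.one_mem
      | succ j ih =>
        have := hSb.mul _ ih _ (hTutv ▸ hT)
        rwa [utv_mul H hvv, show (j : F) * κ + κ = ((j + 1 : ℕ) : F) * κ by push_cast; ring] at this
    refine ⟨_, hpow k.val, fun x => ?_⟩
    have hck : ((k.val : ℕ) : F) * κ = c := by
      rw [← map_natCast (cst 3 F), ZMod.natCast_zmod_val, hk, div_mul_cancel₀ _ hκ0]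
    rw [hck, utv_apply]
  -- a second centre in the plane
  obtain ⟨c₀, hc₀, hQc₀, hnc₀, hnQc₀⟩ := hSb.big_comm hbig (hQR 0)
  obtain ⟨dd, hdd, hfR, hff⟩ := hSb.pauli.exists_invol hc₀
  set f := dd • c₀ with hfd
  have hQf : Q 0 * f = f * Q 0 := by rw [hfd, mul_smul_comm, hQc₀, smul_mul_assoc]
  have hnsf : NS (res hQQ f) := hSb.res_ns (hQR 0) hQQ hQ0 hfR hQf (hnc₀.smul hdd) (by
    rw [hfd, mul_smul_comm]; exact hnQc₀.smul hdd)
  have hfP : ∀ x ∈ P, f x ∈ P := fun x hx => mem_fxd.2 (by
    have e := LinearMap.congr_fun hQf x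
    rw [Module.End.mul_apply, Module.End.mul_apply, mem_fxd.1 hx] at e
    exact e)
  have hwne : h v (f v) ≠ 0 := by
    intro e0
    obtain ⟨k, hk⟩ := plane_line hS hP2 hndP hvP (hfP v hvP) hvv hx₁ ((H.eq_zero_symm hF).1 e0)
    have ff : ∀ x, f (f x) = x := fun x => LinearMap.congr_fun hff x
    apply hnsf k
    refine LinearMap.ext fun x => Subtype.ext ?_
    rw [res_apply_comm h2 hQQ hQf]
    have hk2 : k * k = 1 := by
      have e1 : (k * k) • v = (1 : F) • v := by rw [one_smul, mul_smul, ← hk, ← map_smul, ← hk, ff]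
      exact smul_left_injective F hx₁ e1
    have hkp : k ^ 3 = k := by
      rw [pow_succ, pow_two, hk2, one_mul]
    have hd : h (f (x : V) - k • (x : V)) v = 0 := by
      rw [H.sub_left, H.smul_left, hS.sa f hfR hff, hk, H.smul_right, hkp, sub_self]
    obtain ⟨l, hl⟩ := plane_line hS hP2 hndP hvP (P.sub_mem (hfP _ x.2) (P.smul_mem k x.2)) hvv hx₁ hd
    have e2 := congrArg f hl
    rw [map_sub, map_smul, map_smul, ff, hk, sub_eq_iff_eq_add.1 hl] at e2
    have e4 : (k * k) • (x : V) = (x : V) := by rw [hk2, one_smul]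
    have e3 : ((2 : F) * (k * l)) • v = 0 := by
      linear_combination (norm := module) -e2 - e4
    have hk0 : k ≠ 0 := fun e => by rw [e, mul_zero] at hk2; exact zero_ne_one hk2
    rw [(mul_eq_zero.1 ((mul_eq_zero.1 ((smul_eq_zero.1 e3).resolve_right hx₁)).resolve_left h2)).resolve_left hk0,
      zero_smul, sub_eq_zero] at hl
    simpa using hl
  have hcn' : Cn 3 h S (f v) := hcn.apply hS (hSb.le hfR)
  refine hS.caseA hp (hQR 0) hQQ hQ0 (fun z hz hzz => ?_) hfR hQf hnsf
  have hff' : h (f v) (f v) = 0 := hcn'.1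
  have hwne' : h (f v) v ≠ 0 := fun e => hwne ((H.eq_zero_symm hF).1 e)
  set α' := h z (f v) / h v (f v) with hα'
  set β' := h z v / h (f v) v with hβ'
  have hzP : z ∈ P := mem_fxd.2 hz
  have hd1 : h (z - (α' • v + β' • f v)) v = 0 := by
    rw [H.sub_left, H.add_left, H.smul_left, H.smul_left, hvv, hβ', div_mul_cancel₀ _ hwne']; ring
  have hd2 : h (z - (α' • v + β' • f v)) (f v) = 0 := by
    rw [H.sub_left, H.add_left, H.smul_left, H.smul_left, hff', hα', div_mul_cancel₀ _ hwne]; ring
  obtain ⟨k, hk⟩ := plane_line hS hP2 hndP hvP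
    (P.sub_mem hzP (P.add_mem (P.smul_mem _ hvP) (P.smul_mem _ (hfP v hvP)))) hvv hx₁ hd1
  rw [hk, H.smul_left] at hd2
  rw [(mul_eq_zero.1 hd2).resolve_right hwne, zero_smul, sub_eq_zero] at hk
  rw [hk] at hzz ⊢
  exact plane_cn hS hcn hcn' hwne hzz

end Cfsg.Agent.C6U
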