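/-
Five anticommuting involutions and two half-vectors over the field with p^2 elements: a product in the group
that normalises no eigenspace system. Main results: `exists_witness`.
-/
import Cfsg.Agent.Lib.C6U.Slot

set_option autoImplicit false
set_option linter.unusedSectionVars false

namespace Cfsg.Agent.C6U

open Matrix
open scoped commutatorElement
open Cfsg.Agent Cfsg.Agent.C6Two Cfsg.Agent.Unitary

variable {F : Type*} [Field F] [Fintype F] {p : ℕ} {V : Type*} [AddCommGroup V] [Module F V]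
variable {Q : Fin 5 → Module.End F V} {R S : Set (Module.End F V)} {i : F}

set_option maxHeartbeats 1600000 in
/-- The witness element. -/
theorem exists_witness (hS : Setup R S i) (hF : Fintype.card F = p ^ 2) (hp : p.Prime) (hp4 : p % 4 = 3)
    (hp3 : p ≠ 3) (hQ : Five Q) (hR : ∀ k, Q k ∈ R) {h : F} (hh : 2 * h = 1)
    (hU : lin5 Q ![h, h, h, h, 0] ∈ S) (hU' : lin5 Q ![h, h, h, 0, h] ∈ S) :
    ∃ x : Fin 5 → F, x 3 = 0 ∧ lin5 Q x * Q 4 ∈ S ∧ dot5 x x = 1 ∧
      x 0 * x 1 + x 4 * x 2 ≠ 0 ∧ x 0 * x 1 - x 4 * x 2 ≠ 0 ∧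
      x 0 * x 2 + x 4 * x 1 ≠ 0 ∧ x 0 * x 2 - x 4 * x 1 ≠ 0 := by
  have := Fact.mk hp
  have := charP_of_sq hF hp
  have nz : ∀ n : ℕ, 0 < n → n < p → (n : F) ≠ 0 := fun n h1 h3 e =>
    absurd (Nat.le_of_dvd h1 ((CharP.cast_eq_zero_iff F p n).1 e)) (by omega)
  have hQS : ∀ k, Q k ∈ S := fun k => hS.le (hR k)
  by_cases hp7 : p = 7
  · have hv : ((7 : ℕ) : F) = 0 := by rw [← hp7]; exact CharP.cast_eq_zero F p
    push_cast at hv
    have h4 : h = 4 := by linear_combination (4 : F) * hh - h * hv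
    have w1 := hS.mul _ (hS.mul _ hU' _ hU) _ hU'
    rw [hQ.sandwich] at w1
    have w2 := hS.mul _ (hS.mul _ (hQS 0) _ w1) _ (hQS 0)
    rw [hQ.conj_single] at w2
    have w3 := hS.mul _ (hS.mul _ hU' _ w2) _ hU'
    rw [hQ.sandwich] at w3
    have w4 := hS.mul _ (hS.mul _ (hQS 3) _ w3) _ (hQS 3)
    rw [hQ.conj_single] at w4
    have w5 := hS.mul _ (hS.mul _ hU _ w4) _ hU
    rw [hQ.sandwich] at w5
    refine ⟨![4, 1, 1, 0, 2], rfl, hS.mul _ ?_ _ (hQS 4), ?_, ?_, ?_, ?_, ?_⟩
    · convert w5 using 2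
      funext k
      fin_cases k <;> simp [dot5, Fin.sum_univ_five, h4] <;> grind
    · simp [dot5, Fin.sum_univ_five]; linear_combination (3 : F) * hv
    all_goals simp
    all_goals intro e0
    all_goals first
      | exact nz 6 (by omega) (by omega) (by push_cast; linear_combination e0)
      | exact nz 2 (by omega) (by omega) (by push_cast; linear_combination e0)
  have hp11 : 11 ≤ p := by
    have hpp := hp.two_le
    by_contra hlt
    interval_cases p <;> omega
  have h2 := hS.two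
  set ι := cst p F with hι
  have h2K : (2 : ZMod p) ≠ 0 := fun e => h2 (by rw [← map_ofNat ι 2, e, map_zero])
  have nzK : ∀ n : ℕ, 0 < n → n < p → (n : ZMod p) ≠ 0 := fun n h1 h3 e =>
    nz n h1 h3 (by rw [← map_natCast ι n, e, map_zero])
  have n3 : (3 : ZMod p) ≠ 0 := by simpa using nzK 3 (by omega) (by omega)
  have n4 : (4 : ZMod p) ≠ 0 := by simpa using nzK 4 (by omega) (by omega)
  have n5 : (5 : ZMod p) ≠ 0 := by simpa using nzK 5 (by omega) (by omega)
  have n7 : (7 : ZMod p) ≠ 0 := by simpa using nzK 7 (by omega) (by omega)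
  have n9 : (9 : ZMod p) ≠ 0 := by simpa using nzK 9 (by omega) (by omega)
  obtain ⟨hs, ha⟩ := hQ
  have ass : ∀ j k, j ≠ k → ∀ X, Q j * (Q k * X) = -(Q k * (Q j * X)) := fun j k hjk X => by
    rw [← mul_assoc, ha j k hjk, _root_.neg_mul, mul_assoc]
  have sq' : ∀ j X, Q j * (Q j * X) = X := fun j X => by rw [← mul_assoc, hs, one_mul]
  set S₀ : Module.End F V := Q 0 + Q 1 + Q 2 with hS₀
  set A : Module.End F V := Q 3 * Q 4 with hAdef
  set B : Module.End F V := S₀ * Q 3 with hBdef
  obtain ⟨r, s, hrs⟩ := ZMod.sq_add_sq p (-(3 : ZMod p))⁻¹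
  have hd3 : (-(3 : ZMod p)) ≠ 0 := neg_ne_zero.2 n3
  have q : QPair A B r s (-3 : ZMod p) := by
    refine ⟨h2, ?_, ?_, ?_, by rw [← sq, ← sq, hrs, inv_mul_cancel₀ hd3]⟩
    · simp only [hAdef, mul_assoc, ass 4 3 (by decide), hs, _root_.mul_neg, sq', mul_one]
    · rw [map_neg, map_ofNat]
      simp only [hBdef, hS₀, mul_add, add_mul, mul_assoc, sq', hs, ass 3 0 (by decide), ass 3 1 (by decide),
        ass 3 2 (by decide), ass 1 0 (by decide), ass 2 0 (by decide), ass 2 1 (by decide),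
        ha 1 0 (by decide), ha 2 0 (by decide), ha 2 1 (by decide), ha 3 0 (by decide), ha 3 1 (by decide),
        ha 3 2 (by decide), _root_.mul_neg, _root_.neg_mul, neg_neg, mul_one]
      match_scalars <;> ring
    · simp only [hAdef, hBdef, hS₀, mul_add, add_mul, mul_assoc, _root_.mul_neg, _root_.neg_mul, sq', hs,
        ass 3 0 (by decide), ass 3 1 (by decide), ass 3 2 (by decide), ass 4 0 (by decide), ass 4 1 (by decide),
        ass 4 2 (by decide), ass 4 3 (by decide), ha 4 3 (by decide), neg_neg, neg_add]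
  set H := slotK hS q
  set hK : ZMod p := 2⁻¹ with hhK
  have hhK1 : 2 * hK = 1 := mul_inv_cancel₀ h2K
  have ιh : ι hK = h := by
    rw [hhK, map_inv₀, map_ofNat]
    exact (eq_inv_of_mul_eq_one_right hh).symm
  have hAB : psi q (mA p * mB r s (-3)) = Q 4 * S₀ := by
    rw [map_mul, psi_A, psi_B]
    simp only [hAdef, hBdef, hS₀, mul_add, add_mul, mul_assoc, _root_.mul_neg, sq',
      ass 4 0 (by decide), ass 4 1 (by decide), ass 4 2 (by decide),
      ass 3 0 (by decide), ass 3 1 (by decide), ass 3 2 (by decide), neg_neg,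
      ha 4 3 (by decide), ha 4 0 (by decide), ha 4 1 (by decide), ha 4 2 (by decide), ha 3 0 (by decide),
      ha 3 1 (by decide), ha 3 2 (by decide)]
  have hrs3 : (r * r + s * s) * (-3) = 1 := q.split
  let sM : PSL2.SL2 (ZMod p) := ⟨hK • (1 - mB r s (-3)), by
    simp [mB, Matrix.det_fin_two]
    linear_combination (hK * hK * 3) * hrs3 + (2 * hK + 1) * hhK1⟩
  let tM : PSL2.SL2 (ZMod p) := ⟨hK • (1 + mA p * mB r s (-3)), by
    simp [mA, mB, Matrix.det_fin_two, Matrix.mul_apply, Fin.sum_univ_two]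
    linear_combination (hK * hK * 3) * hrs3 + (2 * hK + 1) * hhK1⟩
  have hsm : sM ∈ slPart H := by
    rw [mem_slPartK]
    show psi q (hK • (1 - mB r s (-3))) ∈ S
    have e : psi q (hK • (1 - mB r s (-3))) = Q 3 * lin5 Q ![h, h, h, h, 0] := by
      rw [psi_smul, map_sub, map_one, psi_B, ← hι, ιh, hBdef]
      simp only [lin5, hS₀, Fin.sum_univ_five, mul_add, add_mul, mul_smul_comm, hs,
        ha 3 0 (by decide), ha 3 1 (by decide), ha 3 2 (by decide), smul_sub]
      simp
      match_scalars <;> ring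
    rw [e]; exact hS.mul _ (hQS 3) _ hU
  have htm : tM ∈ slPart H := by
    rw [mem_slPartK]
    show psi q (hK • (1 + mA p * mB r s (-3))) ∈ S
    have e : psi q (hK • (1 + mA p * mB r s (-3))) = Q 4 * lin5 Q ![h, h, h, 0, h] := by
      rw [psi_smul, map_add, map_one, hAB, ← hι, ιh]
      simp only [lin5, hS₀, Fin.sum_univ_five, mul_add, mul_smul_comm, hs, smul_add]
      simp
      match_scalars <;> ring
    rw [e]; exact hS.mul _ (hQS 4) _ hU'
  have hs1 : PSL2.tr sM = 1 := by
    simp [PSL2.tr, sM, mB]; linear_combination hhK1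
  have ht1 : PSL2.tr tM = 1 := by
    simp [PSL2.tr, tM, mA, mB, Matrix.mul_apply, Fin.sum_univ_two]; linear_combination hhK1
  have hst : PSL2.tr (sM * tM) = hK := by
    rw [PSL2.tr, mul_val]
    simp [sM, tM, mA, mB, Matrix.mul_apply, Fin.sum_univ_two]
    linear_combination hK * hhK1
  have htc : 4 * PSL2.tr ⁅sM, tM⁆ = -1 := by
    simp only [PSL2.tr, commutatorElement_def, mul_val, Matrix.SpecialLinearGroup.coe_inv]
    simp [sM, tM, mA, mB, Matrix.mul_apply, Fin.sum_univ_two, Matrix.adjugate_fin_two]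
    grind
  have hall := slTwo_le_of_trace (F := ZMod p) (ZMod.card p) (by omega) (slotK_scalars hS q) hsm htm hs1 ht1
    ⟨fun e => n9 (by rw [e] at htc; linear_combination htc),
      fun e => n7 (by rw [e] at htc; linear_combination -htc)⟩ hK hst
    ⟨fun e => one_ne_zero (α := ZMod p) (by rw [← hhK1, e, mul_zero]),
      fun e => n3 (by linear_combination -4 * e + (2 * hK + 1) * hhK1),
      fun e => n7 (by linear_combination -4 * e + (2 * hK + 1) * hhK1),
      fun e => n5 (by linear_combination 16 * e - (8 * hK ^ 3 + 4 * hK ^ 2 - 22 * hK - 11) * hhK1)⟩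
  have key : ∀ y x : ZMod p, y ^ 2 + 3 * x ^ 2 = 1 → lin5 Q ![ι x, ι x, ι x, 0, ι y] * Q 4 ∈ S := by
    intro y x hxy
    have := hall ⟨y • 1 - x • (mA p * mB r s (-3)), by
      simp [mA, mB, Matrix.det_fin_two, Matrix.mul_apply, Fin.sum_univ_two]
      linear_combination hxy + (3 * x ^ 2) * hrs3⟩
    change psi q (y • 1 - x • (mA p * mB r s (-3))) ∈ S at this
    rw [map_sub, psi_smul, psi_smul, map_one, hAB, ← hι] at this
    convert this using 1
    simp only [lin5, hS₀, Fin.sum_univ_five, mul_add, add_mul, smul_mul_assoc, hs, smul_add,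
      ha 4 0 (by decide), ha 4 1 (by decide), ha 4 2 (by decide), smul_neg]
    simp
    match_scalars <;> ring
  obtain ⟨y, x, hxy, hx, hp', hm⟩ : ∃ y x : ZMod p, y ^ 2 + 3 * x ^ 2 = 1 ∧ x ≠ 0 ∧ x + y ≠ 0 ∧ x - y ≠ 0 := by
    have n13 : (13 : ZMod p) ≠ 0 := fun e => by
      have hd := (ZMod.natCast_eq_zero_iff 13 p).1 (by simpa using e)
      have := (Nat.prime_dvd_prime_iff_eq hp (by norm_num)).1 hd
      omega
    have n15 : (15 : ZMod p) ≠ 0 := by
      rw [show (15 : ZMod p) = 3 * 5 by norm_num]; exact mul_ne_zero n3 n5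
    refine ⟨-11 / 13, 4 / 13, by field_simp; ring, div_ne_zero n4 n13, ?_, ?_⟩
    · rw [← add_div, show (4 : ZMod p) + -11 = -7 by norm_num]
      exact div_ne_zero (neg_ne_zero.2 n7) n13
    · rw [← sub_div, show (4 : ZMod p) - -11 = 15 by norm_num]
      exact div_ne_zero n15 n13
  refine ⟨![ι x, ι x, ι x, 0, ι y], rfl, key y x hxy, ?_, ?_, ?_, ?_, ?_⟩
  · have := congrArg ι hxy
    simp only [map_add, map_mul, map_pow, map_ofNat, map_one] at this
    simp [dot5, Fin.sum_univ_five]; linear_combination this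
  all_goals
    simp only [Matrix.cons_val, ← map_mul, ← map_add, ← map_sub]
    rw [map_ne_zero]
    first
    | (rw [show x * x + y * x = x * (x + y) by ring]; exact mul_ne_zero hx hp')
    | (rw [show x * x - y * x = x * (x - y) by ring]; exact mul_ne_zero hx hm)

end Cfsg.Agent.C6U
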