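/-
The centraliser step: unless every isotropic vector is a centre, centralisers of the involutions of the system
normalise it. Main results: `USetup.centralizer_norml`.
-/
import Cfsg.Agent.Lib.C6U.Escape
import Cfsg.Agent.Lib.C6U.Witness
import Cfsg.Agent.Lib.C6U.PlaneThree

set_option autoImplicit false
set_option linter.unusedSectionVars false

namespace Cfsg.Agent.C6U

open Matrix
open Cfsg.Agent Cfsg.Agent.C6Two Cfsg.Agent.Unitary

variable {F : Type*} [Field F] [Fintype F] {p : ℕ} {V : Type*} [AddCommGroup V] [Module F V]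
variable {h : V → V → F} {R S : Set (Module.End F V)} {i : F}

set_option maxHeartbeats 6400000 in
/-- Centralisers of the involutions normalise the system unless every isotropic vector is a centre. -/
theorem USetup.centralizer_norml (hU : USetup p h R S i) [FiniteDimensional F V] [Nontrivial V] (hp : p % 4 = 3)
    (hbig : Big R)
    (hIH : ∀ a : Module.End F V, a ∈ R → ∀ ha : a * a = 1, NS a →
      (AllC p (hres h (fxd a)) (resSet ha S) ∧ Good p (resSet ha R)) ∨
        ∀ M ∈ resSet ha S, Norml (resSet ha R) M)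
    {a : Module.End F V} (haR : a ∈ R) (ha : a * a = 1) (hns : NS a) {g : Module.End F V} (hg : g ∈ S)
    (hag : a * g = g * a) : AllC p h S ∨ Norml R g := by
  by_contra hcon
  push Not at hcon
  obtain ⟨hnot, hgn⟩ := hcon
  have hS := hU.base
  have h2 := hS.two
  have hi0 : i ≠ 0 := fun e => by simpa [e] using hS.sqrt
  have hN : ∀ c : Module.End F V, c ∈ R → ∀ hc : c * c = 1, NS c → ∀ g₁ ∈ S, c * g₁ = g₁ * c →
      Norml (resSet hc R) (res hc g₁) := fun c hcR hc hnsc g₁ hh hch => by
    by_contra hn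
    exact hnot (hU.escape hp hcR hc hnsc (hIH c hcR hc hnsc) ⟨g₁, ⟨hh, hch⟩, rfl⟩ hn)
  obtain ⟨g', hg', hgg, hgg'⟩ := hS.inv g hg
  have hag' : a * g' = g' * a := by
    calc a * g' = (g' * g) * (a * g') := by rw [hgg', one_mul]
      _ = g' * ((g * a) * g') := by simp only [mul_assoc]
      _ = g' * ((a * g) * g') := by rw [hag]
      _ = g' * a * (g * g') := by simp only [mul_assoc]
      _ = g' * a := by rw [hgg, mul_one]
  have hna := hS.neg_invol ha
  have hnsn := hns.neg
  have haRn := hS.pauli.neg_mem haR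
  by_cases hagree : ∀ f ∈ R, a * f = f * a → ∃ r ∈ R, g * f = r * g
  · -- the element acts as a permutation of the centraliser
    obtain ⟨b, hb, hbb, hab⟩ := hS.pauli.exists_partner haR hns
    set Q := g * b * g' with hQ
    have hQg : Q * g = g * b := by rw [hQ, mul_assoc _ g' g, hgg', mul_one]
    have hQQ : Q * Q = 1 := by
      rw [hQ, show g * b * g' * (g * b * g') = g * b * (g' * g) * b * g' by simp only [mul_assoc], hgg',
        mul_one, mul_assoc g b b, hbb, mul_one, hgg]
    have hQa : a * Q = -(Q * a) := by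
      rw [hQ, ← mul_assoc, ← mul_assoc, hag, mul_assoc g a b, hab, _root_.mul_neg, _root_.neg_mul, ← mul_assoc,
        mul_assoc (g * b) a g', hag', ← mul_assoc]
    have hfin : Finite (Module.End F V) := Module.finite_of_finite F
    let C := {f : Module.End F V // f ∈ R ∧ a * f = f * a}
    choose r hr hrg using hagree
    have hra : ∀ (f) (hf : f ∈ R) (haf : a * f = f * a), a * r f hf haf = r f hf haf * a := fun f hf haf => by
      have e : (a * r f hf haf) * g = (r f hf haf * a) * g := by
        rw [mul_assoc, ← hrg, ← mul_assoc, hag, mul_assoc, haf, ← mul_assoc, hrg, mul_assoc, ← hag, ← mul_assoc]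
      have e' := congrArg (· * g') e
      simpa only [mul_assoc, hgg, mul_one] using e'
    have hsurj : Function.Surjective (fun f : C => (⟨r f.1 f.2.1 f.2.2, hr _ _ _, hra _ _ _⟩ : C)) := by
      refine Finite.injective_iff_surjective.1 fun f f' e => Subtype.ext ?_
      have e' : g * f.1 = g * f'.1 := by
        rw [hrg f.1 f.2.1 f.2.2, hrg f'.1 f'.2.1 f'.2.2]
        exact congrArg (fun x : C => x.1 * g) e
      have e'' := congrArg (g' * ·) e'
      simpa only [← mul_assoc, hgg', one_mul] using e''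
    have hcac : ∀ f ∈ R, a * f = f * a → CAC Q f := by
      intro f hf haf
      obtain ⟨⟨f₀, hf₀, haf₀⟩, e⟩ := hsurj ⟨f, hf, haf⟩
      have e' : f = g * f₀ * g' := by
        rw [hrg f₀ hf₀ haf₀, mul_assoc, hgg, mul_one]
        exact (congrArg Subtype.val e).symm
      rcases hS.pauli.cac b hb f₀ hf₀ with h | h
      · left
        rw [e', hQ, show g * b * g' * (g * f₀ * g') = g * (b * ((g' * g) * f₀)) * g' by simp only [mul_assoc],
          show g * f₀ * g' * (g * b * g') = g * (f₀ * ((g' * g) * b)) * g' by simp only [mul_assoc], hgg',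
          one_mul, one_mul, h]
      · right
        rw [e', hQ, show g * b * g' * (g * f₀ * g') = g * (b * ((g' * g) * f₀)) * g' by simp only [mul_assoc],
          show g * f₀ * g' * (g * b * g') = g * (f₀ * ((g' * g) * b)) * g' by simp only [mul_assoc], hgg',
          one_mul, one_mul, h, _root_.mul_neg, _root_.neg_mul]
    have hQ0 : Q ≠ 0 := fun e => by rw [e, zero_mul] at hQQ; exact zero_ne_one hQQ
    obtain ⟨r₀, hr₀, hmatch⟩ := hS.pauli.exists_match h2 hQ0
    obtain ⟨c₀, hc₀, hcr, hcrr⟩ := hS.pauli.exists_invol hr₀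
    set s := c₀ • r₀ with hs
    set M := Q * s with hM
    have hMc : ∀ f ∈ R, a * f = f * a → M * f = f * M := fun f hf haf => by
      rw [hM, hs, mul_smul_comm, smul_mul_assoc, mul_smul_comm, hmatch f hf (hcac f hf haf)]
    have hMa : a * M = M * a := (hMc a haR rfl).symm
    have hsa : a * s = -(s * a) := by
      rcases hS.pauli.cac a haR s hcr with h | h
      · exfalso
        have e : M * a = -(M * a) := by
          nth_rewrite 1 [← hMa]
          rw [hM, ← mul_assoc, hQa, _root_.neg_mul, mul_assoc, h, ← mul_assoc]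
        have h0 := eq_zero_of_eq_neg h2 e
        have h0' := congrArg (· * a) h0
        simp only [mul_assoc, ha, mul_one, zero_mul] at h0'
        rw [hM] at h0'
        exact hQ0 (hS.pauli.mul_right_cancel (x := Q) (y := 0) hcr (by rw [h0', zero_mul]))
      · exact h
    obtain ⟨l, hl⟩ := (hS.pauli.restrict h2 ha haR).central (M := res ha M) (by
      rintro _ ⟨f, ⟨hf, haf⟩, rfl⟩
      rw [← res_mul h2 ha haf, hMc f hf haf, res_mul h2 ha hMa])
    obtain ⟨m, hm⟩ := (hS.pauli.restrict h2 hna haRn).central (M := res hna M) (by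
      rintro _ ⟨f, ⟨hf, haf⟩, rfl⟩
      have haf' : a * f = f * a := by simpa using haf
      rw [← res_mul h2 hna haf, hMc f hf haf', res_mul h2 hna (by rw [_root_.neg_mul, _root_.mul_neg, hMa])])
    have hMval : M = l • prj a + m • prj (-a) := by
      refine eq_of_res_eq h2 ha hna hMa (by simp [prj, mul_add, add_mul]) ?_ ?_
      · rw [hl, map_add, map_smul, map_smul, (res_prj_self h2 ha).1, (res_prj_self h2 ha).2, smul_zero, add_zero]
      · have e := res_prj_self h2 hna
        simp only [neg_neg] at e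
        rw [hm, map_add, map_smul, map_smul, e.1, e.2, smul_zero, zero_add]
    have hQval : Q = ((l + m) / 2) • s + ((m - l) / 2) • (s * a) := by
      have e : Q = M * s := by rw [hM, mul_assoc, hcrr, mul_one]
      rw [e, hMval]
      simp only [prj, add_mul, smul_mul_assoc, one_mul, _root_.neg_mul, hsa, smul_add, smul_smul, smul_neg, neg_neg]
      match_scalars <;> ring
    have hlm : l * m = 1 := by
      rw [hQval] at hQQ
      have e1 : s * (s * a) = a := by rw [← mul_assoc, hcrr, one_mul]
      have e2 : s * a * s = -a := by rw [mul_assoc, hsa, _root_.mul_neg, ← mul_assoc, hcrr, one_mul]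
      have e3 : s * a * (s * a) = -1 := by rw [← mul_assoc, e2, _root_.neg_mul, ha]
      simp only [mul_add, add_mul, smul_mul_assoc, mul_smul_comm, smul_smul, hcrr, e1, e2, e3] at hQQ
      have e4 : (l * m - 1) • (1 : Module.End F V) = 0 := by
        rw [show l * m - 1 = (l + m) / 2 * ((l + m) / 2) - (m - l) / 2 * ((m - l) / 2) - 1 by field_simp; ring]
        linear_combination (norm := module) hQQ
      exact sub_eq_zero.1 ((smul_eq_zero.1 e4).resolve_right one_ne_zero)
    have hdeg : l = m ∨ l = -m := by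
      obtain ⟨f₁, hf₁, haf₁, hnsf₁, hnsaf₁⟩ := hS.big_comm hbig haR
      obtain ⟨c₁, hc₁, hac₁, hsc₁, hnsc₁⟩ : ∃ c ∈ R, a * c = c * a ∧ s * c = c * s ∧ NS c := by
        rcases hS.pauli.cac s hcr f₁ hf₁ with e | e
        · exact ⟨f₁, hf₁, haf₁, e, hnsf₁⟩
        · refine ⟨a * f₁, hS.pauli.mul a haR f₁ hf₁, comm_mul rfl haf₁, anti_mul (anti_symm hsa) e, hnsaf₁⟩
      obtain ⟨d, hd, hdc, hdd⟩ := hS.pauli.exists_invol hc₁
      set e := d • c₁ with he
      have hae : a * e = e * a := by rw [he, mul_smul_comm, hac₁, smul_mul_assoc]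
      have hse : s * e = e * s := by rw [he, mul_smul_comm, hsc₁, smul_mul_assoc]
      have hnse : NS e := hnsc₁.smul hd
      clear_value e s
      have heQ : e * Q = Q * e := by
        rw [hQval]
        simp only [mul_add, add_mul, mul_smul_comm, smul_mul_assoc, ← mul_assoc, ← hse]
        rw [mul_assoc s e a, ← hae, ← mul_assoc]
      have hXS : tEl i Q * tEl i a ∈ S := by
        have h5 : g' * tEl i a = tEl i a * g' := (tEl_commute hag').symm
        have h6 : tEl i Q * tEl i a = g * (tEl i b * tEl i a) * g' := by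
          rw [show g * (tEl i b * tEl i a) * g' = g * tEl i b * (tEl i a * g') by simp only [mul_assoc], ← h5,
            ← mul_assoc]
          simp only [tEl, mul_add, add_mul, mul_one, mul_smul_comm, smul_mul_assoc, hgg, hQ, mul_assoc]
        rw [h6]
        exact hS.mul _ (hS.mul _ hg _ (hS.tel2 b hb hbb (hS.pauli.ns_of_anti h2 hb haR (anti_symm hab)) a haR ha hns)) _ hg'
      obtain ⟨y, hy, hyT⟩ := hN e hdc hdd hnse _ hXS (comm_mul ((tEl_commute (i := i) heQ.symm).symm)
        ((tEl_commute (i := i) hae).symm)) (res hdd a) ⟨a, ⟨haR, hae.symm⟩, rfl⟩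
      have hy2 : y = res hdd (i • (Q * a)) := by
        have a2 : res hdd a * res hdd a = 1 := by rw [← res_mul h2 hdd hae.symm, ha, res_one h2 hdd]
        have Q2 : res hdd Q * res hdd Q = 1 := by rw [← res_mul h2 hdd heQ, hQQ, res_one h2 hdd]
        have Qa' : res hdd Q * res hdd a = -(res hdd a * res hdd Q) := by
          rw [← res_mul h2 hdd hae.symm, anti_symm hQa, map_neg, res_mul h2 hdd heQ]
        rw [res_mul h2 hdd ((tEl_commute (i := i) hae).symm), res_tEl hdd h2, res_tEl hdd h2, mul_assoc,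
          tEl_commute (i := i) (rfl : res hdd a * res hdd a = res hdd a * res hdd a), ← mul_assoc,
          tEl_conj hS.sqrt Q2 Qa', mul_assoc] at hyT
        have h7 := congrArg (· * (tEl (-i) (res hdd a) * tEl (-i) (res hdd Q))) hyT
        have h8 : tEl i (res hdd Q) * tEl i (res hdd a) * (tEl (-i) (res hdd a) * tEl (-i) (res hdd Q)) =
            (2 * 2 : F) • 1 := by
          rw [mul_assoc, ← mul_assoc (tEl i (res hdd a)), tEl_mul_neg hS.sqrt a2, smul_one_mul, mul_smul_comm,
            tEl_mul_neg hS.sqrt Q2, smul_smul]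
        simp only [mul_assoc] at h7 h8
        rw [h8, mul_smul_comm, mul_one, mul_smul_comm, mul_one] at h7
        rw [map_smul, res_mul h2 hdd hae.symm]
        exact (smul_right_injective _ (mul_ne_zero h2 h2) h7).symm
      have hR' := hS.pauli.restrict h2 hdd hdc
      set a' := res hdd a with ha'
      set s' := res hdd s with hs'
      have := exists_fxd_ne hdd hnse
      haveI : Nontrivial (fxd e) := ⟨⟨this.choose, 0, this.choose_spec⟩⟩
      have a2 : a' * a' = 1 := by rw [ha', ← res_mul h2 hdd hae.symm, ha, res_one h2 hdd]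
      have s2 : s' * s' = 1 := by rw [hs', ← res_mul h2 hdd hse.symm, hcrr, res_one h2 hdd]
      have as' : a' * s' = -(s' * a') := by
        rw [ha', hs', ← res_mul h2 hdd hse.symm, hsa, map_neg, res_mul h2 hdd hae.symm]
      have hmem : i⁻¹ • y ∈ resSet hdd R := hR'.smul_mem (inv_ne_zero hi0) hy
      have hval : i⁻¹ • y = ((l + m) / 2) • (s' * a') + ((m - l) / 2) • s' := by
        rw [hy2, map_smul, inv_smul_smul₀ hi0, hQval, add_mul, smul_mul_assoc, smul_mul_assoc, mul_assoc s a a,
          ha, mul_one, map_add, map_smul, map_smul, res_mul h2 hdd hae.symm]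
      rw [hval] at hmem
      have e1 : s' * (s' * a') = a' := by rw [← mul_assoc, s2, one_mul]
      have e2 : s' * a' * s' = -a' := by
        rw [mul_assoc, as']
        exact (_root_.mul_neg s' (s' * a')).trans (congrArg Neg.neg e1)
      have a'0 : a' ≠ 0 := fun e0 => by rw [e0, zero_mul] at a2; exact zero_ne_one a2
      rcases hR'.cac _ hmem s' ⟨s, ⟨hcr, hse.symm⟩, rfl⟩ with h' | h'
      · right
        simp only [mul_add, add_mul, smul_mul_assoc, mul_smul_comm, s2, e1, e2] at h'
        have h5 : ((l + m) : F) • a' = 0 := by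
          linear_combination (norm := (match_scalars <;> field_simp <;> ring1)) -h'
        exact eq_neg_of_add_eq_zero_left ((smul_eq_zero.1 h5).resolve_right a'0)
      · left
        simp only [mul_add, add_mul, smul_mul_assoc, mul_smul_comm, s2, e1, e2] at h'
        have h5 : (m - l) • (1 : Module.End F (fxd e)) = 0 := by
          linear_combination (norm := (match_scalars <;> field_simp <;> ring1)) h'
        exact (sub_eq_zero.1 ((smul_eq_zero.1 h5).resolve_right one_ne_zero)).symm
    apply hgn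
    have hQR : Q ∈ R := by
      have hl0 : l ≠ 0 := fun e => by rw [e, zero_mul] at hlm; exact zero_ne_one hlm
      rw [hQval]
      rcases hdeg with e | e
      · rw [← e, sub_self, zero_div, zero_smul, add_zero]
        exact hS.pauli.smul_mem (div_ne_zero (by rw [← two_mul]; exact mul_ne_zero h2 hl0) h2) hcr
      · have e' : m = -l := by rw [e, neg_neg]
        rw [e', add_neg_cancel, zero_div, zero_smul, zero_add]
        exact hS.pauli.smul_mem (div_ne_zero (fun hz => mul_ne_zero h2 hl0 (by linear_combination -hz)) h2)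
          (hS.pauli.mul _ hcr _ haR)
    intro f hf
    rcases hS.pauli.cac a haR f hf with h | h
    · exact ⟨r f hf h, hr f hf h, hrg f hf h⟩
    · have hfb := hS.pauli.mul f hf b hb
      have hafb : a * (f * b) = f * b * a := anti_mul h hab
      refine ⟨r _ hfb hafb * Q, hS.pauli.mul _ (hr _ hfb hafb) _ hQR, ?_⟩
      rw [mul_assoc, hQg, ← mul_assoc, ← hrg, mul_assoc g, mul_assoc f, hbb, mul_one]
  -- the element differs on the two eigenspaces
  push Not at hagree
  obtain ⟨f₀, hf₀, haf₀, hf₀n⟩ := hagree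
  obtain ⟨d₀, hd₀, hfR, hff⟩ := hS.pauli.exists_invol hf₀
  set f := d₀ • f₀ with hfdef
  have haf : a * f = f * a := by rw [hfdef, mul_smul_comm, haf₀, smul_mul_assoc]
  have hbad : ∀ r ∈ R, g * f ≠ r * g := fun r hr e => hf₀n (d₀⁻¹ • r) (hS.pauli.smul_mem (inv_ne_zero hd₀) hr) (by
    rw [smul_mul_assoc, ← e, hfdef, mul_smul_comm, inv_smul_smul₀ hd₀])
  have hfns : NS f := fun c hc => hbad f hfR (by rw [hc, mul_smul_comm, mul_one, smul_mul_assoc, one_mul])
  have hafns : NS (a * f) := fun c hc => hbad f hfR (by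
    have e : f = c • a := by
      rw [← one_mul f, ← ha, mul_assoc, hc, mul_smul_comm, mul_one]
    rw [e, mul_smul_comm, smul_mul_assoc, hag])
  have side : ∀ (c : Module.End F V), c ∈ R → ∀ hc : c * c = 1, NS c → c * g = g * c → c * g' = g' * c →
      c * f = f * c → NS (c * f) →
      ∃ u ∈ R, c * u = u * c ∧ u * u = 1 ∧ NS (res hc u) ∧ res hc (g * f) = res hc (u * g) := by
    intro c hcR hc hnsc hcg hcg' hcf hcfn
    obtain ⟨y, ⟨u, ⟨hu, hcu⟩, rfl⟩, e⟩ := hN c hcR hc hnsc g hg hcg _ ⟨f, ⟨hfR, hcf⟩, rfl⟩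
    have e1 : res hc g * res hc g' = 1 := by rw [← res_mul h2 hc hcg', hgg, res_one h2 hc]
    have e1' : res hc g' * res hc g = 1 := by rw [← res_mul h2 hc hcg, hgg', res_one h2 hc]
    have e2 : res hc u = res hc g * res hc f * res hc g' := by rw [e, mul_assoc, e1, mul_one]
    refine ⟨u, hu, hcu, hS.res_sq_one hc hnsc hu hcu ?_, fun k hk => ?_, by
      rw [res_mul h2 hc hcf, res_mul h2 hc hcg]; exact e⟩
    · rw [e2, show res hc g * res hc f * res hc g' * (res hc g * res hc f * res hc g') =
          res hc g * res hc f * (res hc g' * res hc g) * res hc f * res hc g' by simp only [mul_assoc],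
        e1', mul_one, mul_assoc (res hc g) _ (res hc f), ← res_mul h2 hc hcf, hff, res_one h2 hc, mul_one, e1]
    · refine hS.res_ns hcR hc hnsc hfR hcf hfns hcfn k ?_
      have h4 := congrArg (fun X => res hc g' * X * res hc g) e2
      simp only [hk, mul_smul_comm, mul_one, smul_mul_assoc, e1', ← mul_assoc, one_mul] at h4
      rw [mul_assoc, e1', mul_one] at h4
      exact h4.symm
  obtain ⟨u, hu, hau, huu, huns, hue⟩ := side a haR ha hns hag hag' haf hafns
  obtain ⟨w, hw, haw', hww, hwns, hwe⟩ := side (-a) haRn hna hnsn (by rw [_root_.neg_mul, _root_.mul_neg, hag])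
    (by rw [_root_.neg_mul, _root_.mul_neg, hag']) (by rw [_root_.neg_mul, _root_.mul_neg, haf]) (by rw [_root_.neg_mul]; exact hafns.neg)
  have haw : a * w = w * a := by simpa using haw'
  -- the elements u and w are independent modulo a
  have hself : res hna a = -1 := by
    have e := res_self h2 hna
    rw [map_neg] at e
    exact neg_eq_iff_eq_neg.1 e
  have hagree' : ∀ (r : Module.End F V), r ∈ R → a * r = r * a → res ha r = res ha u →
      res hna r = res hna w → False := fun r hr har h3 h4 => by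
    refine hbad r hr (eq_of_res_eq h2 ha hna (comm_mul hag haf) (comm_mul har hag) ?_ ?_)
    · rw [hue, res_mul h2 ha hag, res_mul h2 ha hag, h3]
    · rw [hwe, res_mul h2 hna (by rw [_root_.neg_mul, _root_.mul_neg, hag]), res_mul h2 hna (by rw [_root_.neg_mul, _root_.mul_neg, hag]), h4]
  let kEl : Module.End F V → Module.End F V → Module.End F V := fun u w =>
    prj a + prj (-a) * ((2 : F)⁻¹ • (tEl (-i) u * tEl i w))
  have pp : prj a * prj a = prj a := prj_sq h2 ha
  have qq : prj (-a) * prj (-a) = prj (-a) := prj_sq h2 hna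
  have pq : prj a * prj (-a) = 0 ∧ prj (-a) * prj a = 0 := by
    constructor <;>
      (simp only [prj, mul_add, add_mul, smul_mul_assoc, mul_smul_comm, mul_one, one_mul, _root_.neg_mul, _root_.mul_neg,
        ha, smul_smul, smul_add, smul_neg]
       match_scalars <;> ring)
  have hpc : ∀ x, a * x = x * a → prj a * x = x * prj a ∧ prj (-a) * x = x * prj (-a) := fun x hx => by
    simp [prj, mul_add, add_mul, hx]
  have hta : ∀ (c : F) x, a * x = x * a → a * tEl c x = tEl c x * a := fun c x hx =>
    (tEl_commute hx.symm).symm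
  have hk0 : kEl u w ∈ S := by
    have e : g * tEl i f * g' = prj a * tEl i u + prj (-a) * tEl i w := by
      have c1 : a * (g * tEl i f * g') = g * tEl i f * g' * a :=
        comm_mul (comm_mul hag (hta i f haf)) hag'
      have c2 : a * (prj a * tEl i u + prj (-a) * tEl i w) = (prj a * tEl i u + prj (-a) * tEl i w) * a := by
        rw [mul_add, add_mul, comm_mul (by simp [prj, mul_add, add_mul]) (hta i u hau),
          comm_mul (by simp [prj, mul_add, add_mul]) (hta i w haw)]
      have key : ∀ (c : Module.End F V) (hc : c * c = 1), c * g = g * c → c * g' = g' * c → c * f = f * c →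
          ∀ v, res hc (g * f) = res hc (v * g) → res hc (g * tEl i f * g') = tEl i (res hc v) := by
        intro c hc hcg hcg' hcf v hv
        have : res hc (g * tEl i f * g') = res hc (tEl i v * g * g') := by
          rw [res_mul h2 hc hcg', res_mul h2 hc hcg' (f := tEl i v * g)]
          congr 1
          simp only [tEl, mul_add, add_mul, mul_one, one_mul, mul_smul_comm, smul_mul_assoc, map_add, map_smul, hv]
        rw [this, mul_assoc, hgg, mul_one, res_tEl hc h2]
      have r1 := res_prj_self h2 ha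
      have r2 := res_prj_self h2 hna
      simp only [neg_neg] at r2
      refine eq_of_res_eq h2 ha hna c1 c2 ?_ ?_
      · rw [key a ha hag hag' haf u hue, map_add, res_mul h2 ha (hta i u hau), res_mul h2 ha (hta i w haw),
          r1.1, r1.2, one_mul, zero_mul, add_zero, res_tEl ha h2]
      · rw [key (-a) hna (by rw [_root_.neg_mul, _root_.mul_neg, hag]) (by rw [_root_.neg_mul, _root_.mul_neg, hag'])
            (by rw [_root_.neg_mul, _root_.mul_neg, haf]) w hwe, map_add,
          res_mul h2 hna (by rw [_root_.neg_mul, _root_.mul_neg, hta i u hau]),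
          res_mul h2 hna (by rw [_root_.neg_mul, _root_.mul_neg, hta i w haw]), r2.2, r2.1, zero_mul, one_mul, zero_add,
          res_tEl hna h2]
    have hX : g * tEl i f * g' * tEl i a ∈ S := by
      rw [mul_assoc (g * tEl i f), ← (tEl_commute hag'), ← mul_assoc, mul_assoc g]
      exact hS.mul _ (hS.mul _ hg _ (hS.tel2 f hfR hff hfns a haR ha hns)) _ hg'
    rw [e] at hX
    set Y := prj a * tEl i u + prj (-a) * tEl i w with hY
    have hYa : a * Y = Y * a := by
      rw [hY, mul_add, add_mul, comm_mul (by simp [prj, mul_add, add_mul]) (hta i u hau),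
        comm_mul (by simp [prj, mul_add, add_mul]) (hta i w haw)]
    have hm0 := hS.smul_mem (inv_ne_zero (mul_ne_zero h2 h2))
      (hS.mul _ (hS.tel2 _ (hS.pauli.neg_mem hu) (by rw [neg_mul_neg, huu])
        (NS.neg' fun c hc => huns c (by rw [hc, map_smul, res_one h2 ha])) _ haRn hna hnsn) _ hX)
    rw [← tEl_neg, ← tEl_neg] at hm0
    have hm : (2 : F)⁻¹ • (tEl (-i) u * Y) ∈ S := by
      have h5 : tEl (-i) a * (Y * tEl i a) = (2 : F) • Y := by
        rw [← tEl_commute (i := i) hYa, ← mul_assoc, show tEl (-i) a * tEl i a = (2 : F) • 1 by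
          have := tEl_mul_neg (i := -i) (by linear_combination hS.sqrt) ha
          rwa [neg_neg] at this, smul_one_mul]
      rw [mul_assoc, h5, mul_smul_comm, smul_smul] at hm0
      rwa [show ((2 : F) * 2)⁻¹ * 2 = 2⁻¹ by field_simp] at hm0
    have e2 : tEl (-i) u * tEl i u = (2 : F) • 1 := by
      have := tEl_mul_neg (i := -i) (by linear_combination hS.sqrt) huu
      rwa [neg_neg] at this
    have e' : kEl u w = (2 : F)⁻¹ • (tEl (-i) u * (prj a * tEl i u + prj (-a) * tEl i w)) := by
      have c := hpc (tEl (-i) u) (hta _ u hau)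
      show prj a + prj (-a) * _ = _
      rw [mul_add, ← mul_assoc, ← mul_assoc, ← c.1, ← c.2, mul_assoc (prj a), e2, mul_assoc (prj (-a)), smul_add,
        mul_smul_comm (2 : F) (prj a) 1, smul_smul, inv_mul_cancel₀ h2, one_smul, mul_one,
        ← mul_smul_comm (2 : F)⁻¹ (prj (-a))]
    rwa [e']
  obtain ⟨u₁, w₁, hu₁, hw₁, hau₁, haw₁, huu₁, hww₁, hanti, hk₁⟩ : ∃ u₁ w₁, u₁ ∈ R ∧ w₁ ∈ R ∧
      a * u₁ = u₁ * a ∧ a * w₁ = w₁ * a ∧ u₁ * u₁ = 1 ∧ w₁ * w₁ = 1 ∧ u₁ * w₁ = -(w₁ * u₁) ∧ kEl u₁ w₁ ∈ S := by
    rcases hS.pauli.cac u hu w hw with huw | huw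
    swap
    · exact ⟨u, w, hu, hw, hau, haw, huu, hww, huw, hk0⟩
    have hnsu : NS u := fun k hk => huns k (by rw [hk, map_smul, res_one h2 ha])
    have hnsau : NS (a * u) := fun k hk => huns k (by
      rw [← one_mul (res ha u), ← res_self h2 ha, ← res_mul h2 ha hau, hk, map_smul, res_one h2 ha, res_self h2 ha])
    have h1w : ∀ k : F, w = k • 1 → False := fun k hk => hwns k (by rw [hk, map_smul, res_one h2 hna])
    have h2w : ∀ k : F, w = k • a → False := fun k hk => hwns (-k) (by
      rw [hk, map_smul, hself, smul_neg]; exact (neg_smul _ _).symm)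
    have hneg : res hna (a * u) = -res hna u := by
      rw [show a * u = -((-a) * u) by rw [_root_.neg_mul, neg_neg], map_neg,
        res_mul h2 hna (by rw [_root_.neg_mul, _root_.mul_neg, hau]), res_self h2 hna, one_mul]
    have h3w : ∀ k : F, w = k • u → False := fun k hk => by
      have hk2 : k * k = 1 := by
        rw [hk, smul_mul_assoc, mul_smul_comm, smul_smul, huu] at hww
        have h5 : (k * k - 1) • (1 : Module.End F V) = 0 := by rw [sub_smul, hww, one_smul, sub_self]
        exact sub_eq_zero.1 ((smul_eq_zero.1 h5).resolve_right one_ne_zero)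
      rcases mul_self_eq_one_iff.1 hk2 with rfl | rfl
      · exact hagree' u hu hau rfl (by rw [hk, one_smul])
      · refine hagree' (a * u) (hS.pauli.mul _ haR _ hu) (comm_mul rfl hau) ?_ ?_
        · rw [res_mul h2 ha hau, res_self h2 ha, one_mul]
        · rw [hneg, hk, map_smul]; exact (neg_one_smul F _).symm
    have h4w : ∀ k : F, w = k • (a * u) → False := fun k hk => by
      have hau' : a * u * (a * u) = 1 := by
        rw [mul_assoc, ← mul_assoc u a u, ← hau, mul_assoc a u u, huu, mul_one, ha]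
      have hk2 : k * k = 1 := by
        rw [hk, smul_mul_assoc, mul_smul_comm, smul_smul, hau'] at hww
        have h5 : (k * k - 1) • (1 : Module.End F V) = 0 := by rw [sub_smul, hww, one_smul, sub_self]
        exact sub_eq_zero.1 ((smul_eq_zero.1 h5).resolve_right one_ne_zero)
      rcases mul_self_eq_one_iff.1 hk2 with rfl | rfl
      · refine hagree' (a * u) (hS.pauli.mul _ haR _ hu) (comm_mul rfl hau) ?_ (by rw [hk, one_smul])
        rw [res_mul h2 ha hau, res_self h2 ha, one_mul]
      · refine hagree' u hu hau rfl ?_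
        rw [hk, map_smul, hneg]; exact (neg_neg _).symm.trans (neg_one_smul F _).symm
    have hout : NS w ∧ NS (w * a) ∧ NS (w * u) ∧ NS (w * (a * u)) := by
      refine ⟨fun k hk => h1w k hk, fun k hk => h2w k ?_, fun k hk => h3w k ?_, fun k hk => h4w k ?_⟩
      · have := congrArg (· * a) hk
        rwa [mul_assoc, ha, mul_one, smul_mul_assoc, one_mul] at this
      · have := congrArg (· * u) hk
        rwa [mul_assoc, huu, mul_one, smul_mul_assoc, one_mul] at this
      · have := congrArg (· * (a * u)) hk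
        rwa [mul_assoc, mul_assoc a u, ← mul_assoc u a, ← hau, mul_assoc a u, huu, mul_one, ha, mul_one,
          smul_mul_assoc, one_mul] at this
    obtain ⟨c, hc, hcc, hac, huc, hwc⟩ :=
      hS.pauli.exists_split h2 haR hu hw hau haw hns hnsu hnsau hout
    set w' := i • (c * w) with hw'
    have hcw : c * w = -(w * c) := anti_symm hwc
    have hw'ww : w' * w' = 1 := by
      rw [hw', smul_mul_assoc, mul_smul_comm, smul_smul, hS.sqrt, mul_assoc, ← mul_assoc w c w, hwc, _root_.neg_mul,
        mul_assoc c w w, hww, mul_one, _root_.mul_neg, hcc, smul_neg, neg_smul, one_smul, neg_neg]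
    have haw'' : a * w' = w' * a := by rw [hw', mul_smul_comm, comm_mul hac haw, smul_mul_assoc]
    refine ⟨w, w', hw, hS.pauli.smul_mem hi0 (hS.pauli.mul c hc w hw), haw, haw'', hww, hw'ww, ?_, ?_⟩
    · rw [hw', mul_smul_comm, smul_mul_assoc, ← mul_assoc, hwc, _root_.neg_mul, mul_assoc c w w, ← smul_neg]
    · -- conjugate and divide
      have htc : tEl i c * tEl i a ∈ S :=
        hS.tel2 c hc hcc (hS.pauli.ns_of_anti h2 hc hw hcw) a haR ha hns
      have ec : tEl i c * kEl u w = kEl u w' * tEl i c := by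
        have c1 := hpc (tEl i c) (hta i c hac)
        have e1 : tEl i c * tEl (-i) u = tEl (-i) u * tEl i c := by
          have h5 : tEl i c * u = u * tEl i c := tEl_commute huc.symm
          simp only [show tEl (-i) u = 1 + (-i) • u from rfl, mul_add, add_mul, mul_one, one_mul, mul_smul_comm,
            smul_mul_assoc, h5]
        have e2 : tEl i c * tEl i w = tEl i w' * tEl i c := by
          have h5 : tEl i c * w = w' * tEl i c := tEl_conj hS.sqrt hcc hcw
          simp only [show tEl i w = 1 + i • w from rfl, show tEl i w' = 1 + i • w' from rfl, mul_add, add_mul,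
            mul_one, one_mul, mul_smul_comm, smul_mul_assoc, h5]
        simp only [kEl, mul_add, add_mul, ← c1.1, ← mul_assoc, ← c1.2]
        rw [mul_assoc (prj (-a)), mul_assoc (prj (-a))]
        congr 2
        rw [mul_smul_comm, smul_mul_assoc, ← mul_assoc, e1, mul_assoc, e2, ← mul_assoc]
      have hk' : kEl u w' ∈ S := by
        have hka : a * kEl u w = kEl u w * a := by
          simp only [kEl]
          rw [mul_add, add_mul, comm_mul (by simp [prj, mul_add, add_mul]) (by
            rw [mul_smul_comm, comm_mul (hta _ u hau) (hta _ w haw), smul_mul_assoc])]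
          simp [prj, mul_add, add_mul]
        obtain ⟨t', ht', htt, -⟩ := hS.inv _ htc
        have ec : tEl i c * tEl i a * kEl u w = kEl u w' * (tEl i c * tEl i a) := by
          rw [mul_assoc, tEl_commute hka, ← mul_assoc, ec, mul_assoc]
        have e := congrArg (· * t') ec
        simp only [mul_assoc, htt, mul_one] at e
        exact e ▸ hS.mul _ htc _ (hS.mul _ hk0 _ ht')
      let k2 := prj a + prj (-a) * ((2 : F)⁻¹ • (tEl (-i) w * tEl i u))
      have hinv : ∀ y : Module.End F V, a * y = y * a → ∀ z : Module.End F V, a * z = z * a →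
          (prj a + prj (-a) * y) * (prj a + prj (-a) * z) = prj a + prj (-a) * (y * z) := by
        intro y hy z hz
        rw [mul_add, add_mul, add_mul, pp, mul_assoc (prj (-a)) y (prj a), ← (hpc y hy).1, ← mul_assoc (prj (-a)),
          pq.2, zero_mul, add_zero, ← mul_assoc (prj a), pq.1, zero_mul, zero_add, mul_assoc (prj (-a)) y,
          ← mul_assoc y (prj (-a)) z, ← (hpc y hy).2, mul_assoc (prj (-a)) y z, ← mul_assoc (prj (-a)) (prj (-a)), qq]
      have cz : ∀ (x y : Module.End F V), a * x = x * a → a * y = y * a →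
          a * ((2 : F)⁻¹ • (tEl (-i) x * tEl i y)) = (2 : F)⁻¹ • (tEl (-i) x * tEl i y) * a := fun x y hx hy => by
        rw [mul_smul_comm, comm_mul (hta _ x hx) (hta _ y hy), smul_mul_assoc]
      have eu : tEl i u * tEl (-i) u = (2 : F) • 1 := tEl_mul_neg hS.sqrt huu
      have ew : tEl i w * tEl (-i) w = (2 : F) • 1 := tEl_mul_neg hS.sqrt hww
      have ew' : tEl (-i) w * tEl i w = (2 : F) • 1 := by
        have := tEl_mul_neg (i := -i) (by linear_combination hS.sqrt) hww
        rwa [neg_neg] at this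
      have eu' : tEl (-i) u * tEl i u = (2 : F) • 1 := by
        have := tEl_mul_neg (i := -i) (by linear_combination hS.sqrt) huu
        rwa [neg_neg] at this
      have hk2 : k2 ∈ S := hS.inv_mem hk0 (by
        show kEl u w * k2 = 1
        rw [hinv _ (cz u w hau haw) _ (cz w u haw hau), half_mul h2 ew, eu', smul_smul, inv_mul_cancel₀ h2,
          one_smul, mul_one]
        simp [prj]
        match_scalars <;> field_simp <;> ring)
      have := hS.mul _ hk2 _ hk'
      rw [hinv _ (cz w u haw hau) _ (cz u w' hau haw''), half_mul h2 eu] at this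
      exact this
  -- the five anticommuting involutions
  obtain ⟨b, hb, hbb, hab, hub, hwb⟩ : ∃ b ∈ R, b * b = 1 ∧ a * b = -(b * a) ∧ u₁ * b = b * u₁ ∧
      w₁ * b = b * w₁ := by
    have hnsau : NS (a * u₁) := fun k hk => by
      have e : u₁ = k • a := by rw [← one_mul u₁, ← ha, mul_assoc, hk, mul_smul_comm, mul_one]
      have e2 : u₁ * w₁ = w₁ * u₁ := by rw [e, smul_mul_assoc, mul_smul_comm, haw₁]
      rw [hanti] at e2
      have e3 := eq_zero_of_eq_neg h2 e2.symm
      exact hS.pauli.ne_zero (hS.pauli.mul _ hw₁ _ hu₁) e3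
    obtain ⟨b₀, hb₀, hbb₀, hab₀, hub₀⟩ := hS.pauli.exists_partner_two h2 haR hu₁ hau₁ hns hnsau
    rcases hS.pauli.cac w₁ hw₁ b₀ hb₀ with h | h
    · exact ⟨b₀, hb₀, hbb₀, hab₀, hub₀, h⟩
    · refine ⟨b₀ * u₁, hS.pauli.mul _ hb₀ _ hu₁, ?_, anti_comm_mul hab₀ hau₁, comm_mul hub₀ rfl,
        anti_mul h (anti_symm hanti)⟩
      rw [mul_assoc, ← mul_assoc u₁ b₀ u₁, hub₀, mul_assoc b₀ u₁ u₁, huu₁, mul_one, hbb₀]
  set I := (-i) • u₁ with hI
  set J := i • w₁ with hJ
  have hII : I * I = -1 := by
    rw [hI, smul_mul_assoc, mul_smul_comm, smul_smul, huu₁, neg_mul_neg, hS.sqrt, neg_smul, one_smul]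
  have hJJ : J * J = -1 := by
    rw [hJ, smul_mul_assoc, mul_smul_comm, smul_smul, hww₁, hS.sqrt, neg_smul, one_smul]
  have hIJ : I * J = -(J * I) := by
    rw [hI, hJ, smul_mul_assoc, mul_smul_comm, smul_mul_assoc, mul_smul_comm, hanti, smul_smul, smul_smul,
      smul_neg, mul_comm (-i) i]
  have hIm : I ∈ R := hS.pauli.smul_mem (neg_ne_zero.2 hi0) hu₁
  have hJm : J ∈ R := hS.pauli.smul_mem hi0 hw₁
  have haI : a * I = I * a := by rw [hI, mul_smul_comm, hau₁, smul_mul_assoc]
  have haJ : a * J = J * a := by rw [hJ, mul_smul_comm, haw₁, smul_mul_assoc]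
  have hbI : b * I = I * b := by rw [hI, mul_smul_comm, ← hub, smul_mul_assoc]
  have hbJ : b * J = J * b := by rw [hJ, mul_smul_comm, ← hwb, smul_mul_assoc]
  have hba : b * a = -(a * b) := anti_symm hab
  have hJI : J * I = -(I * J) := anti_symm hIJ
  have aI : ∀ X, I * (I * X) = -X := fun X => by rw [← mul_assoc, hII, _root_.neg_mul, one_mul]
  have aJ : ∀ X, J * (J * X) = -X := fun X => by rw [← mul_assoc, hJJ, _root_.neg_mul, one_mul]
  have aJI : ∀ X, J * (I * X) = -(I * (J * X)) := fun X => by rw [← mul_assoc, hJI, _root_.neg_mul, mul_assoc]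
  have aa : ∀ X, a * (a * X) = X := fun X => by rw [← mul_assoc, ha, one_mul]
  have bb : ∀ X, b * (b * X) = X := fun X => by rw [← mul_assoc, hbb, one_mul]
  have aba : ∀ X, a * (b * X) = -(b * (a * X)) := fun X => by rw [← mul_assoc, hab, _root_.neg_mul, mul_assoc]
  have Ib : ∀ X, I * (b * X) = b * (I * X) := fun X => by rw [← mul_assoc, ← hbI, mul_assoc]
  have Jb : ∀ X, J * (b * X) = b * (J * X) := fun X => by rw [← mul_assoc, ← hbJ, mul_assoc]
  have Ia : ∀ X, I * (a * X) = a * (I * X) := fun X => by rw [← mul_assoc, ← haI, mul_assoc]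
  have Ja : ∀ X, J * (a * X) = a * (J * X) := fun X => by rw [← mul_assoc, ← haJ, mul_assoc]
  let Q : Fin 5 → Module.End F V := ![b * (a * I), b * (a * J), b * (a * (I * J)), b, a]
  have hQ : Five Q := by
    constructor
    · intro j
      fin_cases j <;>
        simp [Q, mul_assoc, Ib, Jb, Ia, Ja, aba, bb, aa, aI, aJ, aJI, hII, hJJ, hJI, hbb, ha, ← hbI, ← hbJ]
    · intro j k hjk
      fin_cases j <;> fin_cases k <;>
        first
        | exact absurd rfl hjk
        | simp [Q, mul_assoc, Ib, Jb, Ia, Ja, aba, bb, aa, aI, aJ, aJI, hII, hJJ, hJI, hbb, ha, ← hbI, ← hbJ,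
            ← haI, ← haJ, hab]
  have hQR : ∀ k, Q k ∈ R := by
    intro k
    fin_cases k
    · exact hS.pauli.mul _ hb _ (hS.pauli.mul _ haR _ hIm)
    · exact hS.pauli.mul _ hb _ (hS.pauli.mul _ haR _ hJm)
    · exact hS.pauli.mul _ hb _ (hS.pauli.mul _ haR _ (hS.pauli.mul _ hIm _ hJm))
    · exact hb
    · exact haR
  set hf : F := (2 : F)⁻¹ with hh
  have hh1 : 2 * hf = 1 := mul_inv_cancel₀ h2
  have hkI : kEl u₁ w₁ = prj a + prj (-a) * (hf • (1 + I + J + I * J)) := by
    have e : tEl (-i) u₁ * tEl i w₁ = 1 + I + J + I * J := by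
      simp only [tEl, hI, hJ, mul_add, add_mul, mul_one, one_mul]
      abel
    simp only [kEl, e, ← hh]
  have hUS : lin5 Q ![hf, hf, hf, hf, 0] ∈ S := by
    obtain ⟨k', hk', hkk, -⟩ := hS.inv _ hk₁
    have e : kEl u₁ w₁ * b = lin5 Q ![hf, hf, hf, hf, 0] * kEl u₁ w₁ := by
      rw [hkI]
      simp [lin5, Fin.sum_univ_five, Q, prj, mul_add, add_mul, smul_mul_assoc, mul_smul_comm, mul_assoc,
        Ib, Jb, Ia, Ja, aba, bb, aa, aI, aJ, aJI, hII, hJJ, hJI, hbb, ha, ← hbI, ← hbJ, ← haI, ← haJ, hab, ← hh,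
        smul_smul, smul_add]
      match_scalars <;> grind
    have e' := congrArg (· * k') e
    simp only [mul_assoc, hkk, mul_one] at e'
    exact e' ▸ hS.mul _ hk₁ _ (hS.mul _ (hS.le hb) _ hk')
  have hU'S : lin5 Q ![hf, hf, hf, 0, hf] ∈ S := by
    set y := i • (a * b) with hy
    have hyR : y ∈ R := hS.pauli.smul_mem hi0 (hS.pauli.mul _ haR _ hb)
    have hyy : y * y = 1 := by
      rw [hy, smul_mul_assoc, mul_smul_comm, smul_smul, hS.sqrt, mul_assoc, ← mul_assoc b a b, hba, _root_.neg_mul,
        mul_assoc a b b, hbb, mul_one, _root_.mul_neg, ha, smul_neg, neg_smul, one_smul, neg_neg]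
    set z := i • (Q 0 * Q 1) with hz
    have hzR : z ∈ R := hS.pauli.smul_mem hi0 (hS.pauli.mul _ (hQR 0) _ (hQR 1))
    have hzz : z * z = 1 := by
      rw [hz, smul_mul_assoc, mul_smul_comm, smul_smul, hS.sqrt, mul_assoc, ← mul_assoc (Q 1), hQ.2 1 0 (by decide),
        _root_.neg_mul, mul_assoc (Q 0), hQ.1, mul_one, _root_.mul_neg, hQ.1, smul_neg, neg_smul, one_smul, neg_neg]
    have hny : NS y := hS.pauli.ns_of_anti h2 hyR haR (by
      rw [hy, smul_mul_assoc, mul_smul_comm, mul_assoc, hba, _root_.mul_neg, smul_neg])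
    have hnz : NS z := hS.pauli.ns_of_anti h2 hzR (hQR 0) (by
      rw [hz, smul_mul_assoc, mul_smul_comm, mul_assoc, hQ.2 1 0 (by decide), _root_.mul_neg, smul_neg])
    have hty := hS.tel2 y hyR hyy hny z hzR hzz hnz
    obtain ⟨t', ht', -, htt⟩ := hS.inv _ hty
    have e : tEl i y * tEl i z * lin5 Q ![hf, -hf, hf, 0, hf] = lin5 Q ![hf, hf, hf, hf, 0] * (tEl i y * tEl i z) := by
      simp [lin5, Fin.sum_univ_five, Q, tEl, hy, hz, mul_add, add_mul, smul_mul_assoc, mul_smul_comm, mul_assoc,
        Ib, Jb, Ia, Ja, aba, bb, aa, aI, aJ, aJI, hII, hJJ, hJI, hbb, ha, ← hbI, ← hbJ, ← haI, ← haJ, hab,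
        smul_smul, smul_add]
      match_scalars <;> grind [hS.sqrt]
    have e' := congrArg (t' * ·) e
    simp only [← mul_assoc, htt, one_mul] at e'
    have hw : lin5 Q ![hf, -hf, hf, 0, hf] ∈ S := by
      rw [e']
      exact hS.mul _ (hS.mul _ (hS.mul _ ht' _ hUS) _ (hS.le (hS.pauli.one_mem))) _ hty
    have h0 := hS.mul _ (hS.mul _ (hS.le (hQR 3)) _ (hS.mul _ (hS.mul _ (hS.le (hQR 1)) _ hw) _ (hS.le (hQR 1))))
      _ (hS.le (hQR 3))
    rw [hQ.conj_single, hQ.conj_single] at h0
    convert h0 using 2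
    funext k; fin_cases k <;> simp
  by_cases hp3 : p ≠ 3
  · -- the witness
    obtain ⟨x, hx3, hWS, hxd, hc1, hc2, hc3, hc4⟩ := exists_witness hS hU.card hU.prime hp hp3 hQ hQR hh1 hUS hU'S
    have hnsb : NS b := fun k hk => by
      have e : k • a = -(k • a) := by
        calc k • a = a * b := by rw [hk, mul_smul_comm, mul_one]
          _ = -(b * a) := hab
          _ = -(k • a) := by rw [hk, smul_mul_assoc, one_mul]
      have h5 := (smul_eq_zero.1 (eq_zero_of_eq_neg h2 e)).resolve_right (hS.pauli.ne_zero haR)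
      exact hS.pauli.ne_zero hb (by rw [hk, h5, zero_smul])
    have hWb : b * (lin5 Q x * Q 4) = lin5 Q x * Q 4 * b := by
      simp [lin5, Fin.sum_univ_five, Q, hx3, mul_add, add_mul, smul_mul_assoc, mul_smul_comm, mul_assoc,
        Ib, Jb, Ia, Ja, aba, bb, aa, aI, aJ, aJI, hII, hJJ, hJI, hbb, ha, ← hbI, ← hbJ, ← haI, ← haJ, hab]
    obtain ⟨y, hy, hyW⟩ := hN b hb hbb hnsb _ hWS hWb (res hbb I) ⟨I, ⟨hIm, hbI⟩, rfl⟩
    have := exists_fxd_ne hbb hnsb
    haveI : Nontrivial (fxd b) := ⟨⟨this.choose, 0, this.choose_spec⟩⟩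
    set I' := res hbb I with hI'
    set J' := res hbb J with hJ'
    have eI : I' * I' = -1 := by rw [hI', ← res_mul h2 hbb hbI, hII, map_neg, res_one h2 hbb]
    have eJ : J' * J' = -1 := by rw [hJ', ← res_mul h2 hbb hbJ, hJJ, map_neg, res_one h2 hbb]
    have eIJ : I' * J' = -(J' * I') := by
      rw [hI', hJ', ← res_mul h2 hbb hbJ, hIJ, map_neg, res_mul h2 hbb hbI]
    have hbIJ : b * (I * J) = I * J * b := comm_mul hbI hbJ
    have hW' : res hbb (lin5 Q x * Q 4) = x 4 • 1 + x 0 • I' + x 1 • J' + x 2 • (I' * J') := by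
      have e : lin5 Q x * Q 4 = x 4 • 1 + x 0 • (b * I) + x 1 • (b * J) + x 2 • (b * (I * J)) := by
        simp [lin5, Fin.sum_univ_five, Q, hx3, mul_add, add_mul, smul_mul_assoc, mul_assoc,
          Ib, Jb, Ia, Ja, aba, bb, aa, hbb, ha, ← haI, ← haJ]
        abel
      rw [e]
      simp only [map_add, map_smul, res_one h2 hbb, res_mul h2 hbb hbI, res_mul h2 hbb hbJ, res_mul h2 hbb hbIJ,
        res_self h2 hbb, one_mul, hI', hJ']
    rw [hW'] at hyW
    have hWW : (x 4 • 1 + x 0 • I' + x 1 • J' + x 2 • (I' * J')) *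
        (x 4 • (1 : Module.End F (fxd b)) - x 0 • I' - x 1 • J' - x 2 • (I' * J')) = 1 :=
      quat_inv eI eJ eIJ (by rw [← hxd]; simp [dot5, Fin.sum_univ_five, hx3]; ring)
    have hyv := congrArg (· * (x 4 • (1 : Module.End F (fxd b)) - x 0 • I' - x 1 • J' - x 2 • (I' * J'))) hyW
    rw [quat_conj eI eJ eIJ, mul_assoc y, hWW, mul_one] at hyv
    have hcac : CAC y J' := (hS.pauli.restrict h2 hbb hb).cac _ hy _ ⟨J, ⟨hJm, hbJ⟩, rfl⟩
    rw [← hyv] at hcac
    exact quat_bad h2 eI eJ eIJ (mul_ne_zero h2 hc1) (mul_ne_zero h2 hc4) hcac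
  push Not at hp3
  have h30 : (3 : F) = 0 := by
    have hch := charP_of_sq hU.card hU.prime
    have := CharP.cast_eq_zero F p
    rwa [hp3] at this
  refine hnot (hU.three hp3 hp hbig hN haR ha hb hbb hab hu₁ hw₁ hau₁ haw₁ hanti hub hwb huu₁ hww₁ hQ hQR ?_ ?_
    hh1 hUS hU'S)
  · intro d hda hdb hdu hdw k
    have hdI : d * I = I * d := by rw [hI, mul_smul_comm, hdu, smul_mul_assoc]
    have hdJ : d * J = J * d := by rw [hJ, mul_smul_comm, hdw, smul_mul_assoc]
    fin_cases k
    · exact comm_mul hdb (comm_mul hda hdI)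
    · exact comm_mul hdb (comm_mul hda hdJ)
    · exact comm_mul hdb (comm_mul hda (comm_mul hdI hdJ))
    · exact hdb
    · exact hda
  · simp [Q, mul_add, add_mul, mul_sub, sub_mul, mul_assoc, Ib, Jb, Ia, Ja, aba, bb, aa, aI, aJ, aJI, hII, hJJ, hJI,
      hbb, ha, ← hbI, ← hbJ, ← haI, ← haJ, hab]
    match_scalars <;> first | ring1 | linear_combination h30 | linear_combination -h30 | grind

end Cfsg.Agent.C6U
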