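/-
Systems without two independent commuting elements: everything normalises or every isotropic vector is a centre.
Main results: `sim_real`, `indep`, `USetup.adj`, `USetup.small`.
-/
import Cfsg.Agent.Lib.C6U.Slot
import Cfsg.Agent.Lib.C6U.Escape

set_option autoImplicit false
set_option linter.unusedSectionVars false

namespace Cfsg.Agent.C6U

open Matrix
open Cfsg.Agent Cfsg.Agent.C6Two Cfsg.Agent.Unitary

variable {F : Type*} [Field F] [Fintype F] {p : ℕ} {V : Type*} [AddCommGroup V] [Module F V]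
variable {h : V → V → F} {R S : Set (Module.End F V)} {i : F}

/-- The combination of quaternion units. -/
def qc (A B : Module.End F V) (x y z w : F) : Module.End F V := x • 1 + y • A + z • B + w • (A * B)

theorem qc_indep [Nontrivial V] (h2 : (2 : F) ≠ 0) {A B : Module.End F V} (hA : A * A = -1) (hB : B * B = -1)
    (hAB : A * B = -(B * A)) {x y z w : F} (e : qc A B x y z w = 0) : x = 0 ∧ y = 0 ∧ z = 0 ∧ w = 0 := by
  have hBA : B * A = -(A * B) := anti_symm hAB
  have aA : ∀ X, A * (A * X) = -X := fun X => by rw [← mul_assoc, hA, _root_.neg_mul, one_mul]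
  have hab : A * B * A = B := by
    rw [mul_assoc, hBA, _root_.mul_neg, aA, neg_neg]
  have e' := congrArg (fun X => A * X * A) e
  simp only [qc, mul_add, add_mul, mul_smul_comm, smul_mul_assoc, mul_zero, zero_mul, mul_one, hA, ← mul_assoc,
    hab, _root_.neg_mul, one_mul, hBA, smul_neg] at e'
  rw [qc] at e
  have e1 : (2 : F) • (x • (1 : Module.End F V) + y • A) = 0 := by linear_combination (norm := module) e - e'
  have e3 : (2 : F) • (z • B + w • (A * B)) = 0 := by linear_combination (norm := module) e + e'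
  have k1 : ∀ {a b : F}, a • (1 : Module.End F V) + b • A = 0 → a = 0 ∧ b = 0 := by
    intro a b hk
    by_cases hb : b = 0
    · rw [hb, zero_smul, add_zero] at hk
      exact ⟨(smul_eq_zero.1 hk).resolve_right one_ne_zero, hb⟩
    · exfalso
      have hA' : A = (-a / b) • 1 := by
        rw [div_eq_inv_mul, mul_smul, neg_smul, ← eq_neg_of_add_eq_zero_right hk, inv_smul_smul₀ hb]
      rw [hA', smul_mul_assoc, one_mul, mul_smul_comm, mul_one] at hAB
      rcases smul_eq_zero.1 (eq_zero_of_eq_neg h2 hAB) with e0 | e0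
      · rw [e0, zero_smul] at hA'
        rw [hA', mul_zero, eq_comm, neg_eq_zero] at hA
        exact one_ne_zero hA
      · rw [e0, mul_zero, eq_comm, neg_eq_zero] at hB
        exact one_ne_zero hB
  obtain ⟨hx, hy⟩ := k1 ((smul_eq_zero.1 e1).resolve_left h2)
  have e4 := congrArg (· * B) ((smul_eq_zero.1 e3).resolve_left h2)
  simp only [add_mul, smul_mul_assoc, mul_assoc, hB, zero_mul, _root_.mul_neg, mul_one, smul_neg, ← neg_add,
    neg_eq_zero] at e4
  exact ⟨hx, hy, k1 e4⟩

theorem qc_conj_mul {A B : Module.End F V} (hA : A * A = -1) (hB : B * B = -1) (hAB : A * B = -(B * A))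
    (x y z w : F) :
    qc A B x y z w * qc A B x (-y) (-z) (-w) = (x * x + y * y + z * z + w * w) • 1 := by
  have hBA : B * A = -(A * B) := anti_symm hAB
  have aA : ∀ X, A * (A * X) = -X := fun X => by rw [← mul_assoc, hA, _root_.neg_mul, one_mul]
  have aB : ∀ X, B * (B * X) = -X := fun X => by rw [← mul_assoc, hB, _root_.neg_mul, one_mul]
  have aBA : ∀ X, B * (A * X) = -(A * (B * X)) := fun X => by rw [← mul_assoc, hBA, _root_.neg_mul, mul_assoc]
  simp only [qc, mul_add, add_mul, smul_mul_assoc, mul_smul_comm, mul_one, one_mul, mul_assoc, aA, aB, aBA, hA, hB,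
    hBA, _root_.mul_neg, smul_neg, neg_neg, smul_add, smul_smul]
  match_scalars <;> ring

theorem qc_sq {A B : Module.End F V} (hA : A * A = -1) (hB : B * B = -1) (hAB : A * B = -(B * A))
    (x y z w : F) :
    qc A B x y z w * qc A B x y z w =
      qc A B (x * x - y * y - z * z - w * w) (2 * x * y) (2 * x * z) (2 * x * w) := by
  have hBA : B * A = -(A * B) := anti_symm hAB
  have aA : ∀ X, A * (A * X) = -X := fun X => by rw [← mul_assoc, hA, _root_.neg_mul, one_mul]
  have aB : ∀ X, B * (B * X) = -X := fun X => by rw [← mul_assoc, hB, _root_.neg_mul, one_mul]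
  have aBA : ∀ X, B * (A * X) = -(A * (B * X)) := fun X => by rw [← mul_assoc, hBA, _root_.neg_mul, mul_assoc]
  simp only [qc, mul_add, add_mul, smul_mul_assoc, mul_smul_comm, mul_one, one_mul, mul_assoc, aA, aB, aBA, hA, hB,
    hBA, _root_.mul_neg, smul_neg, neg_neg, smul_add, smul_smul]
  match_scalars <;> ring

theorem three_sum : ∀ y z w : ZMod 3, y * y + z * z + w * w = 1 →
    (y ≠ 0 ∧ z = 0 ∧ w = 0) ∨ (y = 0 ∧ z ≠ 0 ∧ w = 0) ∨ (y = 0 ∧ z = 0 ∧ w ≠ 0) := by decide

variable (hS : USetup p h R S i)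

include hS

theorem sim_real [Nontrivial V] {μ : F} {g : Module.End F V} (hg : ∀ x y, h (g x) (g y) = μ * h x y) :
    μ ^ p = μ := by
  obtain ⟨w, hw⟩ : ∃ w, h w w ≠ 0 := by
    by_contra hc
    push Not at hc
    obtain ⟨v, hv⟩ := exists_ne (0 : V)
    exact hv (hS.nd v fun y => hS.herm.eq_zero_of_isotropic hS.card hc v y)
  have := hS.herm.self_fixed (g w)
  rw [hg, mul_pow, hS.herm.self_fixed] at this
  exact mul_right_cancel₀ hw this

theorem skew_A {a : Module.End F V} (ha : a ∈ R) (haa : a * a = 1) (x y : V) :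
    h ((i • a) x) y = -h x ((i • a) y) := by
  rw [LinearMap.smul_apply, LinearMap.smul_apply, hS.herm.smul_left, hS.herm.smul_right, hS.sa a ha haa,
    hS.conj_i]
  ring

/-- The adjoint of a combination. -/
theorem qc_adj {A B : Module.End F V} (hA : ∀ x y, h (A x) y = -h x (A y)) (hB : ∀ x y, h (B x) y = -h x (B y))
    (hAB : A * B = -(B * A)) (a b c d : F) (x y : V) :
    h (qc A B a b c d x) y = h x (qc A B (a ^ p) (-b ^ p) (-c ^ p) (-d ^ p) y) := by
  have hF := hS.card
  have H := hS.herm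
  have hC : h ((A * B) x) y = -h x ((A * B) y) := by
    rw [Module.End.mul_apply, hA, hB, neg_neg]
    have e : (A * B) y = -(B * A) y := by rw [hAB]; rfl
    rw [e, Module.End.mul_apply, H.neg_right hF, neg_neg]
  simp only [qc, LinearMap.add_apply, LinearMap.smul_apply, Module.End.one_apply, H.add_left, H.smul_left,
    H.add_right hF, H.smul_right, hA, hB, hC, neg_pow_q hF, pow_q_pow_q hF]
  ring

set_option maxHeartbeats 1600000 in
/-- A system without two independent commuting elements. -/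
theorem USetup.small [FiniteDimensional F V] [Nontrivial V] (htel : FullTel R S i) (hp : p % 4 = 3) {a b : Module.End F V} (ha : a ∈ R) (haa : a * a = 1)
    (hb : b ∈ R) (hbb : b * b = 1) (hab : a * b = -(b * a))
    (hcl : ∀ r ∈ R, ∃ c : F, r = c • 1 ∨ r = c • a ∨ r = c • b ∨ r = c • (a * b))
    {g : Module.End F V} (hg : g ∈ S) (hgn : ∀ r ∈ R, g * a ≠ r * g) : p ≠ 3 ∧ AllC p h S := by
  have := Fact.mk hS.prime
  have := charP_of_sq hS.card hS.prime
  have hF := hS.card
  have H := hS.herm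
  have h2 := hS.base.two
  have hi := hS.base.sqrt
  have hi0 : i ≠ 0 := fun e => by simp [e] at hi
  set A := i • a with hA_def
  set B := i • b with hB_def
  have hAR : A ∈ R := hS.base.pauli.smul_mem hi0 ha
  have hBR : B ∈ R := hS.base.pauli.smul_mem hi0 hb
  have hA : A * A = -1 := by rw [hA_def, smul_mul_assoc, mul_smul_comm, smul_smul, hi, haa, neg_one_smul]
  have hB : B * B = -1 := by rw [hB_def, smul_mul_assoc, mul_smul_comm, smul_smul, hi, hbb, neg_one_smul]
  have hAB : A * B = -(B * A) := by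
    simp only [hA_def, hB_def, smul_mul_assoc, mul_smul_comm, smul_smul, hab, smul_neg]
  have hAB' : A * B = -(a * b) := by
    simp only [hA_def, hB_def, smul_mul_assoc, mul_smul_comm, smul_smul, hi, neg_one_smul]
  have skA : ∀ x y, h (A x) y = -h x (A y) := skew_A hS ha haa
  have skB : ∀ x y, h (B x) y = -h x (B y) := skew_A hS hb hbb
  have coords : ∀ X : Module.End F V, ∃ x y z w, X = qc A B x y z w := by
    intro X
    have hX : X ∈ Submodule.span F R := hS.base.pauli.span ▸ Submodule.mem_top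
    induction hX using Submodule.span_induction with
    | mem r hr =>
      obtain ⟨c, rfl | rfl | rfl | rfl⟩ := hcl r hr
      · exact ⟨c, 0, 0, 0, by simp [qc]⟩
      · exact ⟨0, -(c * i), 0, 0, by simp [qc, hA_def, smul_smul, mul_assoc, hi]⟩
      · exact ⟨0, 0, -(c * i), 0, by simp [qc, hB_def, smul_smul, mul_assoc, hi]⟩
      · exact ⟨0, 0, 0, -c, by simp [qc, hAB']⟩
    | zero => exact ⟨0, 0, 0, 0, by simp [qc]⟩
    | add X Y _ _ hX hY =>
      obtain ⟨x, y, z, w, rfl⟩ := hX
      obtain ⟨x', y', z', w', rfl⟩ := hY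
      exact ⟨x + x', y + y', z + z', w + w', by simp only [qc]; module⟩
    | smul c X _ hX =>
      obtain ⟨x, y, z, w, rfl⟩ := hX
      exact ⟨c * x, c * y, c * z, c * w, by simp only [qc]; module⟩
  have ext4 : ∀ {x y z w x' y' z' w' : F}, qc A B x y z w = qc A B x' y' z' w' →
      x = x' ∧ y = y' ∧ z = z' ∧ w = w' := by
    intro x y z w x' y' z' w' e
    obtain ⟨e1, e3, e4, e5⟩ := qc_indep h2 hA hB hAB (x := x - x') (y := y - y') (z := z - z') (w := w - w') (by
      simp only [qc] at e ⊢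
      linear_combination (norm := module) e)
    exact ⟨sub_eq_zero.1 e1, sub_eq_zero.1 e3, sub_eq_zero.1 e4, sub_eq_zero.1 e5⟩
  -- elements whose adjoint is the negative have prime field coordinates
  have skreal : ∀ X : Module.End F V, (∀ x y, h (X x) y = -h x (X y)) → X * X ∈ Submodule.span F {(1 : Module.End F V)} →
      X = 0 ∨ (∀ k : F, X ≠ k • 1) → ∃ y z w : ZMod p, X = qc A B 0 (cst p F y) (cst p F z) (cst p F w) := by
    intro X hX hX2 hXs
    obtain ⟨x, y, z, w, rfl⟩ := coords X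
    have hadj : qc A B (x ^ p) (-y ^ p) (-z ^ p) (-w ^ p) = qc A B (-x) (-y) (-z) (-w) := by
      refine LinearMap.ext fun v => sub_eq_zero.1 (hS.nd _ fun u => (H.eq_zero_symm hF).1 ?_)
      rw [H.sub_right hF, ← qc_adj hS skA skB hAB, hX]
      simp only [qc, LinearMap.add_apply, LinearMap.smul_apply, H.add_right hF, H.smul_right,
        neg_pow_q hF]
      ring
    obtain ⟨hx, hy, hz, hw⟩ := ext4 hadj
    rw [neg_inj] at hy hz hw
    obtain ⟨y', rfl⟩ := exists_cast hy
    obtain ⟨z', rfl⟩ := exists_cast hz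
    obtain ⟨w', rfl⟩ := exists_cast hw
    obtain ⟨k, hk⟩ := Submodule.mem_span_singleton.1 hX2
    rw [qc_sq hA hB hAB] at hk
    obtain ⟨-, k1, k2, k3⟩ := ext4 (show _ = qc A B k 0 0 0 by rw [← hk]; simp [qc])
    by_cases hx0 : x = 0
    · exact ⟨y', z', w', by rw [hx0]⟩
    exfalso
    have hy0 := (mul_eq_zero.1 k1).resolve_left (mul_ne_zero h2 hx0)
    have hz0 := (mul_eq_zero.1 k2).resolve_left (mul_ne_zero h2 hx0)
    have hw0 := (mul_eq_zero.1 k3).resolve_left (mul_ne_zero h2 hx0)
    rcases hXs with e | e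
    · exact hx0 (qc_indep h2 hA hB hAB e).1
    · exact e x (by rw [hy0, hz0, hw0]; simp [qc])
  obtain ⟨μ, hμ0, hμ⟩ := hS.sim g hg
  have hμp := sim_real hS hμ
  obtain ⟨g', hg', hgg, hgg'⟩ := hS.base.inv g hg
  have hp3 : p ≠ 3 := by
    intro hp3
    subst hp3
    set X := g * A * g' with hX
    have skX : ∀ x y, h (X x) y = -h x (X y) := fun x y => by
      have ex : ∀ v, g (g' v) = v := fun v => LinearMap.congr_fun hgg v
      conv_lhs => rw [← ex y]
      conv_rhs => rw [← ex x]
      simp only [hX, Module.End.mul_apply, hμ, skA]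
      ring
    have hXX : X * X = -1 := by
      rw [hX, show g * A * g' * (g * A * g') = g * (A * (g' * g) * A) * g' by simp only [mul_assoc], hgg', mul_one,
        hA, _root_.mul_neg, mul_one, _root_.neg_mul, hgg]
    obtain ⟨y, z, w, hX'⟩ := skreal X skX (by rw [hXX]; exact Submodule.neg_mem _ (Submodule.mem_span_singleton_self _))
      (Or.inr fun k hk => by
        have e : g * A = k • g := by
          have := congrArg (· * g) hk
          simpa [hX, mul_assoc, hgg'] using this
        have e2 := congrArg (g' * ·) e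
        simp only [← mul_assoc, hgg', one_mul, mul_smul_comm] at e2
        rw [e2, smul_mul_assoc, one_mul, mul_smul_comm, mul_one] at hAB
        rcases smul_eq_zero.1 (eq_zero_of_eq_neg h2 hAB) with e0 | e0
        · rw [e2, e0, zero_smul, mul_zero, eq_comm, neg_eq_zero] at hA; exact one_ne_zero hA
        · rw [e0, mul_zero, eq_comm, neg_eq_zero] at hB; exact one_ne_zero hB)
    have hsum : y * y + z * z + w * w = 1 := by
      have e := hXX
      rw [hX', qc_sq hA hB hAB] at e
      obtain ⟨e1, -⟩ := ext4 (show _ = qc A B (-1) 0 0 0 by rw [e]; simp [qc])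
      refine cst_inj (p := 3) (F := F) ?_
      rw [map_add, map_add, map_mul, map_mul, map_mul, map_one]
      linear_combination -e1
    have key := three_sum
    obtain ⟨u, hu, hXu⟩ : ∃ u ∈ R, X = u := by
      refine ⟨X, ?_, rfl⟩
      have hne : ∀ {k : ZMod 3}, k ≠ 0 → cst 3 F k ≠ 0 := fun hk e => hk (cst_inj (e.trans (map_zero _).symm))
      rw [hX', qc]
      rcases key y z w hsum with ⟨hy, rfl, rfl⟩ | ⟨rfl, hz, rfl⟩ | ⟨rfl, rfl, hw⟩
      · simpa using hS.base.pauli.smul_mem (hne hy) hAR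
      · simpa using hS.base.pauli.smul_mem (hne hz) hBR
      · simpa using hS.base.pauli.smul_mem (hne hw) (hS.base.pauli.mul A hAR B hBR)
    refine hgn ((-i) • u) (hS.base.pauli.smul_mem (neg_ne_zero.2 hi0) hu) ?_
    rw [← hXu, hX, smul_mul_assoc, mul_assoc, hgg', mul_one, hA_def, mul_smul_comm, smul_smul, neg_mul, hi,
      neg_neg, one_smul]
  refine ⟨hp3, ?_⟩
  have hp5 : 5 ≤ p := by
    have := hS.prime.two_le
    omega
  obtain ⟨r, s, hrs⟩ := ZMod.sq_add_sq p (-1)
  have q : QPair A B r s (-1 : ZMod p) := ⟨h2, hA, by rw [hB, map_neg, map_one, neg_one_smul], hAB,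
    by linear_combination -hrs⟩
  -- the given element in coordinates
  obtain ⟨x₀, y₀, z₀, w₀, hgc⟩ := coords g
  set N := x₀ * x₀ + y₀ * y₀ + z₀ * z₀ + w₀ * w₀ with hN
  have hadj : qc A B (x₀ ^ p) (-y₀ ^ p) (-z₀ ^ p) (-w₀ ^ p) * g = μ • 1 := by
    refine LinearMap.ext fun v => sub_eq_zero.1 (hS.nd _ fun u => (H.eq_zero_symm hF).1 ?_)
    rw [H.sub_right hF, Module.End.mul_apply, ← qc_adj hS skA skB hAB, ← hgc, hμ, LinearMap.smul_apply,
      Module.End.one_apply, H.smul_right, hμp, sub_self]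
  have hbar : N • qc A B (x₀ ^ p) (-y₀ ^ p) (-z₀ ^ p) (-w₀ ^ p) = μ • qc A B x₀ (-y₀) (-z₀) (-w₀) := by
    have e := congrArg (· * qc A B x₀ (-y₀) (-z₀) (-w₀)) hadj
    simp only [mul_assoc, hgc, qc_conj_mul hA hB hAB, mul_smul_comm, mul_one, smul_mul_assoc, one_mul] at e
    exact e
  obtain ⟨ex, ey, ez, ew⟩ : N * x₀ ^ p = μ * x₀ ∧ N * y₀ ^ p = μ * y₀ ∧ N * z₀ ^ p = μ * z₀ ∧ N * w₀ ^ p = μ * w₀ := by
    obtain ⟨e1, e3, e4, e5⟩ := ext4 (show qc A B (N * x₀ ^ p) (N * -y₀ ^ p) (N * -z₀ ^ p) (N * -w₀ ^ p) =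
        qc A B (μ * x₀) (μ * -y₀) (μ * -z₀) (μ * -w₀) by
      simp only [qc] at hbar ⊢
      linear_combination (norm := module) hbar)
    exact ⟨e1, by linear_combination -e3, by linear_combination -e4, by linear_combination -e5⟩
  obtain ⟨l, hl0, hlN⟩ : ∃ l : F, l ≠ 0 ∧ N * l ^ p = μ * l := by
    by_contra hc
    push Not at hc
    have hz : ∀ v, N * v ^ p = μ * v → v = 0 := fun v hv => by_contra fun h0 => hc v h0 hv
    have : g = 0 := by rw [hgc, hz _ ex, hz _ ey, hz _ ez, hz _ ew]; simp [qc]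
    rw [this, zero_mul] at hgg
    exact zero_ne_one hgg
  have hN0 : N ≠ 0 := fun e => mul_ne_zero hμ0 hl0 (by rw [← hlN, e, zero_mul])
  have ratio : ∀ v, N * v ^ p = μ * v → ∃ k : ZMod p, cst p F k = v / l := fun v hv => exists_cast (by
    have hlp : l ^ p ≠ 0 := pow_ne_zero _ hl0
    rw [div_pow, div_eq_div_iff hlp hl0]
    exact mul_left_cancel₀ hN0 (by linear_combination l * hv - v * hlN))
  obtain ⟨k0, hk0⟩ := ratio _ ex
  obtain ⟨k1, hk1⟩ := ratio _ ey
  obtain ⟨k2, hk2⟩ := ratio _ ez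
  obtain ⟨k3, hk3⟩ := ratio _ ew
  set M := k0 • (1 : Matrix (Fin 2) (Fin 2) (ZMod p)) + k1 • mA p + k2 • mB r s (-1) + k3 • (mA p * mB r s (-1))
    with hM
  have hψM : psi q M = l⁻¹ • g := by
    rw [hM, map_add, map_add, map_add, psi_smul, psi_smul, psi_smul, psi_smul, map_one, map_mul, psi_A, psi_B,
      hk0, hk1, hk2, hk3, hgc, qc]
    match_scalars <;> field_simp
  have hMS : psi q M ∈ S := by rw [hψM]; exact hS.base.smul_mem (inv_ne_zero hl0) hg
  have hdet : M.det ≠ 0 := det_ne_zero_of_inv q (g := l • g') (by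
    rw [hψM, smul_mul_assoc, mul_smul_comm, smul_smul, mul_inv_cancel₀ hl0, one_smul, hgg'])
  have hr2 : r * r + s * s = -1 := by linear_combination hrs
  let mkSL : ∀ M : Matrix (Fin 2) (Fin 2) (ZMod p), M.det = 1 → PSL2.SL2 (ZMod p) := fun M hM => ⟨M, hM⟩
  let A₁ := mkSL (mA p) (by simp [mA, Matrix.det_fin_two])
  let B₁ := mkSL (mB r s (-1)) (by simp [mB, Matrix.det_fin_two]; linear_combination -hr2)
  have hA₁ : A₁.1 * A₁.1 = -1 := psi_inj q (by
    show psi q (mA p * mA p) = _
    rw [map_mul, psi_A, hA, map_neg, map_one])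
  have hB₁ : B₁.1 * B₁.1 = -1 := psi_inj q (by
    show psi q (mB r s (-1) * mB r s (-1)) = _
    rw [map_mul, psi_B, hB, map_neg, map_one])
  have hAB₁ : A₁.1 * B₁.1 = -(B₁.1 * A₁.1) := psi_inj q (by
    show psi q (mA p * mB r s (-1)) = psi q (-(mB r s (-1) * mA p))
    rw [map_mul, map_neg, map_mul, psi_A, psi_B, hAB])
  have hk2' : (2 : ZMod p) ≠ 0 := fun e => h2 (by rw [← map_ofNat (cst p F) 2, e, map_zero])
  let T : GL (Fin 2) (ZMod p) := GeneralLinearGroup.mkOfDetNeZero (1 + mA p) (by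
    rw [show (1 + mA p) = 1 + A₁.1 from rfl, det_one_add hA₁]; exact hk2')
  let s₁ := mkSL ((2 : ZMod p)⁻¹ • (1 + mA p + mB r s (-1) + mA p * mB r s (-1))) (by
    simp [mA, mB, Matrix.det_fin_two, Matrix.mul_apply, Fin.sum_univ_two]
    field_simp
    linear_combination (-2 : ZMod p) * hr2)
  let G : GL (Fin 2) (ZMod p) := GeneralLinearGroup.mkOfDetNeZero M hdet
  have hTA : tEl i a = 1 + A := rfl
  have hTB : tEl i b = 1 + B := rfl
  have hall := slTwo_le_of_quat (F := ZMod p) (ZMod.card p) hp5 (slotK_scalars hS.base q) hA₁ hB₁ hAB₁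
    (by rw [mem_slPartK]; show psi q (mA p) ∈ S; rw [psi_A]; exact hS.base.le hAR)
    (by rw [mem_slPartK]; show psi q (mB r s (-1)) ∈ S; rw [psi_B]; exact hS.base.le hBR)
    (T := T) (by rw [mem_slotK]; show psi q (1 + mA p) ∈ S; rw [map_add, map_one, psi_A, ← hTA]; exact htel a ha haa) rfl
    (s := s₁) (by
      rw [mem_slPartK]
      show psi q ((2 : ZMod p)⁻¹ • (1 + mA p + mB r s (-1) + mA p * mB r s (-1))) ∈ S
      rw [psi_smul, map_add, map_add, map_add, map_one, map_mul, psi_A, psi_B,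
        show 1 + A + B + A * B = tEl i a * tEl i b by rw [hTA, hTB]; noncomm_ring]
      refine hS.base.smul_mem (fun e => inv_ne_zero hk2' (cst_inj (e.trans (map_zero _).symm)))
        (hS.base.mul _ (htel a ha haa) _ (htel b hb hbb))) rfl
    (g := G) (by rw [mem_slotK]; exact hMS) (by
      intro k P hP e
      have e' := congrArg (psi q) e
      change psi q (M * mA p) = psi q (k • (P * M)) at e'
      rw [map_mul, psi_smul, map_mul, psi_A, hψM, smul_mul_assoc, mul_smul_comm l⁻¹ (psi q P), ← smul_comm l⁻¹] at e'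
      have e3 := smul_right_injective (Module.End F V) (inv_ne_zero hl0) e'
      obtain ⟨u, hu, hPu⟩ : ∃ u ∈ R, psi q P = u := by
        simp only [Set.mem_insert_iff, Set.mem_singleton_iff] at hP
        rcases hP with rfl | rfl | rfl
        exacts [⟨A, hAR, psi_A q⟩, ⟨B, hBR, psi_B q⟩, ⟨A * B, hS.base.pauli.mul A hAR B hBR, by
          show psi q (mA p * mB r s (-1)) = _; rw [map_mul, psi_A, psi_B]⟩]
      have hk : cst p F k ≠ 0 := fun e0 => by
        rw [e0, zero_smul] at e3
        have := congrArg (g' * ·) e3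
        simp only [← mul_assoc, hgg', one_mul, mul_zero] at this
        exact hS.base.pauli.ne_zero hAR this
      refine hgn ((-i * cst p F k) • u) (hS.base.pauli.smul_mem (mul_ne_zero (neg_ne_zero.2 hi0) hk) hu) ?_
      rw [← hPu, smul_mul_assoc, mul_smul, ← e3, hA_def, mul_smul_comm, smul_smul, neg_mul, hi, neg_neg, one_smul])
  intro v hv
  refine ⟨hv, fun c hc => ?_⟩
  set n := utv H v c - 1 with hn
  have hnx : ∀ x, n x = (c * h x v) • v := fun x => by simp [hn, utv_apply]
  have hnn : n * n = 0 := LinearMap.ext fun x => by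
    rw [Module.End.mul_apply, hnx, hnx, H.smul_left, hv]; simp
  obtain ⟨y, z, w, hn'⟩ := skreal n (fun x y => by
      rw [hnx, hnx, H.smul_left, H.smul_right, mul_pow, ← H.conj_symm y v]
      linear_combination (h x v * h v y) * hc)
    (by rw [hnn]; exact Submodule.zero_mem _) (by
      by_cases hn0 : n = 0
      · exact Or.inl hn0
      · refine Or.inr fun k hk => hn0 ?_
        rw [hk, smul_mul_assoc, one_mul, smul_smul] at hnn
        rw [hk, mul_self_eq_zero.1 ((smul_eq_zero.1 hnn).resolve_right one_ne_zero), zero_smul])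
  have hsum : y * y + z * z + w * w = 0 := by
    have e := hnn
    rw [hn', qc_sq hA hB hAB] at e
    refine cst_inj (p := p) (F := F) ?_
    rw [map_add, map_add, map_mul, map_mul, map_mul, map_zero]
    linear_combination -(qc_indep h2 hA hB hAB e).1
  set N₁ := 1 + y • mA p + z • mB r s (-1) + w • (mA p * mB r s (-1)) with hN₁
  have hψN : psi q N₁ = utv H v c := by
    rw [hN₁, map_add, map_add, map_add, psi_smul, psi_smul, psi_smul, map_one, map_mul, psi_A, psi_B]
    have e : qc A B 0 (cst p F y) (cst p F z) (cst p F w) = utv H v c - 1 := hn'.symm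
    rw [qc, zero_smul, zero_add] at e
    rw [add_assoc, add_assoc, ← add_assoc (cst p F y • A), e, add_sub_cancel]
  have hdetN : N₁.det = 1 := by
    rw [hN₁]
    simp [mA, mB, Matrix.det_fin_two, Matrix.mul_apply, Fin.sum_univ_two]
    linear_combination hsum - (z * z + w * w) * (hr2)
  have := hall (mkSL N₁ hdetN)
  rw [mem_slPartK] at this
  change psi q N₁ ∈ S at this
  rw [hψN] at this
  exact ⟨_, this, utv_apply H v c⟩

end Cfsg.Agent.C6U
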