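/-
A group of unitary similitudes containing a system and its elements T(a) has every isotropic vector as a centre
or normalises the system. Main results: `USetup.main`.
-/
import Cfsg.Agent.Lib.C6U.Step
import Cfsg.Agent.Lib.C6U.Two

set_option autoImplicit false
set_option linter.unusedSectionVars false

namespace Cfsg.Agent.C6U

open Cfsg.Agent Cfsg.Agent.C6Two Cfsg.Agent.Unitary

universe u v

variable {F : Type u} [Field F] [Fintype F] {p : ℕ}

/-- The small case of the induction. -/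
theorem USetup.small_or {V : Type v} [AddCommGroup V] [Module F V] [FiniteDimensional F V] [Nontrivial V]
    {h : V → V → F} {R S : Set (Module.End F V)} {i : F} (hU : USetup p h R S i) (htel : FullTel R S i) (hp : p % 4 = 3) (hb : ¬ Big R)
    {a : Module.End F V} (ha : a ∈ R) (haa : a * a = 1) (hns : NS a) {g : Module.End F V} (hg : g ∈ S)
    (hgn : ¬ Norml R g) : p ≠ 3 ∧ AllC p h S := by
  have hS := hU.base
  obtain ⟨b, hbR, hbb, hab⟩ := hS.pauli.exists_partner ha hns
  have hcomm : ∀ r ∈ R, a * r = r * a → ∃ c : F, r = c • 1 ∨ r = c • a := by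
    intro r hr har
    by_cases hnr : NS r
    · rcases hS.ns_of_ne ha hr with h | ⟨c, -, hc⟩
      · exact absurd ⟨a, ha, r, hr, har, hns, hnr, h⟩ hb
      · exact ⟨c, Or.inr hc⟩
    · simp only [NS, ne_eq, not_forall, not_not] at hnr
      obtain ⟨c, hc⟩ := hnr
      exact ⟨c, Or.inl hc⟩
  have hcl : ∀ r ∈ R, ∃ c : F, r = c • 1 ∨ r = c • a ∨ r = c • b ∨ r = c • (a * b) := by
    intro r hr
    rcases hS.pauli.cac a ha r hr with h | h
    · obtain ⟨c, e | e⟩ := hcomm r hr h
      exacts [⟨c, Or.inl e⟩, ⟨c, Or.inr (Or.inl e)⟩]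
    · obtain ⟨c, e | e⟩ := hcomm (r * b) (hS.pauli.mul r hr b hbR) (anti_mul h hab) <;>
        refine ⟨c, ?_⟩ <;> have e' := congrArg (· * b) e <;>
        simp only [mul_assoc, hbb, mul_one, smul_mul_assoc, one_mul] at e'
      exacts [Or.inr (Or.inr (Or.inl e')), Or.inr (Or.inr (Or.inr e'))]
  have hfail : (∀ r ∈ R, g * a ≠ r * g) ∨ ∀ r ∈ R, g * b ≠ r * g := by
    by_contra hc
    push Not at hc
    obtain ⟨⟨ra, hra, ea⟩, ⟨rb, hrb, eb⟩⟩ := hc
    refine hgn fun f hf => ?_
    obtain ⟨c, hc⟩ := hcl f hf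
    have hc0 : c ≠ 0 := fun h0 => hS.pauli.ne_zero hf (by
      rcases hc with e | e | e | e <;> rw [e, h0, zero_smul])
    rcases hc with rfl | rfl | rfl | rfl
    · exact ⟨_, hf, by rw [mul_smul_comm, smul_mul_assoc, mul_one, one_mul]⟩
    · exact ⟨c • ra, hS.pauli.smul_mem hc0 hra, by rw [mul_smul_comm, ea, smul_mul_assoc]⟩
    · exact ⟨c • rb, hS.pauli.smul_mem hc0 hrb, by rw [mul_smul_comm, eb, smul_mul_assoc]⟩
    · exact ⟨c • (ra * rb), hS.pauli.smul_mem hc0 (hS.pauli.mul _ hra _ hrb), by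
        rw [mul_smul_comm, ← mul_assoc, ea, mul_assoc ra, eb, ← mul_assoc, smul_mul_assoc]⟩
  rcases hfail with h | h
  · exact hU.small htel hp ha haa hbR hbb hab hcl hg h
  · refine hU.small htel hp hbR hbb ha haa (anti_symm hab) (fun r hr => ?_) hg h
    obtain ⟨c, e | e | e | e⟩ := hcl r hr
    exacts [⟨c, Or.inl e⟩, ⟨c, Or.inr (Or.inr (Or.inl e))⟩, ⟨c, Or.inr (Or.inl e)⟩,
      ⟨-c, Or.inr (Or.inr (Or.inr (by rw [e, hab, smul_neg, neg_smul])))⟩]

/-- Every isotropic vector is a centre or the group normalises the system. -/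
theorem USetup.main (hp : p % 4 = 3) {V : Type v} [AddCommGroup V] [Module F V] [FiniteDimensional F V]
    [Nontrivial V] {h : V → V → F} {R S : Set (Module.End F V)} {i : F} (hU : USetup p h R S i) (htel : FullTel R S i) :
    (AllC p h S ∧ Good p R) ∨ ∀ g ∈ S, Norml R g := by
  suffices H : ∀ (n : ℕ) (V : Type v) [AddCommGroup V] [Module F V] [FiniteDimensional F V] [Nontrivial V]
      (h : V → V → F) (R S : Set (Module.End F V)), Module.finrank F V = n → USetup p h R S i → FullTel R S i →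
      (AllC p h S ∧ Good p R) ∨ ∀ g ∈ S, Norml R g from H _ V h R S rfl hU htel
  intro n
  induction n using Nat.strong_induction_on with
  | _ n ih =>
    intro V _ _ _ _ h R S hn hU htel
    have hS := hU.base
    by_cases hall : ∃ a ∈ R, NS a
    swap
    · push Not at hall
      right
      intro g _ f hf
      have := hall f hf
      simp only [NS, ne_eq, not_forall, not_not] at this
      obtain ⟨c, rfl⟩ := this
      exact ⟨_, hf, by rw [mul_smul_comm, smul_mul_assoc, mul_one, one_mul]⟩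
    obtain ⟨a₀, ha₀, hn₀⟩ := hall
    obtain ⟨c, hc, hca, haa⟩ := hS.pauli.exists_invol ha₀
    by_cases hgood : AllC p h S ∧ Good p R
    · exact Or.inl hgood
    right
    intro g hg
    by_contra hgn
    by_cases hb : Big R
    · suffices hC : ∀ a ∈ R, a * a = 1 → NS a → ∀ g₁ ∈ S, a * g₁ = g₁ * a → Norml R g₁ from
        hgn (hS.normalises hb hC (fun a ha haa _ g g' hgS h1 h2' hu => hS.fusion htel hb hC ha haa hgS h1 h2' hu) g hg)
      intro a ha haa hns g₁ hg₁ hag
      refine (hU.centralizer_norml hp hb (fun a ha haa hns => ?_) ha haa hns hg₁ hag).resolve_left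
        (fun hT => hgood ⟨hT, Or.inr hb⟩)
      obtain ⟨v, hv⟩ := exists_fxd_ne haa hns
      haveI : Nontrivial (fxd a) := ⟨⟨v, 0, hv⟩⟩
      exact ih _ (hn ▸ Submodule.finrank_lt (fxd_ne_top hns)) (fxd a) _ _ _ rfl (hU.restrict ha haa hns ⟨v, hv⟩)
        (hS.restrict_tel ha haa hns ⟨v, hv⟩)
    · obtain ⟨h3, hT⟩ := hU.small_or htel hp hb hca haa (hn₀.smul hc) hg hgn
      exact hgood ⟨hT, Or.inl h3⟩

end Cfsg.Agent.C6U
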