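/-
Dimension four over the field with p^2 elements when 2 has no real square root.
Main results: `no_real_root_two`, `exists_root_eight`, `USetup.main_four`.
-/
import Cfsg.Agent.Lib.C6U.Main
import Cfsg.Agent.Lib.C6Two.Four

set_option autoImplicit false
set_option linter.unusedSectionVars false

namespace Cfsg.Agent.C6U

open Cfsg.Agent Cfsg.Agent.C6Two Cfsg.Agent.Unitary

universe u v

variable {F : Type u} [Field F] [Fintype F] {p : ℕ}

theorem no_real_root_two (hF : Fintype.card F = p ^ 2) (hp : p.Prime) (hp8 : p % 8 = 3) :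
    ∀ k : F, k ^ p = k → k * k ≠ 2 := by
  have := Fact.mk hp
  have := charP_of_sq hF hp
  intro k hk e
  obtain ⟨k', rfl⟩ := exists_cast hk
  have h' : k' * k' = 2 := cst_inj (F := F) (by rw [map_mul, map_ofNat, e])
  have := (ZMod.exists_sq_eq_two_iff (p := p) (by omega)).1 ⟨k', h'.symm⟩
  omega

theorem exists_root_eight (hF : Fintype.card F = p ^ 2) (hp8 : p % 8 = 7) :
    ∃ m : F, m ^ 4 = -1 ∧ m * m ^ p = 1 := by
  obtain ⟨g, hg⟩ := IsCyclic.exists_ofOrder_eq_natCard (α := Fˣ)
  rw [card_units hF] at hg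
  obtain ⟨d, hd⟩ : 8 ∣ p + 1 := ⟨p / 8 + 1, by omega⟩
  have hp1 : 1 ≤ p := by omega
  have hN : p ^ 2 - 1 = 8 * (d * (p - 1)) := by
    rw [← mul_assoc, ← hd, ← Nat.sq_sub_sq, one_pow]
  have hd0 : 0 < d * (p - 1) := Nat.mul_pos (by omega) (by omega)
  refine ⟨((g ^ (d * (p - 1)) : Fˣ) : F), ?_, ?_⟩
  · have h8 : (((g ^ (d * (p - 1)) : Fˣ) : F) ^ 4) ^ 2 = 1 := by
      rw [← pow_mul, ← Units.val_pow_eq_pow_val, ← pow_mul, show d * (p - 1) * (4 * 2) = p ^ 2 - 1 by rw [hN]; ring,
        ← hg, pow_orderOf_eq_one, Units.val_one]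
    refine (sq_eq_one_iff.1 h8).resolve_left fun e => ?_
    rw [← Units.val_pow_eq_pow_val, ← pow_mul] at e
    have := Nat.le_of_dvd (by omega) (orderOf_dvd_of_pow_eq_one (Units.ext e : g ^ (d * (p - 1) * 4) = 1))
    rw [hg, hN] at this
    omega
  · rw [← pow_succ', ← Units.val_pow_eq_pow_val, ← pow_mul, hd,
      show d * (p - 1) * (8 * d) = (p ^ 2 - 1) * d by rw [hN]; ring, pow_mul, ← hg, pow_orderOf_eq_one,
      one_pow, Units.val_one]

variable {V : Type v} [AddCommGroup V] [Module F V] [Nontrivial V]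
variable {h : V → V → F} {R S : Set (Module.End F V)} {i : F}

/-- Self-adjoint involutions give no real root of two. -/
theorem USetup.noRoot (hU : USetup p h R S i) (hno : ∀ k : F, k ^ p = k → k * k ≠ 2) {u : Module.End F V}
    (huu : u * u = 1) (hsa : ∀ x y, h (u x) y = h x (u y)) : NoRoot R u := by
  intro q hq hqq r hr hrr k hk
  have hF := hU.card
  have H := hU.herm
  have uu : ∀ x, u (u x) = x := fun x => LinearMap.congr_fun huu x
  have e : ∀ x, q (u x) + u (q x) = k • r x := fun x => by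
    have := LinearMap.congr_fun hk x
    rwa [Module.End.mul_apply, LinearMap.add_apply, Module.End.mul_apply, Module.End.mul_apply, uu] at this
  refine hno k (by_contra fun hne => ?_)
  have hz : ∀ x y, h x (r y) = 0 := fun x y => by
    have e1 : h (k • r x) y = h x (k • r y) := by
      rw [← e x, ← e y, H.add_left, H.add_right hF, hU.sa q hq hqq, hsa, hsa, hU.sa q hq hqq]
      ring
    rw [H.smul_left, H.smul_right, hU.sa r hr hrr] at e1
    exact (mul_eq_zero.1 (show (k ^ p - k) * h x (r y) = 0 by linear_combination -e1)).resolve_left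
      (sub_ne_zero.2 hne)
  obtain ⟨x, hx⟩ := exists_ne (0 : V)
  refine hx (hU.nd x fun y => ?_)
  have := hz x (r y)
  rwa [show r (r y) = y from LinearMap.congr_fun hrr y] at this

theorem USetup.sa_conj (hU : USetup p h R S i) {a g g' : Module.End F V} (ha : a ∈ R) (haa : a * a = 1)
    (hg : g ∈ S) (hgg : g * g' = 1) (x y : V) : h ((g * a * g') x) y = h x ((g * a * g') y) := by
  obtain ⟨μ, -, hμ⟩ := hU.sim g hg
  have gg : ∀ z, g (g' z) = z := fun z => LinearMap.congr_fun hgg z
  conv_lhs => rw [← gg y]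
  conv_rhs => rw [← gg x]
  simp only [Module.End.mul_apply, hμ, hU.sa a ha haa]

/-- The dichotomy in dimension four. -/
theorem USetup.main_four [FiniteDimensional F V] (hU : USetup p h R S i) (hp : p % 4 = 3)
    (hno : ∀ k : F, k ^ p = k → k * k ≠ 2) (hfin : Module.finrank F V = 4) :
    AllC p h S ∨ ∀ g ∈ S, Norml R g := by
  have hS := hU.base
  have hb := hS.big_of_four hfin
  by_cases hA : AllC p h S
  · exact Or.inl hA
  right
  have hC : ∀ a ∈ R, a * a = 1 → NS a → ∀ g ∈ S, a * g = g * a → Norml R g := by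
    intro a ha haa hns g hg hag
    refine (hU.centralizer_norml hp hb (fun a ha haa hns => ?_) ha haa hns hg hag).resolve_left hA
    obtain ⟨v, hv⟩ := exists_fxd_ne haa hns
    haveI : Nontrivial (fxd a) := ⟨⟨v, 0, hv⟩⟩
    exact (hU.restrict ha haa hns ⟨v, hv⟩).main hp (hS.restrict_tel ha haa hns ⟨v, hv⟩)
  refine hS.normalises hb hC fun a ha haa hna g g' hg h1 h2' hu =>
    hS.fusion_four hb hfin (fun a ha haa g hg g' hgg hgg' => hU.noRoot hno ?_ (hU.sa_conj ha haa hg hgg))
      (fun c hcR hc hnc a ha haa g hg g' hgg hgg' hcom => ?_) hC ha haa hna hg h1 h2' hu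
  · rw [show g * a * g' * (g * a * g') = g * (a * ((g' * g) * a)) * g' by simp only [mul_assoc], hgg', one_mul,
      haa, mul_one, hgg]
  · obtain ⟨v, hv⟩ := exists_fxd_ne hc hnc
    haveI : Nontrivial (fxd c) := ⟨⟨v, 0, hv⟩⟩
    refine (hU.restrict hcR hc hnc ⟨v, hv⟩).noRoot hno ?_ fun x y => ?_
    · rw [← res_mul hS.two hc hcom,
        show g * a * g' * (g * a * g') = g * (a * ((g' * g) * a)) * g' by simp only [mul_assoc], hgg', one_mul,
        haa, mul_one, hgg, res_one hS.two hc]
    · simp only [hres, res_apply_comm hS.two hc hcom]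
      exact hU.sa_conj ha haa hg hgg x y

end Cfsg.Agent.C6U
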