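/-
Normalisers of symplectic type groups of exponent four are maximal in SU_8(p), p = 3 mod 4.
Main results: `det_two_eigen`, `isMaximalIn_symp_normalizer_eight`.
-/
import Cfsg.Agent.Lib.C6U.Main
import Cfsg.Agent.Lib.Unitary.Maximal
import Cfsg.Agent.Lib.Aschbacher.SympTypeTwo
import Mathlib.LinearAlgebra.Determinant

set_option autoImplicit false
set_option linter.unusedSectionVars false

namespace Cfsg.Agent.C6U

open Matrix
open scoped commutatorElement
open Cfsg.Agent Cfsg.Agent.C6Two Cfsg.Agent.Unitary Cfsg.Agent.PrimeDim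

variable {F : Type*} [Field F] [Fintype F]

/-- The determinant of an element acting as scalars on two eigenspaces exchanged by an invertible map. -/
theorem det_two_eigen {V : Type*} [AddCommGroup V] [Module F V] [FiniteDimensional F V] (h2 : (2 : F) ≠ 0)
    {a b : Module.End F V} (ha : a * a = 1) (hb : b * b = 1) (hab : a * b = -(b * a)) (α β : F) :
    LinearMap.det (α • prj a + β • prj (-a)) = (α * β) ^ (Module.finrank F V / 2) := by
  have hna : (-a) * (-a) = 1 := by rw [neg_mul_neg, ha]
  set P := fxd a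
  set Q := fxd (-a)
  have hc : IsCompl P Q := by
    refine ⟨Submodule.disjoint_def.2 fun x hx hy => ?_, codisjoint_iff.2 (eq_top_iff.2 fun x _ => ?_)⟩
    · have e1 := mem_fxd.1 hx
      have e3 := mem_fxd.1 hy
      rw [LinearMap.neg_apply, e1] at e3
      have e2 : (2 : F) • x = 0 := by rw [two_smul]; nth_rewrite 1 [← e3]; exact neg_add_cancel x
      exact (smul_eq_zero.1 e2).resolve_left h2
    · exact Submodule.mem_sup.2 ⟨_, prj_mem ha x, _, prj_mem hna x, by
        simp [prj, smul_add]; match_scalars <;> field_simp <;> norm_num⟩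
  have bb : ∀ z, b (b z) = z := fun z => LinearMap.congr_fun hb z
  have ab : ∀ z, a (b z) = -b (a z) := fun z => LinearMap.congr_fun hab z
  let eb : P ≃ₗ[F] Q :=
    { toFun := fun x => ⟨b x, mem_fxd.2 (by rw [LinearMap.neg_apply, ab, mem_fxd.1 x.2, neg_neg])⟩
      map_add' := fun x y => Subtype.ext (map_add b (x : V) y)
      map_smul' := fun c x => Subtype.ext (map_smul b c (x : V))
      invFun := fun y => ⟨b y, mem_fxd.2 (by
        rw [ab, neg_eq_iff_eq_neg.1 (mem_fxd.1 y.2), map_neg, neg_neg])⟩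
      left_inv := fun x => Subtype.ext (bb x)
      right_inv := fun y => Subtype.ext (bb y) }
  have hdim : Module.finrank F P = Module.finrank F V / 2 ∧ Module.finrank F Q = Module.finrank F V / 2 := by
    have h1 := eb.finrank_eq
    have h3 := Submodule.finrank_add_eq_of_isCompl hc
    omega
  set e := Submodule.prodEquivOfIsCompl P Q hc
  have hconj : α • prj a + β • prj (-a) =
      (e.toLinearMap ∘ₗ (LinearMap.prodMap (α • LinearMap.id) (β • LinearMap.id))) ∘ₗ e.symm.toLinearMap := by
    refine LinearMap.ext fun x => ?_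
    obtain ⟨⟨y, z⟩, rfl⟩ := e.surjective x
    simp only [LinearMap.comp_apply, LinearEquiv.coe_coe, LinearEquiv.symm_apply_apply, LinearMap.prodMap_apply,
      LinearMap.smul_apply, LinearMap.id_apply, e, Submodule.coe_prodEquivOfIsCompl', LinearMap.add_apply]
    have hy := mem_fxd.1 y.2
    have hz := neg_eq_iff_eq_neg.1 (mem_fxd.1 z.2)
    simp [prj, hy, hz, smul_add]
    match_scalars <;> field_simp <;> ring
  rw [hconj, LinearMap.comp_assoc, LinearMap.det_conj, LinearMap.det_prodMap, LinearMap.det_smul, LinearMap.det_smul,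
    LinearMap.det_id, LinearMap.det_id, mul_one, mul_one, hdim.1, hdim.2, mul_pow]

/-- The endomorphism of a matrix. -/
abbrev eM {n : ℕ} (M : Matrix (Fin n) (Fin n) F) : Module.End F (Fin n → F) := Matrix.toLinAlgEquiv' M

theorem eM_apply {n : ℕ} (M : Matrix (Fin n) (Fin n) F) (v : Fin n → F) : eM M v = M *ᵥ v :=
  Matrix.toLinAlgEquiv'_apply M v

theorem eq_one_of_smul_one {V : Type*} [AddCommGroup V] [Module F V] [Nontrivial V] {k : F}
    (h : k • (1 : Module.End F V) = 1) : k = 1 := by
  have e : (k - 1) • (1 : Module.End F V) = 0 := by rw [_root_.sub_smul, h, one_smul, sub_self]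
  exact sub_eq_zero.1 ((smul_eq_zero.1 e).resolve_right one_ne_zero)

theorem neg_sq_one {V : Type*} [AddCommGroup V] [Module F V] {a : Module.End F V} (ha : a * a = 1) :
    (-a) * (-a) = 1 := by rw [neg_mul_neg, ha]

theorem det_eM {n : ℕ} (M : Matrix (Fin n) (Fin n) F) : LinearMap.det (eM M) = M.det := LinearMap.det_toLin' M

/-- The set of multiples of the elements of a group. -/
def scaled {n : ℕ} (G : Subgroup (GL (Fin n) F)) : Set (Module.End F (Fin n → F)) :=
  {X | ∃ (c : F) (g : GL (Fin n) F), c ≠ 0 ∧ g ∈ G ∧ X = c • eM (g : Matrix (Fin n) (Fin n) F)}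

variable {p : ℕ}

theorem sim_scaled {n : ℕ} (hF : Fintype.card F = p ^ 2) {G : Subgroup (GL (Fin n) F)} (hG : G ≤ Cfsg.GU n F p)
    {X : Module.End F (Fin n → F)} (hX : X ∈ scaled G) :
    ∃ μ : F, μ ≠ 0 ∧ ∀ x y, Cfsg.hermForm n F p (X x) (X y) = μ * Cfsg.hermForm n F p x y := by
  obtain ⟨c, g, hc, hg, rfl⟩ := hX
  refine ⟨c * c ^ p, mul_ne_zero hc (pow_ne_zero _ hc), fun x y => ?_⟩
  rw [LinearMap.smul_apply, LinearMap.smul_apply, eM_apply, eM_apply, (hermForm_isHerm hF n).smul_left,
    (hermForm_isHerm hF n).smul_right, (Unitary.mem_GU_iff g).1 (hG hg)]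
  ring

set_option maxHeartbeats 1600000 in
/-- The normaliser is maximal. -/
theorem isMaximalIn_symp_normalizer_eight (hF : Fintype.card F = p ^ 2) (hp : p.Prime) (hp4 : p % 4 = 3)
    {R : Subgroup (GL (Fin 8) F)} (hR : Cfsg.Geo.IsSymplecticTypeGroup 2 R)
    (habs : Cfsg.Geo.ActsAbsolutelyIrreducibly (Cfsg.Geo.matrixSet R)) (hRU : R ≤ Cfsg.GU 8 F p)
    (hcard : Nat.card R = 256) (hcen : Nat.card (Subgroup.center R) = 4) :
    Cfsg.Geo.IsMaximalIn (Cfsg.GU 8 F p ⊓ Cfsg.Geo.specialLinear (Fin 8) F)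
      (Cfsg.Geo.subgroupNormalizer R ⊓ (Cfsg.GU 8 F p ⊓ Cfsg.Geo.specialLinear (Fin 8) F)) := by
  classical
  have : Finite (Matrix (Fin 8) (Fin 8) F) := inferInstanceAs (Finite (Fin 8 → Fin 8 → F))
  have : Finite (GL (Fin 8) F) := Finite.of_injective Units.val Units.val_injective
  have := Fact.mk hp
  have := charP_of_sq hF hp
  set h := Cfsg.hermForm 8 F p with hh
  have H : IsHerm p h := hermForm_isHerm hF 8
  have hspan := span_eq_top habs
  have h2 : (2 : F) ≠ 0 := fun e => by
    have h5 : ((2 : ℕ) : F) = 0 := by exact_mod_cast e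
    have := (Nat.prime_dvd_prime_iff_eq hp Nat.prime_two).1 ((CharP.cast_eq_zero_iff F p 2).1 h5)
    omega
  have hp' : (fun c : F => c ^ p) = (fun c : F => c ^ p) := rfl
  -- a square root of -1
  obtain ⟨i, hi⟩ : ∃ i : F, i * i = -1 := by
    have h4 : Fintype.card F % 4 ≠ 3 := by rw [hF, pow_two, Nat.mul_mod, hp4]; norm_num
    obtain ⟨i, hi⟩ := FiniteField.isSquare_neg_one_iff.2 h4
    exact ⟨i, hi.symm⟩
  have hi0 : i ≠ 0 := fun e => by simp [e] at hi
  have hip : i ^ p = -i := by
    obtain ⟨k, hk⟩ : ∃ k, p = 4 * k + 3 := ⟨p / 4, by omega⟩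
    rw [hk, pow_add, pow_mul, show i ^ 4 = 1 by linear_combination (i * i - 1) * hi, one_pow, one_mul]
    linear_combination i * hi
  have hiN : i * i ^ p = 1 := by rw [hip]; linear_combination -hi
  -- facts on the group
  have h4 : ∀ x : R, x ^ 4 = 1 := fun x => by
    have := Monoid.pow_exponent_eq_one x
    rwa [hR.exponent_eq] at this
  have hcc := Aschbacher.comm_mem_center_of_exp_four hR.pGroup h4 hR.cyclic_of_characteristic
  let E : R → Matrix (Fin 8) (Fin 8) F := fun x => ((x : GL (Fin 8) F) : Matrix (Fin 8) (Fin 8) F)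
  have E_mul : ∀ x y, E (x * y) = E x * E y := fun x y => rfl
  have E_one : E 1 = 1 := rfl
  have hZs : ∀ z : R, z ∈ Subgroup.center R → ∃ c : F, E z = c • 1 := fun z hz =>
    Aschbacher.scalar_of_span hspan (E z) (by
      rintro _ ⟨y, hy, rfl⟩
      exact congrArg E (Subgroup.mem_center_iff.mp hz ⟨y, hy⟩).symm)
  have sc_inj : ∀ {c d : F}, c • (1 : Matrix (Fin 8) (Fin 8) F) = d • 1 → c = d := fun e => by
    simpa using congrFun (congrFun e 0) 0
  have sc4 : ∀ {z : R} {c : F}, E z = c • 1 → c ^ 4 = 1 := fun {z c} e => by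
    have h5 : E (z ^ 4) = c ^ 4 • 1 := by
      rw [pow_succ, pow_succ, pow_succ, pow_one, E_mul, E_mul, E_mul, e]
      simp [smul_smul, pow_succ, mul_assoc, mul_comm, mul_left_comm]
    rw [h4, E_one] at h5
    exact (sc_inj ((one_smul F _).trans h5)).symm
  have root4 : ∀ {c : F}, c ^ 4 = 1 → c = 1 ∨ c = -1 ∨ c = i ∨ c = -i := fun {c} hc => by
    have : (c - 1) * (c + 1) * ((c - i) * (c + i)) = 0 := by linear_combination hc - (c * c - 1) * hi
    rcases mul_eq_zero.1 this with e | e <;> rcases mul_eq_zero.1 e with e | e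
    exacts [Or.inl (sub_eq_zero.1 e), Or.inr (Or.inl (eq_neg_of_add_eq_zero_left e)),
      Or.inr (Or.inr (Or.inl (sub_eq_zero.1 e))), Or.inr (Or.inr (Or.inr (eq_neg_of_add_eq_zero_left e)))]
  obtain ⟨zi, hzi⟩ : ∃ z : R, E z = i • 1 := by
    choose cc hcc' using hZs
    have hfin : ∀ z : Subgroup.center R, cc z.1 z.2 ∈ ({1, -1, i, -i} : Finset F) := fun z => by
      simpa using root4 (sc4 (hcc' z.1 z.2))
    let f : Subgroup.center R → ({1, -1, i, -i} : Finset F) := fun z => ⟨cc z.1 z.2, hfin z⟩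
    have hf : Function.Injective f := fun z w e => by
      have e' : cc z.1 z.2 = cc w.1 w.2 := congrArg Subtype.val e
      refine Subtype.ext (Subtype.ext (Units.ext ?_))
      exact (hcc' z.1 z.2).trans (e' ▸ (hcc' w.1 w.2).symm)
    have hle : Nat.card ({1, -1, i, -i} : Finset F) ≤ Nat.card (Subgroup.center R) := by
      rw [hcen, Nat.card_eq_fintype_card, Fintype.card_coe]; exact Finset.card_le_four
    obtain ⟨z, hz⟩ := (hf.bijective_of_nat_card_le hle).2 ⟨i, by simp⟩
    exact ⟨z.1, by rw [hcc' z.1 z.2, show cc z.1 z.2 = i from congrArg Subtype.val hz]⟩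
  have hscR : ∀ {c : F}, c ^ 4 = 1 → ∃ z : R, E z = c • 1 := fun {c} hc => by
    rcases root4 hc with rfl | rfl | rfl | rfl
    · exact ⟨1, by rw [E_one, one_smul]⟩
    · exact ⟨zi * zi, by rw [E_mul, hzi, smul_mul_assoc, one_mul, smul_smul, hi]⟩
    · exact ⟨zi, hzi⟩
    · refine ⟨zi * zi * zi, ?_⟩
      rw [E_mul, E_mul, hzi]
      simp only [smul_mul_assoc, one_mul, smul_smul, hi]
      congr 1
      first | ring1 | linear_combination i * hi
  -- squares and commutators
  have hcomm : ∀ x y : R, ∃ c : F, (c = 1 ∨ c = -1) ∧ E x * E y = c • (E y * E x) := fun x y => by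
    obtain ⟨c, hc⟩ := hZs _ (hcc x y)
    have e : E x * E y = c • (E y * E x) := by
      have e1 : x * y = ⁅x, y⁆ * (y * x) := by rw [commutatorElement_def]; group
      have := congrArg E e1
      rwa [E_mul, E_mul, E_mul, hc, smul_mul_assoc, one_mul] at this
    refine ⟨c, ?_, e⟩
    set X := E x with hX
    set Y := E y with hY
    have mXY : ∀ Z : Matrix (Fin 8) (Fin 8) F, X * (Y * Z) = c • (Y * (X * Z)) := fun Z => by
      rw [← mul_assoc, e, smul_mul_assoc, mul_assoc]
    have x4 : ∀ z : R, E z * (E z * (E z * E z)) = 1 := fun z => by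
      have h5 := congrArg E (h4 z)
      rw [pow_succ, pow_succ, pow_succ, pow_one, E_mul, E_mul, E_mul, mul_assoc, mul_assoc, E_one] at h5
      exact h5
    have y4 : Y * (Y * (Y * Y)) = 1 := x4 y
    have h6 := x4 (y * x)
    rw [E_mul, ← hX, ← hY] at h6
    simp only [mul_assoc, mXY, mul_smul_comm, smul_smul] at h6
    have h7 : Y * (Y * (Y * (Y * (X * (X * (X * X)))))) = 1 := by
      rw [show X * (X * (X * X)) = 1 from x4 x, mul_one, y4]
    rw [h7] at h6
    have h8 : c * c * c * c * c * c = 1 := by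
      refine sc_inj (h6.trans (one_smul F _).symm) |>.symm.trans ?_ |>.symm
      ring
    have hc4 := sc4 hc
    have : (c - 1) * (c + 1) = 0 := by linear_combination h8 - c ^ 2 * hc4
    rcases mul_eq_zero.1 this with e0 | e0
    exacts [Or.inl (sub_eq_zero.1 e0), Or.inr (eq_neg_of_add_eq_zero_left e0)]
  have hsq : ∀ x : R, ∃ c : F, c ^ 4 = 1 ∧ E x * E x = (c * c) • 1 := fun x => by
    obtain ⟨e, he⟩ := Aschbacher.scalar_of_span hspan (E x * E x) (by
      rintro _ ⟨y, hy, rfl⟩
      obtain ⟨c, hc, hxy⟩ := hcomm x ⟨y, hy⟩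
      show E x * E x * E ⟨y, hy⟩ = E ⟨y, hy⟩ * (E x * E x)
      rw [mul_assoc, hxy, mul_smul_comm, ← mul_assoc (E x), hxy, smul_mul_assoc, smul_smul, mul_assoc]
      rcases hc with rfl | rfl <;> simp)
    have he2 : e * e = 1 := sc_inj (show (e * e) • (1 : Matrix (Fin 8) (Fin 8) F) = (1 : F) • 1 by
      have h5 := congrArg E (h4 x)
      rw [pow_succ, pow_succ, pow_succ, pow_one, E_mul, E_mul, E_mul, he, smul_mul_assoc, one_mul,
        smul_mul_assoc, he, smul_smul, E_one] at h5
      rw [h5, one_smul])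
    rcases mul_self_eq_one_iff.1 he2 with rfl | rfl
    · exact ⟨1, one_pow 4, by rw [one_mul, he]⟩
    · exact ⟨i, by linear_combination (i * i - 1) * hi, by rw [hi, he]⟩
  -- the system
  have mem_sc : ∀ {X : Matrix (Fin 8) (Fin 8) F} {g : GL (Fin 8) F}, g ∈ R → X = (g : Matrix (Fin 8) (Fin 8) F) →
      eM X ∈ scaled R := fun hg e => ⟨1, _, one_ne_zero, hg, by rw [one_smul, e]⟩
  have hP : Pauli (scaled R) := by
    refine ⟨fun c hc => ⟨c, 1, hc, R.one_mem, by simp [eM]⟩, ?_, ?_, ?_, ?_⟩
    · rintro _ ⟨c, g, hc, hg, rfl⟩ _ ⟨d, g', hd, hg', rfl⟩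
      exact ⟨c * d, g * g', mul_ne_zero hc hd, R.mul_mem hg hg', by
        rw [smul_mul_smul_comm, Units.val_mul]; simp [eM]⟩
    · rintro _ ⟨c, g, hc, hg, rfl⟩
      obtain ⟨d, hd4, hd⟩ := hsq ⟨g, hg⟩
      have hd0 : d ≠ 0 := fun e => by simp [e] at hd4
      refine ⟨c * d, mul_ne_zero hc hd0, ?_⟩
      rw [smul_mul_smul_comm, eM, ← map_mul, show (g : Matrix (Fin 8) (Fin 8) F) * g = _ from hd, map_smul, map_one,
        smul_smul]
      congr 1; ring
    · rintro _ ⟨c, g, hc, hg, rfl⟩ _ ⟨d, g', hd, hg', rfl⟩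
      obtain ⟨e, he, hgg⟩ := hcomm ⟨g, hg⟩ ⟨g', hg'⟩
      have hgg' := congrArg eM hgg
      simp only [eM, map_mul, map_smul] at hgg'
      change eM (g : Matrix (Fin 8) (Fin 8) F) * eM g' = e • (eM g' * eM g) at hgg'
      rcases he with rfl | rfl
      · left; rw [smul_mul_smul_comm, smul_mul_smul_comm, hgg', one_smul, mul_comm c d]
      · right; rw [smul_mul_smul_comm, smul_mul_smul_comm, hgg', mul_comm c d]; module
    · refine eq_top_iff.2 fun X hX => ?_
      clear hX
      obtain ⟨M, rfl⟩ := (Matrix.toLinAlgEquiv' (R := F) (n := Fin 8)).surjective X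
      have hM : M ∈ Submodule.span F (Cfsg.Geo.matrixSet R) := by rw [hspan]; trivial
      induction hM using Submodule.span_induction with
      | mem x hx =>
        obtain ⟨g, hg, rfl⟩ := hx
        exact Submodule.subset_span (mem_sc hg rfl)
      | zero => rw [map_zero]; exact zero_mem _
      | add x y _ _ hx hy => rw [map_add]; exact add_mem hx hy
      | smul c x _ hx => rw [map_smul]; exact Submodule.smul_mem _ c hx
  -- involutions of the system come from the group
  have hinv : ∀ a ∈ scaled R, a * a = 1 → ∃ g : R, a = eM (E g) := by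
    rintro _ ⟨c, g, hc, hg, rfl⟩ haa
    obtain ⟨d, hd4, hd⟩ := hsq ⟨g, hg⟩
    rw [smul_mul_smul_comm, eM, ← map_mul, show (g : Matrix (Fin 8) (Fin 8) F) * g = _ from hd, map_smul, map_one,
      smul_smul] at haa
    have e1 : c * c * (d * d) = 1 := eq_one_of_smul_one haa
    obtain ⟨z, hz⟩ := hscR (c := c) (by linear_combination (c * c * (d * d) + 1) * e1 - c ^ 4 * hd4)
    exact ⟨z * ⟨g, hg⟩, by rw [E_mul, hz, smul_mul_assoc, one_mul]; simp only [eM, map_smul]; rfl⟩
  have hEiso : ∀ g : R, ∀ x y, h (eM (E g) x) (eM (E g) y) = h x y := fun g x y => by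
    rw [eM_apply, eM_apply]; exact (Unitary.mem_GU_iff _).1 (hRU g.2) x y
  have hdetR : ∀ g : R, (E g).det = 1 := fun g => by
    obtain ⟨c, hc, hg⟩ : ∃ c : F, c ^ 4 = 1 ∧ E g * E g = (c * c) • 1 := hsq g
    obtain ⟨z, hz⟩ := hscR (c := c⁻¹) (by rw [inv_pow, hc, inv_one])
    have hc0 : c ≠ 0 := fun e => by simp [e] at hc
    have hd : (E g).det = c ^ 8 * (E (z * g)).det := by
      rw [E_mul, hz, smul_mul_assoc, one_mul, Matrix.det_smul, Fintype.card_fin, inv_pow, ← mul_assoc,
        mul_inv_cancel₀ (pow_ne_zero _ hc0), one_mul]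
    rw [hd, show c ^ 8 = 1 by linear_combination (c ^ 4 + 1) * hc, one_mul]
    set a := eM (E (z * g)) with ha
    have haR : a ∈ scaled R := mem_sc (z * g).2 rfl
    have haa : a * a = 1 := by
      rw [ha, eM, ← map_mul, E_mul, hz, smul_mul_assoc, one_mul, smul_mul_smul_comm, hg, smul_smul,
        show c⁻¹ * c⁻¹ * (c * c) = 1 by field_simp, one_smul, map_one]
    rw [← det_eM, ← ha]
    by_cases hns : NS a
    · obtain ⟨b, -, hbb, hab⟩ := hP.exists_partner haR hns
      have := det_two_eigen h2 haa hbb hab 1 (-1)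
      rw [Module.finrank_fin_fun, show (1 : F) • prj a + (-1 : F) • prj (-a) = a by
        simp [prj]; match_scalars <;> field_simp <;> norm_num] at this
      rw [this]; norm_num
    · simp only [NS, ne_eq, not_forall, not_not] at hns
      obtain ⟨k, hk⟩ := hns
      rw [hk, smul_mul_assoc, one_mul, smul_smul] at haa
      have hk2 := eq_one_of_smul_one haa
      rw [hk, LinearMap.det_smul, map_one, mul_one, Module.finrank_fin_fun,
        show k ^ 8 = (k * k) ^ 4 by ring, hk2, one_pow]
  set G := Cfsg.GU 8 F p ⊓ Cfsg.Geo.specialLinear (Fin 8) F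
  set N := Cfsg.Geo.subgroupNormalizer R ⊓ G
  have hRN : R ≤ N := fun g hg =>
    ⟨Subgroup.le_normalizer hg, hRU hg, MonoidHom.mem_ker.2 (Units.ext (by
      rw [Matrix.GeneralLinearGroup.val_det_apply, Units.val_one]
      exact hdetR ⟨g, hg⟩))⟩
  have scalar_mem : ∀ (u : GL (Fin 8) F) (c : F), (u : Matrix (Fin 8) (Fin 8) F) = c • 1 → u ∈ G → u ∈ N := by
    intro u c hu huG
    refine ⟨Subgroup.mem_normalizer_fintype fun n hn => ?_, huG⟩
    have e : u * n = n * u := Units.ext (by
      rw [Units.val_mul, Units.val_mul, hu, smul_mul_assoc, mul_smul_comm, one_mul, mul_one])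
    show u * n * u⁻¹ ∈ R
    rwa [e, mul_inv_cancel_right]
  have hi1 : (1 + i : F) ≠ 0 := fun e0 => h2 (by linear_combination hi + (1 - i) * e0)
  have hN1 : (1 + i) * (1 + i) ^ p = 2 := by
    rw [add_pow_q hF, one_pow, hip]; linear_combination -hi
  have htel : ∀ a ∈ scaled R, a * a = 1 → tEl i a ∈ scaled N := by
    intro a haR haa
    obtain ⟨g₀, hg₀⟩ := hinv a haR haa
    set T := (1 + i)⁻¹ • ((1 : Matrix (Fin 8) (Fin 8) F) + i • E g₀) with hT
    have hTe : eM T = (1 + i)⁻¹ • tEl i a := by
      rw [hT, eM, map_smul, map_add, map_one, map_smul, hg₀]; rfl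
    have haiso : ∀ x y, h (a x) y = h x (a y) := fun x y => by
      have e : a (a x) = x := LinearMap.congr_fun haa x
      rw [hg₀] at e ⊢
      conv_rhs => rw [← e, hEiso]
    have hTU : IsUnitary p T := by
      intro x y
      show h (T *ᵥ x) (T *ᵥ y) = h x y
      rw [← eM_apply, ← eM_apply, hTe]
      have e : a (a y) = y := LinearMap.congr_fun haa y
      have e2 : h (a x) (a y) = h x y := by rw [haiso, e]
      simp only [LinearMap.smul_apply, tEl, LinearMap.add_apply, Module.End.one_apply, H.smul_left, H.smul_right,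
        H.add_left, H.add_right hF, e2, hip, haiso, inv_pow]
      field_simp
      linear_combination (h x y) * (-hN1 - hi)
    have hTd : T.det = 1 := by
      rw [← det_eM, hTe, LinearMap.det_smul, Module.finrank_fin_fun]
      by_cases hns : NS a
      · obtain ⟨b, -, hbb, hab⟩ := hP.exists_partner haR hns
        have := det_two_eigen h2 haa hbb hab (1 + i) (1 - i)
        rw [Module.finrank_fin_fun, show (1 + i) • prj a + (1 - i) • prj (-a) = tEl i a by
          simp [prj, tEl]; match_scalars <;> field_simp <;> ring] at this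
        rw [this, inv_pow, show ((1 + i) * (1 - i)) ^ (8 / 2) = (1 + i) ^ 8 by
          rw [show (1 + i) * (1 - i) = 2 by linear_combination -hi, pow_mul (1 + i) 2 4,
            show (1 + i) ^ 2 = 2 * i by linear_combination hi, mul_pow, show i ^ 4 = 1 by
              linear_combination (i * i - 1) * hi, mul_one], inv_mul_cancel₀ (pow_ne_zero _ hi1)]
      · simp only [NS, ne_eq, not_forall, not_not] at hns
        obtain ⟨k, hk⟩ := hns
        rw [hk, smul_mul_assoc, one_mul, smul_smul] at haa
        have hk2 := eq_one_of_smul_one haa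
        rw [tEl, hk, smul_smul, show (1 : Module.End F (Fin 8 → F)) + (i * k) • 1 = (1 + i * k) • 1 by
          rw [add_smul, one_smul], LinearMap.det_smul, map_one, mul_one, Module.finrank_fin_fun, ← mul_pow]
        have e3 : (1 + i)⁻¹ * (1 + i * k) = if k = 1 then 1 else -i := by
          rcases mul_self_eq_one_iff.1 hk2 with rfl | rfl
          · rw [if_pos rfl, mul_one, inv_mul_cancel₀ hi1]
          · rw [if_neg (fun e => h2 (by linear_combination -e))]
            field_simp
            linear_combination hi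
        rw [e3]
        split
        · exact one_pow 8
        · linear_combination (i ^ 6 - i ^ 4 + i ^ 2 - 1) * hi
    obtain ⟨u, hu⟩ : IsUnit T := hTU.isUnit hF
    have huG : u ∈ G := ⟨by show u ∈ Cfsg.GU 8 F p; rw [Unitary.mem_GU_iff, hu]; exact hTU,
      MonoidHom.mem_ker.2 (Units.ext (by simpa [hu] using hTd))⟩
    have huN : u ∈ N := by
      refine ⟨Subgroup.mem_normalizer_fintype fun n hn => ?_, huG⟩
      obtain ⟨c, hc, hgn⟩ := hcomm g₀ ⟨n, hn⟩
      show u * n * u⁻¹ ∈ R
      rcases hc with rfl | rfl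
      · rw [one_smul] at hgn
        have e : u * n = n * u := Units.ext (by
          rw [Units.val_mul, Units.val_mul, hu, hT, smul_mul_assoc, mul_smul_comm, add_mul, mul_add, one_mul, mul_one,
            smul_mul_assoc, mul_smul_comm, show E g₀ * (n : Matrix (Fin 8) (Fin 8) F) = n * E g₀ from hgn])
        rwa [e, mul_inv_cancel_right]
      · obtain ⟨z, hz⟩ := hscR (c := i) (by linear_combination (i * i - 1) * hi)
        set m : R := z * g₀ * ⟨n, hn⟩
        have hgg : E g₀ * E g₀ = 1 := by
          have := haa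
          rw [hg₀, eM, ← map_mul] at this
          exact (Matrix.toLinAlgEquiv' (R := F) (n := Fin 8)).injective (this.trans (map_one _).symm)
        have e : u * n = (m : GL (Fin 8) F) * u := Units.ext (by
          rw [Units.val_mul, Units.val_mul, hu, hT, smul_mul_assoc, mul_smul_comm]
          congr 1
          show (1 + i • E g₀) * E ⟨n, hn⟩ = E (z * g₀ * ⟨n, hn⟩) * (1 + i • E g₀)
          have hgn' : E g₀ * E ⟨n, hn⟩ = -(E ⟨n, hn⟩ * E g₀) := by rw [← neg_one_smul F]; exact hgn
          have hng : E ⟨n, hn⟩ * E g₀ = -(E g₀ * E ⟨n, hn⟩) := by rw [hgn', neg_neg]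
          rw [E_mul, E_mul, hz]
          simp only [add_mul, mul_add, mul_one, one_mul, smul_mul_assoc, mul_smul_comm, mul_assoc, hng,
            _root_.mul_neg, ← mul_assoc (E g₀) (E g₀), hgg, smul_neg, smul_smul, hi, neg_one_smul F, neg_neg]
          abel)
        rw [e, mul_inv_cancel_right]
        exact m.2
    refine ⟨1 + i, u, hi1, huN, ?_⟩
    rw [hu, hTe, smul_inv_smul₀ hi1]
  have hsa : ∀ a ∈ scaled R, a * a = 1 → ∀ x y, h (a x) y = h x (a y) := fun a haR haa x y => by
    obtain ⟨g₀, hg₀⟩ := hinv a haR haa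
    have e : a (a x) = x := LinearMap.congr_fun haa x
    rw [hg₀] at e ⊢
    conv_rhs => rw [← e, hEiso]
  -- a transvection outside the normaliser
  have hne : ∃ g ∈ G, g ∉ N := by
    obtain ⟨a, haR, haa, hns, b, hbb, hab⟩ : ∃ a ∈ scaled R, a * a = 1 ∧ NS a ∧ ∃ b : Module.End F (Fin 8 → F),
        b * b = 1 ∧ a * b = -(b * a) := by
      obtain ⟨r, hr, hrns⟩ : ∃ r ∈ scaled R, NS r := by
        by_contra hc
        push Not at hc
        have hle : (scaled R : Set (Module.End F (Fin 8 → F))) ⊆
            (Submodule.span F {(1 : Module.End F (Fin 8 → F))} : Set _) := fun r hr => by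
          have := hc r hr
          simp only [NS, ne_eq, not_forall, not_not] at this
          obtain ⟨c, rfl⟩ := this
          exact Submodule.smul_mem _ _ (Submodule.mem_span_singleton_self _)
        have h64 := Submodule.finrank_mono (Submodule.span_le.2 hle)
        rw [hP.span, finrank_top, Module.finrank_linearMap, Module.finrank_fin_fun,
          finrank_span_singleton (one_ne_zero)] at h64
        omega
      obtain ⟨d, hd, hdr, hdd⟩ := hP.exists_invol hr
      obtain ⟨b, -, hbb, hab⟩ := hP.exists_partner hdr (hrns.smul hd)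
      exact ⟨_, hdr, hdd, hrns.smul hd, b, hbb, hab⟩
    have haRn : -a ∈ scaled R := hP.neg_mem haR
    have hnd : ∀ x : fxd a, (∀ y : fxd a, h (x : Fin 8 → F) y = 0) → x = 0 := by
      intro x hx
      refine Subtype.ext ((hermForm_nondeg hF 8) x fun y => ?_)
      have ex : a (x : Fin 8 → F) = x := mem_fxd.1 x.2
      have e := hx ⟨prj a y, prj_mem haa y⟩
      have e2 : h (x : Fin 8 → F) (a y) = h x y := by rw [← hsa a haR haa, ex]
      simp only [prj, LinearMap.smul_apply, LinearMap.add_apply, Module.End.one_apply, H.smul_right,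
        H.add_right hF, e2] at e
      rw [← two_mul, ← mul_assoc] at e
      exact (mul_eq_zero.1 e).resolve_left (mul_ne_zero (pow_ne_zero _ (inv_ne_zero h2)) h2)
    obtain ⟨x₀, hx₀⟩ := exists_fxd_ne haa hns
    obtain ⟨x, hx⟩ : ∃ x : fxd a, h (x : Fin 8 → F) x ≠ 0 := by
      by_contra hc
      push Not at hc
      exact hx₀ (hnd x₀ fun y => (H.comap (fxd a).subtype).eq_zero_of_isotropic hF hc x₀ y)
    have hax : a (x : Fin 8 → F) = x := mem_fxd.1 x.2
    have haiso : ∀ u w, h (a u) (a w) = h u w := fun u w => by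
      rw [hsa a haR haa, show a (a w) = w from LinearMap.congr_fun haa w]
    obtain ⟨y, hay, hy⟩ : ∃ y, a y = -y ∧ h y y ≠ 0 := by
      obtain ⟨x₁, hx₁⟩ := exists_fxd_ne (a := -a) (neg_sq_one haa) hns.neg
      by_contra hc
      push Not at hc
      refine hx₁ (Subtype.ext ((hermForm_nondeg hF 8) _ fun y => ?_))
      have ex : a (x₁ : Fin 8 → F) = -x₁ := neg_eq_iff_eq_neg.1 (mem_fxd.1 x₁.2)
      set y₁ := (2 : F)⁻¹ • (y - a y) with hy₁
      have hy₁a : a y₁ = -y₁ := by
        rw [hy₁, map_smul, map_sub, show a (a y) = y from LinearMap.congr_fun haa y, ← smul_neg, neg_sub]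
      have e := (H.comap (fxd (-a)).subtype).eq_zero_of_isotropic hF
        (fun z => hc z (neg_eq_iff_eq_neg.1 (mem_fxd.1 z.2))) x₁ ⟨y₁, mem_fxd.2 (by rw [LinearMap.neg_apply, hy₁a, neg_neg])⟩
      change h (x₁ : Fin 8 → F) y₁ = 0 at e
      have e2 : h (x₁ : Fin 8 → F) (a y) = -h x₁ y := by
        rw [← hsa a haR haa, ex, H.neg_left]
      rw [hy₁, H.smul_right, H.sub_right hF, e2, sub_neg_eq_add, ← two_mul, ← mul_assoc] at e
      exact (mul_eq_zero.1 e).resolve_left (mul_ne_zero (pow_ne_zero _ (inv_ne_zero h2)) h2)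
    have hxy : h (x : Fin 8 → F) y = 0 := by
      have e := hsa a haR haa (x : Fin 8 → F) y
      rw [hax, hay, H.neg_right hF] at e
      exact (mul_eq_zero.1 (show (2 : F) * h (x : Fin 8 → F) y = 0 by linear_combination e)).resolve_left h2
    obtain ⟨t, ht⟩ := exists_norm_eq hF (c := -h (x : Fin 8 → F) x / h y y) (by
      rw [div_pow, neg_pow_q hF, H.self_fixed, H.self_fixed])
    set v := (x : Fin 8 → F) + t • y with hv
    have hvv : h v v = 0 := by
      rw [hv, expand_one hF H, hxy, zero_pow_q hF]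
      have : t * t ^ p * h y y = -h (x : Fin 8 → F) x := by rw [← pow_succ', ht, div_mul_cancel₀ _ hy]
      linear_combination this
    have hskew : i + i ^ p = 0 := by rw [hip, add_neg_cancel]
    refine ⟨glTransvection hF v hvv i hskew, suToGU_mem_suGL _, fun hN => ?_⟩
    set u := glTransvection hF v hvv i hskew
    set T := eM (u : Matrix (Fin 8) (Fin 8) F)
    set T' := eM ((u⁻¹ : GL (Fin 8) F) : Matrix (Fin 8) (Fin 8) F)
    have hT : ∀ z, T z = z + (i * h z v) • v := fun z => by rw [eM_apply]; exact transvection_mulVec v z i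
    have hTT : T' * T = 1 := by rw [← map_mul, ← Units.val_mul, inv_mul_cancel, Units.val_one, map_one]
    obtain ⟨g₀, hg₀⟩ := hinv a haR haa
    set X := eM ((u * (g₀ : GL (Fin 8) F) * u⁻¹ : GL (Fin 8) F) : Matrix (Fin 8) (Fin 8) F) with hX
    have hXval : X = T * a * T' := by
      simp only [hX, Units.val_mul, eM, map_mul, hg₀, T, T']
      rfl
    have hXR : X ∈ scaled R := mem_sc ((Subgroup.mem_normalizer_iff.mp hN.1 _).mp g₀.2) rfl
    have haX := hP.mul a haR X hXR
    -- the subspace fixed by a X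
    let K : Submodule F (Fin 8 → F) :=
      LinearMap.ker (hl H v) ⊓ LinearMap.ker (hl H (a v))
    have hK : ∀ z ∈ K, (a * X) z = z := by
      intro z hz
      have h1 : h z v = 0 := hz.1
      have h3 : h z (a v) = 0 := hz.2
      have e1 : T z = z := by rw [hT, h1, mul_zero, zero_smul, add_zero]
      have e2 : T (a z) = a z := by
        rw [hT, hsa a haR haa, h3, mul_zero, zero_smul, add_zero]
      have e3 : T' z = z := by
        conv_lhs => rw [← e1]
        exact LinearMap.congr_fun hTT z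
      rw [hXval, Module.End.mul_apply, Module.End.mul_apply, Module.End.mul_apply, e3, e2]
      exact LinearMap.congr_fun haa z
    have hK6 : 6 ≤ Module.finrank F K := by
      have k1 : ∀ w, 7 ≤ Module.finrank F (LinearMap.ker (hl H w)) := fun w => by
        have := LinearMap.finrank_range_add_finrank_ker (hl H w)
        have h1 : Module.finrank F (LinearMap.range (hl H w)) ≤ 1 :=
          (Submodule.finrank_le _).trans (Module.finrank_self F).le
        rw [Module.finrank_fin_fun] at this
        omega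
      have h5 := Submodule.finrank_sup_add_finrank_inf_eq (LinearMap.ker (hl H v)) (LinearMap.ker (hl H (a v)))
      have h6 := Submodule.finrank_le (LinearMap.ker (hl H v) ⊔ LinearMap.ker (hl H (a v)))
      rw [Module.finrank_fin_fun] at h6
      have := k1 v
      have := k1 (a v)
      show 6 ≤ Module.finrank F (_ ⊓ _ : Submodule F _)
      omega
    obtain ⟨k, hk⟩ : ∃ k : F, a * X = k • 1 := by
      by_contra hc
      push Not at hc
      obtain ⟨c', -, hc'bb, hc'ab⟩ := hP.exists_partner haX hc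
      have hcc' : ∀ z, c' (c' z) = z := fun z => LinearMap.congr_fun hc'bb z
      have hinj : Function.Injective (c' : (Fin 8 → F) →ₗ[F] (Fin 8 → F)) := fun z w e => by
        rw [← hcc' z, e, hcc']
      have hdim := (Submodule.equivMapOfInjective c' hinj K).finrank_eq
      have h5 := Submodule.finrank_sup_add_finrank_inf_eq K (K.map c')
      have h6 := Submodule.finrank_le (K ⊔ K.map c')
      rw [Module.finrank_fin_fun] at h6
      have hpos : K ⊓ K.map c' ≠ ⊥ := fun e => by rw [e, finrank_bot] at h5; omega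
      obtain ⟨z, ⟨hz, w, hw, hwz⟩, hz0⟩ := Submodule.exists_mem_ne_zero_of_ne_bot hpos
      have e1 := LinearMap.congr_fun hc'ab w
      rw [Module.End.mul_apply, LinearMap.neg_apply, Module.End.mul_apply c' (a * X) w, hK w hw, hwz, hK z hz] at e1
      have e2 : (2 : F) • z = 0 := by rw [two_smul]; nth_rewrite 1 [e1]; exact neg_add_cancel z
      exact hz0 ((smul_eq_zero.1 e2).resolve_left h2)
    obtain ⟨z, hz, hz0⟩ := Submodule.exists_mem_ne_zero_of_ne_bot
      (show K ≠ ⊥ from fun e => by rw [e, finrank_bot] at hK6; omega)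
    have hk1 : k = 1 := by
      have := hK z hz
      rw [hk, LinearMap.smul_apply, Module.End.one_apply] at this
      exact smul_left_injective F hz0 (this.trans (one_smul F z).symm)
    rw [hk1, one_smul, hXval] at hk
    have hTa : T * a = a * T := by
      have e := congrArg (fun Y => a * Y * T) hk
      simp only [← mul_assoc, haa, one_mul, mul_one] at e
      rwa [mul_assoc (T * a) T' T, hTT, mul_one] at e
    have hva : a v = (x : Fin 8 → F) - t • y := by rw [hv, map_add, map_smul, hax, hay, smul_neg, sub_eq_add_neg]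
    have e := LinearMap.congr_fun hTa (x : Fin 8 → F)
    rw [Module.End.mul_apply, Module.End.mul_apply, hax, hT, map_add, map_smul, hax, add_right_inj] at e
    have hxv : h (x : Fin 8 → F) v = h (x : Fin 8 → F) x := by
      rw [hv, H.add_right hF, H.smul_right, hxy, mul_zero, add_zero]
    have e' := smul_right_injective (Fin 8 → F) (mul_ne_zero hi0 (hxv ▸ hx)) e
    rw [hva, hv] at e'
    have e5 : ((2 : F) * t) • y = 0 := by linear_combination (norm := module) e'
    rcases mul_eq_zero.1 ((smul_eq_zero.1 e5).resolve_right fun e0 => hy (by rw [e0, H.zero_left])) with e0 | e0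
    · exact h2 e0
    · rw [e0, zero_pow (Nat.succ_ne_zero p)] at ht
      exact (div_ne_zero (neg_ne_zero.2 hx) hy) ht.symm
  refine Unitary.isMaximalIn_of_forall inf_le_right hne fun M hNM hMG g hg hgN => ?_
  have hU : USetup p h (scaled R) (scaled M) i :=
    { base :=
        { pauli := hP
          le := by rintro _ ⟨c, g', hc, hg', rfl⟩; exact ⟨c, g', hc, hNM (hRN hg'), rfl⟩
          mul := by
            rintro _ ⟨c, g₁, hc, hg₁, rfl⟩ _ ⟨d, g₂, hd, hg₂, rfl⟩
            exact ⟨c * d, g₁ * g₂, mul_ne_zero hc hd, M.mul_mem hg₁ hg₂, by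
              rw [smul_mul_smul_comm, Units.val_mul]; simp [eM]⟩
          inv := by
            rintro _ ⟨c, g₁, hc, hg₁, rfl⟩
            refine ⟨c⁻¹ • eM ((g₁⁻¹ : GL (Fin 8) F) : Matrix (Fin 8) (Fin 8) F),
              ⟨c⁻¹, _, inv_ne_zero hc, M.inv_mem hg₁, rfl⟩, ?_, ?_⟩
            · rw [smul_mul_smul_comm, eM, ← map_mul, ← Units.val_mul, mul_inv_cancel, Units.val_one, map_one,
                mul_inv_cancel₀ hc, one_smul]
            · rw [smul_mul_smul_comm, eM, ← map_mul, ← Units.val_mul, inv_mul_cancel, Units.val_one, map_one,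
                inv_mul_cancel₀ hc, one_smul]
          tel2 := fun a ha haa _ b hb hbb _ => by
            obtain ⟨c, g', hc, hg', e⟩ := htel a ha haa
            obtain ⟨d, g'', hd, hg'', e'⟩ := htel b hb hbb
            exact ⟨c * d, g' * g'', mul_ne_zero hc hd, M.mul_mem (hNM hg') (hNM hg''), by
              rw [e, e', smul_mul_smul_comm, Units.val_mul]; simp [eM]⟩
          sqrt := hi
          two := h2 }
      card := hF
      prime := hp
      conj_i := hip
      herm := H
      nd := hermForm_nondeg hF 8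
      sa := hsa
      sim := fun X hX => sim_scaled hF (fun g' hg' => (hMG hg').1) hX }
  have htelM : FullTel (scaled R) (scaled M) i := fun a ha haa => by
    obtain ⟨c, g', hc, hg', e⟩ := htel a ha haa
    exact ⟨c, g', hc, hNM hg', e⟩
  rcases hU.main hp4 htelM with ⟨hall, -⟩ | hnorm
  · refine le_of_centres hF (Or.inl (by norm_num)) fun v hv => ⟨hv, fun t c hc ht => ?_⟩
    obtain ⟨X, ⟨k, g', hk, hg', rfl⟩, hXv⟩ := (hall v hv).2 c hc
    have e : (t : Matrix (Fin 8) (Fin 8) F) = k • (g' : Matrix (Fin 8) (Fin 8) F) := by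
      refine Matrix.ext_iff_mulVec.2 fun z => ?_
      rw [ht, transvection_mulVec, Matrix.smul_mulVec, ← eM_apply]
      exact (hXv z).symm
    have htG : t ∈ G := by
      have h5 := suToGU_mem_suGL (suTransvection hF v hv c hc)
      convert h5 using 1
      exact Units.ext ht
    have hz : (((t * g'⁻¹ : GL (Fin 8) F)) : Matrix (Fin 8) (Fin 8) F) = k • 1 := by
      rw [Units.val_mul, e, smul_mul_assoc, ← Units.val_mul, mul_inv_cancel, Units.val_one]
    have hzN := hNM (scalar_mem _ k hz (G.mul_mem htG (G.inv_mem (hMG hg'))))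
    simpa using M.mul_mem hzN hg'
  · exfalso
    refine hgN ⟨Subgroup.mem_normalizer_fintype fun n hn => ?_, hMG hg⟩
    obtain ⟨Y, ⟨c, r, hc, hr, rfl⟩, e⟩ := hnorm _ ⟨1, g, one_ne_zero, hg, rfl⟩ _ ⟨1, n, one_ne_zero, hn, rfl⟩
    rw [one_smul, one_smul, smul_mul_assoc, eM, eM, ← map_mul, ← map_mul, ← map_smul] at e
    have e' := (Matrix.toLinAlgEquiv' (R := F) (n := Fin 8)).injective e
    have hm : ((g * n * g⁻¹ : GL (Fin 8) F) : Matrix (Fin 8) (Fin 8) F) = c • (r : Matrix (Fin 8) (Fin 8) F) := by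
      rw [Units.val_mul, Units.val_mul, e', smul_mul_assoc, mul_assoc, ← Units.val_mul, mul_inv_cancel, Units.val_one,
        mul_one]
    have hgn4 : (g * n * g⁻¹) ^ 4 = 1 := by
      have h5 : (n : GL (Fin 8) F) ^ 4 = 1 := congrArg Subtype.val (h4 ⟨n, hn⟩)
      rw [conj_pow, h5, mul_one, mul_inv_cancel]
    have hc4 : c ^ 4 = 1 := by
      have e4 := congrArg (fun u : GL (Fin 8) F => (u : Matrix (Fin 8) (Fin 8) F)) hgn4
      simp only [Units.val_pow_eq_pow_val, Units.val_one, hm, smul_pow] at e4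
      have h5 : ((r : GL (Fin 8) F) : Matrix (Fin 8) (Fin 8) F) ^ 4 = 1 := by
        rw [← Units.val_pow_eq_pow_val, show r ^ 4 = 1 from congrArg Subtype.val (h4 ⟨r, hr⟩), Units.val_one]
      rw [h5] at e4
      exact sc_inj (e4.trans (one_smul F _).symm)
    obtain ⟨z, hz⟩ := hscR hc4
    have : g * n * g⁻¹ = ((z * ⟨r, hr⟩ : R) : GL (Fin 8) F) := Units.ext (by
      rw [hm]
      show _ = E (z * ⟨r, hr⟩)
      rw [E_mul, hz, smul_mul_assoc, one_mul])
    rw [this]
    exact Subtype.prop _

end Cfsg.Agent.C6U
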