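/-
Normalisers of symplectic type groups of exponent four are maximal in SU_4(p), p = 3 mod 4.
Main results: `isMaximalIn_symp_normalizer_four`.
-/
import Cfsg.Agent.Lib.C6U.FourCore
import Cfsg.Agent.Lib.C6U.MatrixMax

set_option autoImplicit false
set_option linter.unusedSectionVars false

namespace Cfsg.Agent.C6U

open Matrix
open scoped commutatorElement
open Cfsg.Agent Cfsg.Agent.C6Two Cfsg.Agent.Unitary Cfsg.Agent.PrimeDim

variable {F : Type*} [Field F] [Fintype F] {p : ℕ}

set_option maxHeartbeats 1600000 in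
/-- The normaliser is maximal. -/
theorem isMaximalIn_symp_normalizer_four (hF : Fintype.card F = p ^ 2) (hp : p.Prime) (hp4 : p % 4 = 3)
    {R : Subgroup (GL (Fin 4) F)} (hR : Cfsg.Geo.IsSymplecticTypeGroup 2 R)
    (habs : Cfsg.Geo.ActsAbsolutelyIrreducibly (Cfsg.Geo.matrixSet R)) (hRU : R ≤ Cfsg.GU 4 F p)
    (hcard : Nat.card R = 64) (hcen : Nat.card (Subgroup.center R) = 4) :
    Cfsg.Geo.IsMaximalIn (Cfsg.GU 4 F p ⊓ Cfsg.Geo.specialLinear (Fin 4) F)
      (Cfsg.Geo.subgroupNormalizer R ⊓ (Cfsg.GU 4 F p ⊓ Cfsg.Geo.specialLinear (Fin 4) F)) := by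
  classical
  have : Finite (Matrix (Fin 4) (Fin 4) F) := inferInstanceAs (Finite (Fin 4 → Fin 4 → F))
  have : Finite (GL (Fin 4) F) := Finite.of_injective Units.val Units.val_injective
  have := Fact.mk hp
  have := charP_of_sq hF hp
  set h := Cfsg.hermForm 4 F p with hh
  have H : IsHerm p h := hermForm_isHerm hF 4
  have hspan := span_eq_top habs
  have h2 : (2 : F) ≠ 0 := fun e => by
    have h5 : ((2 : ℕ) : F) = 0 := by exact_mod_cast e
    have := (Nat.prime_dvd_prime_iff_eq hp Nat.prime_two).1 ((CharP.cast_eq_zero_iff F p 2).1 h5)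
    omega
  have hp' : (fun c : F => c ^ p) = (fun c : F => c ^ p) := rfl
  -- a square root of -1
  obtain ⟨i, hi⟩ : ∃ i : F, i * i = -1 := by
    have h4 : Fintype.card F % 4 ≠ 3 := by rw [hF, pow_two, Nat.mul_mod, hp4]; norm_num
    obtain ⟨i, hi⟩ := FiniteField.isSquare_neg_one_iff.2 h4
    exact ⟨i, hi.symm⟩
  have hi0 : i ≠ 0 := fun e => by simp [e] at hi
  have hip : i ^ p = -i := by
    obtain ⟨k, hk⟩ : ∃ k, p = 4 * k + 3 := ⟨p / 4, by omega⟩
    rw [hk, pow_add, pow_mul, show i ^ 4 = 1 by linear_combination (i * i - 1) * hi, one_pow, one_mul]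
    linear_combination i * hi
  have hiN : i * i ^ p = 1 := by rw [hip]; linear_combination -hi
  -- facts on the group
  have h4 : ∀ x : R, x ^ 4 = 1 := fun x => by
    have := Monoid.pow_exponent_eq_one x
    rwa [hR.exponent_eq] at this
  have hcc := Aschbacher.comm_mem_center_of_exp_four hR.pGroup h4 hR.cyclic_of_characteristic
  let E : R → Matrix (Fin 4) (Fin 4) F := fun x => ((x : GL (Fin 4) F) : Matrix (Fin 4) (Fin 4) F)
  have E_mul : ∀ x y, E (x * y) = E x * E y := fun x y => rfl
  have E_one : E 1 = 1 := rfl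
  have hZs : ∀ z : R, z ∈ Subgroup.center R → ∃ c : F, E z = c • 1 := fun z hz =>
    Aschbacher.scalar_of_span hspan (E z) (by
      rintro _ ⟨y, hy, rfl⟩
      exact congrArg E (Subgroup.mem_center_iff.mp hz ⟨y, hy⟩).symm)
  have sc_inj : ∀ {c d : F}, c • (1 : Matrix (Fin 4) (Fin 4) F) = d • 1 → c = d := fun e => by
    simpa using congrFun (congrFun e 0) 0
  have sc4 : ∀ {z : R} {c : F}, E z = c • 1 → c ^ 4 = 1 := fun {z c} e => by
    have h5 : E (z ^ 4) = c ^ 4 • 1 := by
      rw [pow_succ, pow_succ, pow_succ, pow_one, E_mul, E_mul, E_mul, e]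
      simp [smul_smul, pow_succ, mul_assoc, mul_comm, mul_left_comm]
    rw [h4, E_one] at h5
    exact (sc_inj ((one_smul F _).trans h5)).symm
  have root4 : ∀ {c : F}, c ^ 4 = 1 → c = 1 ∨ c = -1 ∨ c = i ∨ c = -i := fun {c} hc => by
    have : (c - 1) * (c + 1) * ((c - i) * (c + i)) = 0 := by linear_combination hc - (c * c - 1) * hi
    rcases mul_eq_zero.1 this with e | e <;> rcases mul_eq_zero.1 e with e | e
    exacts [Or.inl (sub_eq_zero.1 e), Or.inr (Or.inl (eq_neg_of_add_eq_zero_left e)),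
      Or.inr (Or.inr (Or.inl (sub_eq_zero.1 e))), Or.inr (Or.inr (Or.inr (eq_neg_of_add_eq_zero_left e)))]
  obtain ⟨zi, hzi⟩ : ∃ z : R, E z = i • 1 := by
    choose cc hcc' using hZs
    have hfin : ∀ z : Subgroup.center R, cc z.1 z.2 ∈ ({1, -1, i, -i} : Finset F) := fun z => by
      simpa using root4 (sc4 (hcc' z.1 z.2))
    let f : Subgroup.center R → ({1, -1, i, -i} : Finset F) := fun z => ⟨cc z.1 z.2, hfin z⟩
    have hf : Function.Injective f := fun z w e => by
      have e' : cc z.1 z.2 = cc w.1 w.2 := congrArg Subtype.val e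
      refine Subtype.ext (Subtype.ext (Units.ext ?_))
      exact (hcc' z.1 z.2).trans (e' ▸ (hcc' w.1 w.2).symm)
    have hle : Nat.card ({1, -1, i, -i} : Finset F) ≤ Nat.card (Subgroup.center R) := by
      rw [hcen, Nat.card_eq_fintype_card, Fintype.card_coe]; exact Finset.card_le_four
    obtain ⟨z, hz⟩ := (hf.bijective_of_nat_card_le hle).2 ⟨i, by simp⟩
    exact ⟨z.1, by rw [hcc' z.1 z.2, show cc z.1 z.2 = i from congrArg Subtype.val hz]⟩
  have hscR : ∀ {c : F}, c ^ 4 = 1 → ∃ z : R, E z = c • 1 := fun {c} hc => by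
    rcases root4 hc with rfl | rfl | rfl | rfl
    · exact ⟨1, by rw [E_one, one_smul]⟩
    · exact ⟨zi * zi, by rw [E_mul, hzi, smul_mul_assoc, one_mul, smul_smul, hi]⟩
    · exact ⟨zi, hzi⟩
    · refine ⟨zi * zi * zi, ?_⟩
      rw [E_mul, E_mul, hzi]
      simp only [smul_mul_assoc, one_mul, smul_smul, hi]
      congr 1
      first | ring1 | linear_combination i * hi
  -- squares and commutators
  have hcomm : ∀ x y : R, ∃ c : F, (c = 1 ∨ c = -1) ∧ E x * E y = c • (E y * E x) := fun x y => by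
    obtain ⟨c, hc⟩ := hZs _ (hcc x y)
    have e : E x * E y = c • (E y * E x) := by
      have e1 : x * y = ⁅x, y⁆ * (y * x) := by rw [commutatorElement_def]; group
      have := congrArg E e1
      rwa [E_mul, E_mul, E_mul, hc, smul_mul_assoc, one_mul] at this
    refine ⟨c, ?_, e⟩
    set X := E x with hX
    set Y := E y with hY
    have mXY : ∀ Z : Matrix (Fin 4) (Fin 4) F, X * (Y * Z) = c • (Y * (X * Z)) := fun Z => by
      rw [← mul_assoc, e, smul_mul_assoc, mul_assoc]
    have x4 : ∀ z : R, E z * (E z * (E z * E z)) = 1 := fun z => by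
      have h5 := congrArg E (h4 z)
      rw [pow_succ, pow_succ, pow_succ, pow_one, E_mul, E_mul, E_mul, mul_assoc, mul_assoc, E_one] at h5
      exact h5
    have y4 : Y * (Y * (Y * Y)) = 1 := x4 y
    have h6 := x4 (y * x)
    rw [E_mul, ← hX, ← hY] at h6
    simp only [mul_assoc, mXY, mul_smul_comm, smul_smul] at h6
    have h7 : Y * (Y * (Y * (Y * (X * (X * (X * X)))))) = 1 := by
      rw [show X * (X * (X * X)) = 1 from x4 x, mul_one, y4]
    rw [h7] at h6
    have h8 : c * c * c * c * c * c = 1 := by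
      refine sc_inj (h6.trans (one_smul F _).symm) |>.symm.trans ?_ |>.symm
      ring
    have hc4 := sc4 hc
    have : (c - 1) * (c + 1) = 0 := by linear_combination h8 - c ^ 2 * hc4
    rcases mul_eq_zero.1 this with e0 | e0
    exacts [Or.inl (sub_eq_zero.1 e0), Or.inr (eq_neg_of_add_eq_zero_left e0)]
  have hsq : ∀ x : R, ∃ c : F, c ^ 4 = 1 ∧ E x * E x = (c * c) • 1 := fun x => by
    obtain ⟨e, he⟩ := Aschbacher.scalar_of_span hspan (E x * E x) (by
      rintro _ ⟨y, hy, rfl⟩
      obtain ⟨c, hc, hxy⟩ := hcomm x ⟨y, hy⟩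
      show E x * E x * E ⟨y, hy⟩ = E ⟨y, hy⟩ * (E x * E x)
      rw [mul_assoc, hxy, mul_smul_comm, ← mul_assoc (E x), hxy, smul_mul_assoc, smul_smul, mul_assoc]
      rcases hc with rfl | rfl <;> simp)
    have he2 : e * e = 1 := sc_inj (show (e * e) • (1 : Matrix (Fin 4) (Fin 4) F) = (1 : F) • 1 by
      have h5 := congrArg E (h4 x)
      rw [pow_succ, pow_succ, pow_succ, pow_one, E_mul, E_mul, E_mul, he, smul_mul_assoc, one_mul,
        smul_mul_assoc, he, smul_smul, E_one] at h5
      rw [h5, one_smul])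
    rcases mul_self_eq_one_iff.1 he2 with rfl | rfl
    · exact ⟨1, one_pow 4, by rw [one_mul, he]⟩
    · exact ⟨i, by linear_combination (i * i - 1) * hi, by rw [hi, he]⟩
  -- the system
  have mem_sc : ∀ {X : Matrix (Fin 4) (Fin 4) F} {g : GL (Fin 4) F}, g ∈ R → X = (g : Matrix (Fin 4) (Fin 4) F) →
      eM X ∈ scaled R := fun hg e => ⟨1, _, one_ne_zero, hg, by rw [one_smul, e]⟩
  have hP : Pauli (scaled R) := by
    refine ⟨fun c hc => ⟨c, 1, hc, R.one_mem, by simp [eM]⟩, ?_, ?_, ?_, ?_⟩
    · rintro _ ⟨c, g, hc, hg, rfl⟩ _ ⟨d, g', hd, hg', rfl⟩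
      exact ⟨c * d, g * g', mul_ne_zero hc hd, R.mul_mem hg hg', by
        rw [smul_mul_smul_comm, Units.val_mul]; simp [eM]⟩
    · rintro _ ⟨c, g, hc, hg, rfl⟩
      obtain ⟨d, hd4, hd⟩ := hsq ⟨g, hg⟩
      have hd0 : d ≠ 0 := fun e => by simp [e] at hd4
      refine ⟨c * d, mul_ne_zero hc hd0, ?_⟩
      rw [smul_mul_smul_comm, eM, ← map_mul, show (g : Matrix (Fin 4) (Fin 4) F) * g = _ from hd, map_smul, map_one,
        smul_smul]
      congr 1; ring
    · rintro _ ⟨c, g, hc, hg, rfl⟩ _ ⟨d, g', hd, hg', rfl⟩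
      obtain ⟨e, he, hgg⟩ := hcomm ⟨g, hg⟩ ⟨g', hg'⟩
      have hgg' := congrArg eM hgg
      simp only [eM, map_mul, map_smul] at hgg'
      change eM (g : Matrix (Fin 4) (Fin 4) F) * eM g' = e • (eM g' * eM g) at hgg'
      rcases he with rfl | rfl
      · left; rw [smul_mul_smul_comm, smul_mul_smul_comm, hgg', one_smul, mul_comm c d]
      · right; rw [smul_mul_smul_comm, smul_mul_smul_comm, hgg', mul_comm c d]; module
    · refine eq_top_iff.2 fun X hX => ?_
      clear hX
      obtain ⟨M, rfl⟩ := (Matrix.toLinAlgEquiv' (R := F) (n := Fin 4)).surjective X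
      have hM : M ∈ Submodule.span F (Cfsg.Geo.matrixSet R) := by rw [hspan]; trivial
      induction hM using Submodule.span_induction with
      | mem x hx =>
        obtain ⟨g, hg, rfl⟩ := hx
        exact Submodule.subset_span (mem_sc hg rfl)
      | zero => rw [map_zero]; exact zero_mem _
      | add x y _ _ hx hy => rw [map_add]; exact add_mem hx hy
      | smul c x _ hx => rw [map_smul]; exact Submodule.smul_mem _ c hx
  -- involutions of the system come from the group
  have hinv : ∀ a ∈ scaled R, a * a = 1 → ∃ g : R, a = eM (E g) := by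
    rintro _ ⟨c, g, hc, hg, rfl⟩ haa
    obtain ⟨d, hd4, hd⟩ := hsq ⟨g, hg⟩
    rw [smul_mul_smul_comm, eM, ← map_mul, show (g : Matrix (Fin 4) (Fin 4) F) * g = _ from hd, map_smul, map_one,
      smul_smul] at haa
    have e1 : c * c * (d * d) = 1 := eq_one_of_smul_one haa
    obtain ⟨z, hz⟩ := hscR (c := c) (by linear_combination (c * c * (d * d) + 1) * e1 - c ^ 4 * hd4)
    exact ⟨z * ⟨g, hg⟩, by rw [E_mul, hz, smul_mul_assoc, one_mul]; simp only [eM, map_smul]; rfl⟩
  have hEiso : ∀ g : R, ∀ x y, h (eM (E g) x) (eM (E g) y) = h x y := fun g x y => by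
    rw [eM_apply, eM_apply]; exact (Unitary.mem_GU_iff _).1 (hRU g.2) x y
  have hdetR : ∀ g : R, (E g).det = 1 := fun g => by
    obtain ⟨c, hc, hg⟩ : ∃ c : F, c ^ 4 = 1 ∧ E g * E g = (c * c) • 1 := hsq g
    obtain ⟨z, hz⟩ := hscR (c := c⁻¹) (by rw [inv_pow, hc, inv_one])
    have hc0 : c ≠ 0 := fun e => by simp [e] at hc
    have hd : (E g).det = c ^ 4 * (E (z * g)).det := by
      rw [E_mul, hz, smul_mul_assoc, one_mul, Matrix.det_smul, Fintype.card_fin, inv_pow, ← mul_assoc,
        mul_inv_cancel₀ (pow_ne_zero _ hc0), one_mul]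
    rw [hd, hc, one_mul]
    set a := eM (E (z * g)) with ha
    have haR : a ∈ scaled R := mem_sc (z * g).2 rfl
    have haa : a * a = 1 := by
      rw [ha, eM, ← map_mul, E_mul, hz, smul_mul_assoc, one_mul, smul_mul_smul_comm, hg, smul_smul,
        show c⁻¹ * c⁻¹ * (c * c) = 1 by field_simp, one_smul, map_one]
    rw [← det_eM, ← ha]
    by_cases hns : NS a
    · obtain ⟨b, -, hbb, hab⟩ := hP.exists_partner haR hns
      have := det_two_eigen h2 haa hbb hab 1 (-1)
      rw [Module.finrank_fin_fun, show (1 : F) • prj a + (-1 : F) • prj (-a) = a by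
        simp [prj]; match_scalars <;> field_simp <;> norm_num] at this
      rw [this]; norm_num
    · simp only [NS, ne_eq, not_forall, not_not] at hns
      obtain ⟨k, hk⟩ := hns
      rw [hk, smul_mul_assoc, one_mul, smul_smul] at haa
      have hk2 := eq_one_of_smul_one haa
      rw [hk, LinearMap.det_smul, map_one, mul_one, Module.finrank_fin_fun,
        show k ^ 4 = (k * k) ^ 2 by ring, hk2, one_pow]
  set G := Cfsg.GU 4 F p ⊓ Cfsg.Geo.specialLinear (Fin 4) F
  set N := Cfsg.Geo.subgroupNormalizer R ⊓ G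
  have hRN : R ≤ N := fun g hg =>
    ⟨Subgroup.le_normalizer hg, hRU hg, MonoidHom.mem_ker.2 (Units.ext (by
      rw [Matrix.GeneralLinearGroup.val_det_apply, Units.val_one]
      exact hdetR ⟨g, hg⟩))⟩
  have scalar_mem : ∀ (u : GL (Fin 4) F) (c : F), (u : Matrix (Fin 4) (Fin 4) F) = c • 1 → u ∈ G → u ∈ N := by
    intro u c hu huG
    refine ⟨Subgroup.mem_normalizer_fintype fun n hn => ?_, huG⟩
    have e : u * n = n * u := Units.ext (by
      rw [Units.val_mul, Units.val_mul, hu, smul_mul_assoc, mul_smul_comm, one_mul, mul_one])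
    show u * n * u⁻¹ ∈ R
    rwa [e, mul_inv_cancel_right]
  have hi1 : (1 + i : F) ≠ 0 := fun e0 => h2 (by linear_combination hi + (1 - i) * e0)
  have hN1 : (1 + i) * (1 + i) ^ p = 2 := by
    rw [add_pow_q hF, one_pow, hip]; linear_combination -hi
  have hT1 : ∀ a ∈ scaled R, a * a = 1 → NS a → ∃ u : GL (Fin 4) F, u ∈ Cfsg.GU 4 F p ∧
      u ∈ Cfsg.Geo.subgroupNormalizer R ∧ (u : Matrix (Fin 4) (Fin 4) F).det = -1 ∧
      tEl i a = (1 + i) • eM (u : Matrix (Fin 4) (Fin 4) F) := by
    intro a haR haa hns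
    obtain ⟨g₀, hg₀⟩ := hinv a haR haa
    set T := (1 + i)⁻¹ • ((1 : Matrix (Fin 4) (Fin 4) F) + i • E g₀) with hT
    have hTe : eM T = (1 + i)⁻¹ • tEl i a := by
      rw [hT, eM, map_smul, map_add, map_one, map_smul, hg₀]; rfl
    have haiso : ∀ x y, h (a x) y = h x (a y) := fun x y => by
      have e : a (a x) = x := LinearMap.congr_fun haa x
      rw [hg₀] at e ⊢
      conv_rhs => rw [← e, hEiso]
    have hTU : IsUnitary p T := by
      intro x y
      show h (T *ᵥ x) (T *ᵥ y) = h x y
      rw [← eM_apply, ← eM_apply, hTe]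
      have e : a (a y) = y := LinearMap.congr_fun haa y
      have e2 : h (a x) (a y) = h x y := by rw [haiso, e]
      simp only [LinearMap.smul_apply, tEl, LinearMap.add_apply, Module.End.one_apply, H.smul_left, H.smul_right,
        H.add_left, H.add_right hF, e2, hip, haiso, inv_pow]
      field_simp
      linear_combination (h x y) * (-hN1 - hi)
    have hTd : T.det = -1 := by
      rw [← det_eM, hTe, LinearMap.det_smul, Module.finrank_fin_fun]
      obtain ⟨b, -, hbb, hab⟩ := hP.exists_partner haR hns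
      have := det_two_eigen h2 haa hbb hab (1 + i) (1 - i)
      rw [Module.finrank_fin_fun, show (1 + i) • prj a + (1 - i) • prj (-a) = tEl i a by
        simp [prj, tEl]; match_scalars <;> field_simp <;> ring] at this
      rw [this, inv_pow, show ((1 + i) * (1 - i)) ^ (4 / 2) = -((1 + i) ^ 4) by
        rw [show (1 + i) * (1 - i) = 2 by linear_combination -hi, pow_mul (1 + i) 2 2,
          show (1 + i) ^ 2 = 2 * i by linear_combination hi, mul_pow, show i ^ 2 = -1 by
            rw [sq]; exact hi]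
        ring, mul_neg, inv_mul_cancel₀ (pow_ne_zero _ hi1)]
    obtain ⟨u, hu⟩ : IsUnit T := hTU.isUnit hF
    refine ⟨u, by rw [Unitary.mem_GU_iff, hu]; exact hTU, Subgroup.mem_normalizer_fintype fun n hn => ?_,
      by rw [hu]; exact hTd, by rw [hu, hTe, smul_inv_smul₀ hi1]⟩
    obtain ⟨c, hc, hgn⟩ := hcomm g₀ ⟨n, hn⟩
    show u * n * u⁻¹ ∈ R
    rcases hc with rfl | rfl
    · rw [one_smul] at hgn
      have e : u * n = n * u := Units.ext (by
        rw [Units.val_mul, Units.val_mul, hu, hT, smul_mul_assoc, mul_smul_comm, add_mul, mul_add, one_mul, mul_one,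
          smul_mul_assoc, mul_smul_comm, show E g₀ * (n : Matrix (Fin 4) (Fin 4) F) = n * E g₀ from hgn])
      rwa [e, mul_inv_cancel_right]
    · obtain ⟨z, hz⟩ := hscR (c := i) (by linear_combination (i * i - 1) * hi)
      set m : R := z * g₀ * ⟨n, hn⟩
      have hgg : E g₀ * E g₀ = 1 := by
        have := haa
        rw [hg₀, eM, ← map_mul] at this
        exact (Matrix.toLinAlgEquiv' (R := F) (n := Fin 4)).injective (this.trans (map_one _).symm)
      have e : u * n = (m : GL (Fin 4) F) * u := Units.ext (by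
        rw [Units.val_mul, Units.val_mul, hu, hT, smul_mul_assoc, mul_smul_comm]
        congr 1
        show (1 + i • E g₀) * E ⟨n, hn⟩ = E (z * g₀ * ⟨n, hn⟩) * (1 + i • E g₀)
        have hgn' : E g₀ * E ⟨n, hn⟩ = -(E ⟨n, hn⟩ * E g₀) := by rw [← neg_one_smul F]; exact hgn
        have hng : E ⟨n, hn⟩ * E g₀ = -(E g₀ * E ⟨n, hn⟩) := by rw [hgn', neg_neg]
        rw [E_mul, E_mul, hz]
        simp only [add_mul, mul_add, mul_one, one_mul, smul_mul_assoc, mul_smul_comm, mul_assoc, hng,
          _root_.mul_neg, ← mul_assoc (E g₀) (E g₀), hgg, smul_neg, smul_smul, hi, neg_one_smul F, neg_neg]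
        abel)
      rw [e, mul_inv_cancel_right]
      exact m.2
  have htel2 : ∀ a ∈ scaled R, a * a = 1 → NS a → ∀ b ∈ scaled R, b * b = 1 → NS b →
      tEl i a * tEl i b ∈ scaled N := by
    intro a ha haa hna b hb hbb hnb
    obtain ⟨u, huU, huN, hud, hue⟩ := hT1 a ha haa hna
    obtain ⟨w, hwU, hwN, hwd, hwe⟩ := hT1 b hb hbb hnb
    refine ⟨(1 + i) * (1 + i), u * w, mul_ne_zero hi1 hi1, ⟨mul_mem huN hwN, mul_mem huU hwU,
      MonoidHom.mem_ker.2 (Units.ext ?_)⟩, ?_⟩
    · simp [Matrix.det_mul, hud, hwd]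
    · rw [hue, hwe, smul_mul_smul_comm, Units.val_mul]; simp [eM]
  have hfull : p % 8 = 7 → ∀ a ∈ scaled R, a * a = 1 → tEl i a ∈ scaled N := by
    intro hp8 a ha haa
    by_cases hns : NS a
    · obtain ⟨u, huU, huN, hud, hue⟩ := hT1 a ha haa hns
      obtain ⟨m, hm4, hmN⟩ := exists_root_eight hF hp8
      have hm0 : m ≠ 0 := fun e0 => by simp [e0] at hm4
      let sc : GL (Fin 4) F := Units.map (Matrix.scalar (Fin 4) : F →+* Matrix (Fin 4) (Fin 4) F).toMonoidHom
        (Units.mk0 m hm0)
      have hsc : (sc : Matrix (Fin 4) (Fin 4) F) = m • 1 := by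
        ext j k; simp [sc, Matrix.diagonal_apply, Matrix.one_apply]
      have hscU : sc ∈ Cfsg.GU 4 F p := by
        rw [Unitary.mem_GU_iff, hsc]
        intro x y
        rw [Matrix.smul_mulVec, Matrix.one_mulVec, Matrix.smul_mulVec, Matrix.one_mulVec]
        show h (m • x) (m • y) = h x y
        rw [H.smul_left, H.smul_right, ← mul_assoc, hmN, one_mul]
      have hscN : sc ∈ Cfsg.Geo.subgroupNormalizer R := Subgroup.mem_normalizer_fintype fun n hn => by
        have e : sc * n = n * sc := Units.ext (by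
          rw [Units.val_mul, Units.val_mul, hsc, smul_mul_assoc, mul_smul_comm, one_mul, mul_one])
        show sc * n * sc⁻¹ ∈ R
        rwa [e, mul_inv_cancel_right]
      refine ⟨(1 + i) * m⁻¹, sc * u, mul_ne_zero hi1 (inv_ne_zero hm0), ⟨mul_mem hscN huN, mul_mem hscU huU,
        MonoidHom.mem_ker.2 (Units.ext ?_)⟩, ?_⟩
      · simp [Matrix.det_mul, hud, hsc, hm4]
      · rw [hue, Units.val_mul, hsc, smul_mul_assoc, one_mul, eM, eM, map_smul, smul_smul, mul_assoc,
          inv_mul_cancel₀ hm0, mul_one]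
    · simp only [NS, ne_eq, not_forall, not_not] at hns
      obtain ⟨k, hk⟩ := hns
      rw [hk, smul_mul_assoc, one_mul, smul_smul] at haa
      have hk2 := eq_one_of_smul_one haa
      refine ⟨1 + i * k, 1, fun e0 => h2 ?_, N.one_mem, ?_⟩
      · linear_combination (1 - i * k) * e0 + k * k * hi - hk2
      · rw [hk, tEl, smul_smul, add_smul, one_smul, Units.val_one, eM, map_one]
  have hsa : ∀ a ∈ scaled R, a * a = 1 → ∀ x y, h (a x) y = h x (a y) := fun a haR haa x y => by
    obtain ⟨g₀, hg₀⟩ := hinv a haR haa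
    have e : a (a x) = x := LinearMap.congr_fun haa x
    rw [hg₀] at e ⊢
    conv_rhs => rw [← e, hEiso]
  have hU₀ : USetup p h (scaled R) (scaled N) i :=
    { base :=
        { pauli := hP
          le := by rintro _ ⟨c, g', hc, hg', rfl⟩; exact ⟨c, g', hc, hRN hg', rfl⟩
          mul := by
            rintro _ ⟨c, g₁, hc, hg₁, rfl⟩ _ ⟨d, g₂, hd, hg₂, rfl⟩
            exact ⟨c * d, g₁ * g₂, mul_ne_zero hc hd, N.mul_mem hg₁ hg₂, by
              rw [smul_mul_smul_comm, Units.val_mul]; simp [eM]⟩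
          inv := by
            rintro _ ⟨c, g₁, hc, hg₁, rfl⟩
            refine ⟨c⁻¹ • eM ((g₁⁻¹ : GL (Fin 4) F) : Matrix (Fin 4) (Fin 4) F),
              ⟨c⁻¹, _, inv_ne_zero hc, N.inv_mem hg₁, rfl⟩, ?_, ?_⟩
            · rw [smul_mul_smul_comm, eM, ← map_mul, ← Units.val_mul, mul_inv_cancel, Units.val_one, map_one,
                mul_inv_cancel₀ hc, one_smul]
            · rw [smul_mul_smul_comm, eM, ← map_mul, ← Units.val_mul, inv_mul_cancel, Units.val_one, map_one,
                inv_mul_cancel₀ hc, one_smul]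
          tel2 := fun a ha haa hna b hb hbb hnb => by
            obtain ⟨c, g', hc, hg', e⟩ := htel2 a ha haa hna b hb hbb hnb
            exact ⟨c, g', hc, hg', e⟩
          sqrt := hi
          two := h2 }
      card := hF
      prime := hp
      conj_i := hip
      herm := H
      nd := hermForm_nondeg hF 4
      sa := hsa
      sim := fun X hX => sim_scaled hF (fun g' (hg' : g' ∈ N) => hg'.2.1) hX }
  -- a transvection outside the normaliser
  have hne : ∃ g ∈ G, g ∉ N := by
    obtain ⟨a, haR, haa, hns, b, hbb, hab⟩ : ∃ a ∈ scaled R, a * a = 1 ∧ NS a ∧ ∃ b : Module.End F (Fin 4 → F),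
        b * b = 1 ∧ a * b = -(b * a) := by
      obtain ⟨r, hr, hrns⟩ : ∃ r ∈ scaled R, NS r := by
        by_contra hc
        push Not at hc
        have hle : (scaled R : Set (Module.End F (Fin 4 → F))) ⊆
            (Submodule.span F {(1 : Module.End F (Fin 4 → F))} : Set _) := fun r hr => by
          have := hc r hr
          simp only [NS, ne_eq, not_forall, not_not] at this
          obtain ⟨c, rfl⟩ := this
          exact Submodule.smul_mem _ _ (Submodule.mem_span_singleton_self _)
        have h64 := Submodule.finrank_mono (Submodule.span_le.2 hle)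
        rw [hP.span, finrank_top, Module.finrank_linearMap, Module.finrank_fin_fun,
          finrank_span_singleton (one_ne_zero)] at h64
        omega
      obtain ⟨d, hd, hdr, hdd⟩ := hP.exists_invol hr
      obtain ⟨b, -, hbb, hab⟩ := hP.exists_partner hdr (hrns.smul hd)
      exact ⟨_, hdr, hdd, hrns.smul hd, b, hbb, hab⟩
    have haRn : -a ∈ scaled R := hP.neg_mem haR
    have hS₀ : USetup p h (scaled R) (scaled N) i := hU₀
    have haiso : ∀ u w, h (a u) (a w) = h u w := fun u w => by
      rw [hsa a haR haa, show a (a w) = w from LinearMap.congr_fun haa w]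
    obtain ⟨x₀, hx₀⟩ := exists_fxd_ne haa hns
    have hd2 : ∀ e : Module.End F (Fin 4 → F), e * e = 1 → ∀ e' : Module.End F (Fin 4 → F), e' * e' = 1 →
        e * e' = -(e' * e) → 2 ≤ Module.finrank F (fxd e) := by
      intro e he e' he' hee
      have := finrank_eq_two_mul h2 he he' hee
      rw [Module.finrank_fin_fun] at this
      omega
    have hnna : (-a) * (-a) = 1 := neg_sq_one haa
    obtain ⟨x, hxx, hx0⟩ := exists_isotropic hF (H.comap (fxd a).subtype) (fxd_nd hS₀ haR haa)
      (hd2 a haa b hbb hab)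
    obtain ⟨y, hyy, hy0⟩ := exists_isotropic hF (H.comap (fxd (-a)).subtype) (fxd_nd hS₀ haRn hnna)
      (hd2 (-a) hnna b hbb (LinearMap.ext fun z => by
        have := LinearMap.congr_fun hab z
        simp only [Module.End.mul_apply, LinearMap.neg_apply, map_neg, neg_neg] at this ⊢
        rw [this, neg_neg]))
    have hax : a (x : Fin 4 → F) = x := mem_fxd.1 x.2
    have hay : a (y : Fin 4 → F) = -y := neg_eq_iff_eq_neg.1 (mem_fxd.1 y.2)
    have hxy : h (x : Fin 4 → F) y = 0 := hS₀.ortho haR haa hax hay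
    have hyx := (H.eq_zero_symm hF).1 hxy
    set v := (x : Fin 4 → F) + (y : Fin 4 → F) with hv
    set w := a v with hw
    have hwv : w = (x : Fin 4 → F) - y := by rw [hw, hv, map_add, hax, hay, sub_eq_add_neg]
    have hvv : h v v = 0 := by
      rw [hv, H.add_left, H.add_right hF, H.add_right hF, hxy, hyx, show h (x : Fin 4 → F) x = 0 from hxx,
        show h (y : Fin 4 → F) y = 0 from hyy]
      simp
    have hwvz : h w v = 0 := by
      rw [hwv, hv, H.sub_left, H.add_right hF, H.add_right hF, hxy, hyx, show h (x : Fin 4 → F) x = 0 from hxx,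
        show h (y : Fin 4 → F) y = 0 from hyy]
      simp
    have hskew : i + i ^ p = 0 := by rw [hip, add_neg_cancel]
    refine ⟨glTransvection hF v hvv i hskew, suToGU_mem_suGL _, fun hN => ?_⟩
    set u := glTransvection hF v hvv i hskew
    set T := eM (u : Matrix (Fin 4) (Fin 4) F)
    set T' := eM ((u⁻¹ : GL (Fin 4) F) : Matrix (Fin 4) (Fin 4) F)
    have hT : ∀ z, T z = z + (i * h z v) • v := fun z => by rw [eM_apply]; exact transvection_mulVec v z i
    have hTT : T' * T = 1 := by rw [← map_mul, ← Units.val_mul, inv_mul_cancel, Units.val_one, map_one]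
    have hT' : ∀ z, T' z = z - (i * h z v) • v := fun z => by
      have e := LinearMap.congr_fun hTT (z - (i * h z v) • v)
      rw [Module.End.mul_apply, hT, H.sub_left, H.smul_left, hvv, mul_zero, sub_zero, sub_add_cancel,
        Module.End.one_apply] at e
      exact e
    obtain ⟨g₀, hg₀⟩ := hinv a haR haa
    set X := eM ((u * (g₀ : GL (Fin 4) F) * u⁻¹ : GL (Fin 4) F) : Matrix (Fin 4) (Fin 4) F) with hX
    have hXval : X = T * a * T' := by
      simp only [hX, Units.val_mul, eM, map_mul, hg₀, T, T']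
      rfl
    have hXR : X ∈ scaled R := mem_sc ((Subgroup.mem_normalizer_iff.mp hN.1 _).mp g₀.2) rfl
    obtain ⟨k, -, hk⟩ := hP.sq _ (hP.mul a haR X hXR)
    set Nil : (Fin 4 → F) → (Fin 4 → F) := fun z => (i * h z w) • w - (i * h z v) • v with hNil
    have hr : ∀ z, (a * X) z = z + Nil z := by
      intro z
      have e1 : h (a z) v = h z w := hsa a haR haa z v
      rw [hXval, Module.End.mul_apply, Module.End.mul_apply, Module.End.mul_apply, hT', map_sub, map_smul, hT,
        H.sub_left, H.smul_left, ← hw, hwvz, mul_zero, sub_zero, e1, map_add, map_sub, map_smul, map_smul, hw,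
        show a (a z) = z from LinearMap.congr_fun haa z, show a (a v) = v from LinearMap.congr_fun haa v]
      simp only [hNil, hw]
      abel
    have hww' : h w w = 0 := by rw [hw, haiso, hvv]
    have hvw : h v w = 0 := (H.eq_zero_symm hF).1 hwvz
    have hNN : ∀ z, Nil (z + Nil z) = Nil z := fun z => by
      simp only [hNil, H.add_left, H.sub_left, H.smul_left, hvv, hww', hvw, hwvz, mul_zero, sub_zero, add_zero]
    have hsqr : ∀ z, z + Nil z + Nil z = (k * k) • z := fun z => by
      have e := LinearMap.congr_fun hk z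
      rw [Module.End.mul_apply, hr z, hr, hNN, LinearMap.smul_apply, Module.End.one_apply] at e
      exact e
    -- a vector moved by the nilpotent part
    obtain ⟨z, hzv, hzw⟩ : ∃ z, h z v ≠ 0 ∧ h z w = 0 := by
      obtain ⟨x', -, hx'⟩ := exists_partner_iso hF (H.comap (fxd a).subtype) (fxd_nd hS₀ haR haa) hxx hx0
      obtain ⟨y', -, hy'⟩ := exists_partner_iso hF (H.comap (fxd (-a)).subtype) (fxd_nd hS₀ haRn hnna) hyy hy0
      have e1 : h (x : Fin 4 → F) x' = 1 := hx'
      have e2 : h (y : Fin 4 → F) y' = 1 := hy'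
      have e1' : h (x' : Fin 4 → F) x = 1 := by rw [H.conj_symm (x : Fin 4 → F) x', e1, one_pow]
      have e2' : h (y' : Fin 4 → F) y = 1 := by rw [H.conj_symm (y : Fin 4 → F) y', e2, one_pow]
      have o1 : h (x' : Fin 4 → F) y = 0 := hS₀.ortho haR haa (mem_fxd.1 x'.2) hay
      have o2 : h (y' : Fin 4 → F) x = 0 :=
        (H.eq_zero_symm hF).1 (hS₀.ortho haR haa hax (neg_eq_iff_eq_neg.1 (mem_fxd.1 y'.2)))
      refine ⟨(x' : Fin 4 → F) + y', ?_, ?_⟩
      · rw [hv, H.add_left, H.add_right hF, H.add_right hF, e1', o1, o2, e2']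
        simpa [one_add_one_eq_two] using h2
      · rw [hwv, H.add_left, H.sub_right hF, H.sub_right hF, e1', o1, o2, e2']; ring
    have hv0 : v ≠ 0 := fun e0 => hzv (by rw [e0, H.zero_right hF])
    have hzz := hsqr z
    have hvz := hsqr v
    simp only [hNil, hvv, hvw, mul_zero, zero_smul, sub_zero, add_zero] at hvz
    have hk1 : k * k = 1 := (smul_left_injective F hv0 ((one_smul F v).trans hvz)).symm
    rw [hk1, one_smul] at hzz
    simp only [hNil, hzw, mul_zero, zero_smul, zero_sub] at hzz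
    have e5 : ((2 : F) * (i * h z v)) • v = 0 := by linear_combination (norm := module) -hzz
    exact mul_ne_zero h2 (mul_ne_zero hi0 hzv) ((smul_eq_zero.1 e5).resolve_right hv0)
  refine Unitary.isMaximalIn_of_forall inf_le_right hne fun M hNM hMG g hg hgN => ?_
  have hU : USetup p h (scaled R) (scaled M) i :=
    { base :=
        { pauli := hP
          le := by rintro _ ⟨c, g', hc, hg', rfl⟩; exact ⟨c, g', hc, hNM (hRN hg'), rfl⟩
          mul := by
            rintro _ ⟨c, g₁, hc, hg₁, rfl⟩ _ ⟨d, g₂, hd, hg₂, rfl⟩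
            exact ⟨c * d, g₁ * g₂, mul_ne_zero hc hd, M.mul_mem hg₁ hg₂, by
              rw [smul_mul_smul_comm, Units.val_mul]; simp [eM]⟩
          inv := by
            rintro _ ⟨c, g₁, hc, hg₁, rfl⟩
            refine ⟨c⁻¹ • eM ((g₁⁻¹ : GL (Fin 4) F) : Matrix (Fin 4) (Fin 4) F),
              ⟨c⁻¹, _, inv_ne_zero hc, M.inv_mem hg₁, rfl⟩, ?_, ?_⟩
            · rw [smul_mul_smul_comm, eM, ← map_mul, ← Units.val_mul, mul_inv_cancel, Units.val_one, map_one,
                mul_inv_cancel₀ hc, one_smul]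
            · rw [smul_mul_smul_comm, eM, ← map_mul, ← Units.val_mul, inv_mul_cancel, Units.val_one, map_one,
                inv_mul_cancel₀ hc, one_smul]
          tel2 := fun a ha haa hna b hb hbb hnb => by
            obtain ⟨c, g', hc, hg', e⟩ := htel2 a ha haa hna b hb hbb hnb
            exact ⟨c, g', hc, hNM hg', e⟩
          sqrt := hi
          two := h2 }
      card := hF
      prime := hp
      conj_i := hip
      herm := H
      nd := hermForm_nondeg hF 4
      sa := hsa
      sim := fun X hX => sim_scaled hF (fun g' hg' => (hMG hg').1) hX }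
  have hmain : AllC p h (scaled M) ∨ ∀ g ∈ scaled M, Norml (scaled R) g := by
    rcases (show p % 8 = 3 ∨ p % 8 = 7 by omega) with hp8 | hp8
    · exact hU.main_four hp4 (no_real_root_two hF hp hp8) (Module.finrank_fin_fun F)
    · refine (hU.main hp4 fun a ha haa => ?_).imp_left And.left
      obtain ⟨c, g', hc, hg', e⟩ := hfull hp8 a ha haa
      exact ⟨c, g', hc, hNM hg', e⟩
  rcases hmain with hall | hnorm
  · refine le_of_centres hF (Or.inl (by norm_num)) fun v hv => ⟨hv, fun t c hc ht => ?_⟩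
    obtain ⟨X, ⟨k, g', hk, hg', rfl⟩, hXv⟩ := (hall v hv).2 c hc
    have e : (t : Matrix (Fin 4) (Fin 4) F) = k • (g' : Matrix (Fin 4) (Fin 4) F) := by
      refine Matrix.ext_iff_mulVec.2 fun z => ?_
      rw [ht, transvection_mulVec, Matrix.smul_mulVec, ← eM_apply]
      exact (hXv z).symm
    have htG : t ∈ G := by
      have h5 := suToGU_mem_suGL (suTransvection hF v hv c hc)
      convert h5 using 1
      exact Units.ext ht
    have hz : (((t * g'⁻¹ : GL (Fin 4) F)) : Matrix (Fin 4) (Fin 4) F) = k • 1 := by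
      rw [Units.val_mul, e, smul_mul_assoc, ← Units.val_mul, mul_inv_cancel, Units.val_one]
    have hzN := hNM (scalar_mem _ k hz (G.mul_mem htG (G.inv_mem (hMG hg'))))
    simpa using M.mul_mem hzN hg'
  · exfalso
    refine hgN ⟨Subgroup.mem_normalizer_fintype fun n hn => ?_, hMG hg⟩
    obtain ⟨Y, ⟨c, r, hc, hr, rfl⟩, e⟩ := hnorm _ ⟨1, g, one_ne_zero, hg, rfl⟩ _ ⟨1, n, one_ne_zero, hn, rfl⟩
    rw [one_smul, one_smul, smul_mul_assoc, eM, eM, ← map_mul, ← map_mul, ← map_smul] at e
    have e' := (Matrix.toLinAlgEquiv' (R := F) (n := Fin 4)).injective e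
    have hm : ((g * n * g⁻¹ : GL (Fin 4) F) : Matrix (Fin 4) (Fin 4) F) = c • (r : Matrix (Fin 4) (Fin 4) F) := by
      rw [Units.val_mul, Units.val_mul, e', smul_mul_assoc, mul_assoc, ← Units.val_mul, mul_inv_cancel, Units.val_one,
        mul_one]
    have hgn4 : (g * n * g⁻¹) ^ 4 = 1 := by
      have h5 : (n : GL (Fin 4) F) ^ 4 = 1 := congrArg Subtype.val (h4 ⟨n, hn⟩)
      rw [conj_pow, h5, mul_one, mul_inv_cancel]
    have hc4 : c ^ 4 = 1 := by
      have e4 := congrArg (fun u : GL (Fin 4) F => (u : Matrix (Fin 4) (Fin 4) F)) hgn4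
      simp only [Units.val_pow_eq_pow_val, Units.val_one, hm, smul_pow] at e4
      have h5 : ((r : GL (Fin 4) F) : Matrix (Fin 4) (Fin 4) F) ^ 4 = 1 := by
        rw [← Units.val_pow_eq_pow_val, show r ^ 4 = 1 from congrArg Subtype.val (h4 ⟨r, hr⟩), Units.val_one]
      rw [h5] at e4
      exact sc_inj (e4.trans (one_smul F _).symm)
    obtain ⟨z, hz⟩ := hscR hc4
    have : g * n * g⁻¹ = ((z * ⟨r, hr⟩ : R) : GL (Fin 4) F) := Units.ext (by
      rw [hm]
      show _ = E (z * ⟨r, hr⟩)
      rw [E_mul, hz, smul_mul_assoc, one_mul])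
    rw [this]
    exact Subtype.prop _

end Cfsg.Agent.C6U
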